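import Cfsg.Agent.SmallSimple.Basic
import Cfsg.Agent.PermSimple.Criteria
import Cfsg.Agent.Char.Burnside

/-!
A decidable sufficient condition excluding an order from being that of a non-abelian simple group.
-/

set_option autoImplicit false

namespace CfsgLib.SmallOrder

open Subgroup

variable {G : Type*} [Group G] [Finite G] [IsSimpleGroup G]

/-- The number `k` is possible as the number of Sylow `p`-subgroups in a simple group of order
`p ^ e * m`, as far as embeddings in alternating groups and Burnside's transfer theorem tell. -/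
def Excluded (p e m k : ℕ) : Prop :=
  k ∣ m → k % p = 1 → k ≠ 1 → (e = 1 ∧ Nat.gcd (m / k) (p - 1) = 1) ∨ ¬ 2 * (p ^ e * m) ∣ k.factorial

instance (p e m k : ℕ) : Decidable (Excluded p e m k) := by unfold Excluded; infer_instance

/-- Two prime divisors are not enough. -/
theorem false_of_two_primes (hG : ¬ IsMulCommutative G) (p q a b : ℕ) (hp : p.Prime) (hq : q.Prime)
    (h : Nat.card G = p ^ a * q ^ b) : False := by
  haveI := CfsgLib.Char.isSolvable_of_card_eq p q a b hp hq h
  exact hG ⟨⟨IsSimpleGroup.comm_iff_isSolvable.2 inferInstance⟩⟩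

/-- If every candidate for the number of Sylow `p`-subgroups is excluded, there is no such simple
group. -/
theorem false_of_excluded (hG : ¬ IsMulCommutative G) (p e m : ℕ) (hp : p.Prime) (he : 0 < e)
    (h : Nat.card G = p ^ e * m) (hpm : ¬ p ∣ m) (hm : 1 < m)
    (hk : ∀ k ∈ List.range (m + 1), Excluded p e m k) : False := by
  have : Fact p.Prime := ⟨hp⟩
  obtain ⟨P⟩ : Nonempty (Sylow p G) := inferInstance
  have hP := CfsgLib.SmallSimple.card_sylow_eq P h hpm
  have hpe : 1 < p ^ e := one_lt_pow₀ hp.one_lt he.ne'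
  have hPlt : Nat.card (P : Subgroup G) < Nat.card G := by
    rw [hP, h]; exact lt_mul_of_one_lt_right (by omega) hm
  have hP1 : 1 < Nat.card (P : Subgroup G) := hP ▸ hpe
  set N := normalizer ((P : Subgroup G) : Set G)
  set k := Nat.card (Sylow p G)
  have hkm : k ∣ m := by
    have h1 := P.card_dvd_index
    have h2 := (P : Subgroup G).card_mul_index
    rw [hP, h] at h2
    rwa [Nat.eq_of_mul_eq_mul_left (by omega) h2] at h1
  have hkN : k * Nat.card N = p ^ e * m := (CfsgLib.SmallSimple.card_sylow_mul P).trans h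
  have hk1 : k % p = 1 := Eq.trans (card_sylow_modEq_one p G) (Nat.mod_eq_of_lt hp.one_lt)
  rcases hk k (List.mem_range.2 (Nat.lt_succ_of_le (Nat.le_of_dvd (by omega) hkm))) hkm hk1
      (CfsgLib.SmallSimple.card_sylow_ne_one P hP1 hPlt) with ⟨rfl, hg⟩ | hnd
  · -- the normaliser centralises
    rw [pow_one] at hP hkN
    refine CfsgLib.SmallSimple.not_le_centralizer P hP1 hPlt ?_
    set C := centralizer ((P : Subgroup G) : Set G)
    have hPC : (P : Subgroup G) ≤ C := by
      haveI : IsCyclic (P : Subgroup G) := isCyclic_of_prime_card hP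
      exact fun x hx => mem_centralizer_iff.2 fun y hy =>
        setLike_mul_comm (S := Subgroup G) hy hx
    obtain ⟨c, hc⟩ : p ∣ Nat.card C := hP ▸ card_dvd_of_le hPC
    have hCN : C ≤ N := centralizer_le_normalizer _
    have hkpos : 0 < k := Nat.card_pos
    have hN : Nat.card N = p * (m / k) := by
      refine Nat.eq_of_mul_eq_mul_left hkpos (hkN.trans ?_)
      rw [mul_left_comm, Nat.mul_div_cancel' hkm]
    have hr : C.relIndex N * Nat.card C = Nat.card N := by
      rw [← relIndex_bot_left, ← relIndex_bot_left, mul_comm]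
      exact relIndex_mul_relIndex _ _ _ bot_le hCN
    have h1 : C.relIndex N ∣ m / k := by
      refine ⟨c, Nat.eq_of_mul_eq_mul_left hp.pos ?_⟩
      rw [← hN, ← hr, hc]
      ring
    have h2 : C.relIndex N ∣ p - 1 := by
      have hd := CfsgLib.PermSimple.normalizer_card_dvd (P : Subgroup G) hP
      rw [← hr, mul_comm] at hd
      exact (Nat.mul_dvd_mul_iff_left Nat.card_pos).1 hd
    exact relIndex_eq_one.1 (Nat.dvd_one.1 (hg ▸ Nat.dvd_gcd h1 h2))
  · -- embedding in the alternating group on the Sylow subgroups
    have hidx : N.index = k := P.card_eq_index_normalizer.symm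
    have hk2 : 2 ≤ k := by
      have h0 : 0 < k := Nat.card_pos
      have : k ≠ 1 := CfsgLib.SmallSimple.card_sylow_ne_one P hP1 hPlt
      omega
    have hNtop : N ≠ ⊤ := fun htop => by rw [htop, index_top] at hidx; omega
    obtain ⟨f, hf⟩ := CfsgLib.SmallSimple.exists_hom_alternating hG N hNtop
    have h3 := Nat.mul_dvd_mul_left 2 (card_dvd_of_injective f hf)
    haveI : Nontrivial (Fin N.index) := Fin.nontrivial_iff_two_le.2 (hidx ▸ hk2)
    rw [two_mul_nat_card_alternatingGroup, Nat.card_perm, Nat.card_fin, hidx, h] at h3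
    exact hnd h3

end CfsgLib.SmallOrder
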