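import Cfsg.Agent.Comp.Basic
import Cfsg.Agent.Solvable.Basics
import Cfsg.Prelude.Def_Local

/-!
Groups of characteristic `p` (`C_X(O_p(X)) ≤ O_p(X)`), the `P × Q` lemma, and the passage
from the centralizer of an element to the normalizers of the `p`-subgroups containing it.
-/

set_option autoImplicit false
set_option linter.style.haveILetI false
set_option linter.unusedSectionVars false
set_option linter.unusedVariables false

namespace CfsgLib.CharP

open Subgroup

variable {G : Type*} [Group G]

/-- `C_X(O_p(X)) ≤ O_p(X)`. -/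
def HasCharP (p : ℕ) (X : Type*) [Group X] : Prop :=
  centralizer (Cfsg.pCore p X : Set X) ≤ Cfsg.pCore p X

/-- `O_p(H)` as a subgroup of the ambient group. -/
def opIn (p : ℕ) (H : Subgroup G) : Subgroup G :=
  (Cfsg.pCore p H).map H.subtype

/-! ### Elements of coprime order -/

theorem eq_one_of_pow_eq_one_of_coprime {x : G} {m n : ℕ} (hm : x ^ m = 1) (hn : x ^ n = 1)
    (h : m.Coprime n) : x = 1 := by
  rw [← orderOf_eq_one_iff]
  exact Nat.eq_one_of_dvd_coprimes h (orderOf_dvd_of_pow_eq_one hm) (orderOf_dvd_of_pow_eq_one hn)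

theorem eq_one_of_mem_pgroup {p : ℕ} {R : Subgroup G} (hR : IsPGroup p R)
    {x : G} (hx : x ∈ R) (hc : (orderOf x).Coprime p) : x = 1 := by
  obtain ⟨k, hk⟩ := hR ⟨x, hx⟩
  exact eq_one_of_pow_eq_one_of_coprime (pow_orderOf_eq_one x)
    (by simpa using congrArg Subtype.val hk) (hc.pow_right k)

/-- The coprime trick: if `y` moves `r` by an element `δ` of a `p`-group which it fixes, and the
order of `y` is prime to `p`, then `y` fixes `r`. -/
theorem eq_one_of_commutator_fixed {p : ℕ} {R : Subgroup G} (hR : IsPGroup p R) {y r δ : G}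
    (hδR : δ ∈ R) (hy : (orderOf y).Coprime p) (hr : y * r * y⁻¹ = r * δ)
    (hfix : y * δ * y⁻¹ = δ) : δ = 1 := by
  have hpow : ∀ n : ℕ, y ^ n * r * (y ^ n)⁻¹ = r * δ ^ n := by
    intro n
    induction n with
    | zero => simp
    | succ n ih =>
      have : y ^ (n + 1) * r * (y ^ (n + 1))⁻¹ = y * (y ^ n * r * (y ^ n)⁻¹) * y⁻¹ := by
        rw [pow_succ']; group
      rw [this, ih, ← conj_mul, hr, ← conj_pow, hfix, pow_succ', mul_assoc]
  have h1 : δ ^ orderOf y = 1 := by
    have h0 := hpow (orderOf y)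
    rw [pow_orderOf_eq_one, one_mul, inv_one, mul_one] at h0
    exact mul_left_cancel (a := r) (by rw [mul_one]; exact h0.symm)
  obtain ⟨k, hk⟩ := hR ⟨δ, hδR⟩
  exact eq_one_of_pow_eq_one_of_coprime h1 (by simpa using congrArg Subtype.val hk)
    (hy.pow_right k)

theorem normalizer_le_normalizer_centralizer' (U : Subgroup G) :
    normalizer (U : Set G) ≤ normalizer (centralizer (U : Set G) : Set G) := by
  have key : ∀ g ∈ normalizer (U : Set G), ∀ c ∈ centralizer (U : Set G),
      g * c * g⁻¹ ∈ centralizer (U : Set G) := by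
    intro g hg c hc
    rw [mem_centralizer_iff] at hc ⊢
    intro u hu
    have hu' : g⁻¹ * u * g ∈ U := by
      simpa using (mem_normalizer_iff.1 (inv_mem hg) u).1 hu
    calc u * (g * c * g⁻¹) = g * ((g⁻¹ * u * g) * c) * g⁻¹ := by group
      _ = g * (c * (g⁻¹ * u * g)) * g⁻¹ := by rw [hc _ hu']
      _ = g * c * g⁻¹ * u := by group
  intro g hg
  rw [mem_normalizer_iff]
  refine fun c => ⟨key g hg c, fun hc => ?_⟩
  simpa [mul_assoc] using key g⁻¹ (inv_mem hg) _ hc

/-- Normalizer growth inside a `p`-subgroup. -/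
theorem exists_mem_normalizer_notMem [Finite G] {p : ℕ} [Fact p.Prime] {A B : Subgroup G}
    (hB : IsPGroup p B) (h : A < B) :
    ∃ x ∈ B, x ∉ A ∧ x ∈ normalizer (A : Set G) := by
  haveI : Group.IsNilpotent B := hB.isNilpotent
  have hlt : A.subgroupOf B < ⊤ := by
    refine lt_top_iff_ne_top.2 fun htop => h.not_ge ?_
    exact subgroupOf_eq_top.1 htop
  obtain ⟨x, hxN, hxA⟩ := SetLike.exists_of_lt (Group.normalizerCondition_of_isNilpotent _ hlt)
  refine ⟨x, x.2, fun hx => hxA (mem_subgroupOf.2 hx), ?_⟩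
  rw [mem_normalizer_iff] at hxN ⊢
  intro a
  constructor
  · intro ha
    have := (hxN ⟨a, h.le ha⟩).1 (mem_subgroupOf.2 ha)
    simpa [mem_subgroupOf] using this
  · intro ha
    have haB : a ∈ B := by
      have : (x : G)⁻¹ * ((x : G) * a * (x : G)⁻¹) * (x : G) ∈ B :=
        mul_mem (mul_mem (inv_mem x.2) (h.le ha)) x.2
      simpa [mul_assoc] using this
    have := (hxN ⟨a, haB⟩).2 (by simpa [mem_subgroupOf] using ha)
    simpa [mem_subgroupOf] using this

/-- The `P × Q` lemma. -/
theorem centralizes_of_centralizes_fixed [Finite G] {p : ℕ} [Fact p.Prime] {T R : Subgroup G}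
    {y : G} (hT : IsPGroup p T) (hR : IsPGroup p R) (hTR : T ≤ normalizer (R : Set G))
    (hyR : y ∈ normalizer (R : Set G)) (hyT : y ∈ centralizer (T : Set G))
    (hy : (orderOf y).Coprime p) (hfix : R ⊓ centralizer (T : Set G) ≤ centralizer {y}) :
    R ≤ centralizer {y} := by
  by_contra hcon
  set C : Subgroup G := R ⊓ centralizer {y} with hCdef
  have hTy : T ≤ centralizer {y} := by
    intro t ht
    rw [mem_centralizer_singleton_iff]
    exact mem_centralizer_iff.1 hyT t ht
  have hTC : T ≤ normalizer (C : Set G) :=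
    (le_inf hTR (hTy.trans le_normalizer)).trans inf_normalizer_le_normalizer_inf
  have hTCR : T ⊔ C ≤ T ⊔ R := sup_le_sup_left inf_le_left T
  have hsupR : (T ⊔ C) ⊓ R = C := by
    refine le_antisymm (le_inf inf_le_right (inf_le_left.trans ?_)) (le_inf le_sup_right inf_le_left)
    exact sup_le hTy inf_le_right
  have hlt : T ⊔ C < T ⊔ R := by
    refine lt_of_le_of_ne hTCR fun h => hcon ?_
    have h2 : R ≤ C := by rw [← hsupR, h]; exact le_inf le_sup_right le_rfl
    exact h2.trans inf_le_right
  obtain ⟨x, hxTR, hxTC, hxN⟩ :=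
    exists_mem_normalizer_notMem (hT.to_sup_of_normal_right' hR hTR) hlt
  obtain ⟨t, ht, r, hr, rfl⟩ := (CfsgLib.Solvable.mem_sup_of_le_normalizer hTR).1 hxTR
  have htTC : t ∈ T ⊔ C := mem_sup_left ht
  have hrC : r ∉ C := fun h => hxTC (mul_mem htTC (mem_sup_right h))
  have hrN : r ∈ normalizer ((T ⊔ C : Subgroup G) : Set G) := by
    have := mul_mem (inv_mem (le_normalizer htTC)) hxN
    simpa using this
  have hrNC : ∀ c ∈ C, r * c * r⁻¹ ∈ C := fun c hc => by
    rw [← hsupR]
    exact mem_inf.2 ⟨(mem_normalizer_iff.1 hrN c).1 (mem_sup_right hc),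
      mul_mem (mul_mem hr (mem_inf.1 hc).1) (inv_mem hr)⟩
  set r' : G := y * r * y⁻¹ with hr'
  set δ : G := r⁻¹ * r' with hδ
  have hr'R : r' ∈ R := (mem_normalizer_iff.1 hyR r).1 hr
  have hδR : δ ∈ R := mul_mem (inv_mem hr) hr'R
  have hδC : ∀ c ∈ C, δ * c * δ⁻¹ = c := by
    intro c hc
    have h1 : r' * c * r'⁻¹ = r * c * r⁻¹ := by
      have hcy : y * c * y⁻¹ = c := by
        rw [mem_centralizer_singleton_iff.1 hc.2 |>.symm, mul_inv_cancel_right]
      have h2 : y * (r * c * r⁻¹) * y⁻¹ = r * c * r⁻¹ := by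
        rw [mem_centralizer_singleton_iff.1 (hrNC c hc).2 |>.symm, mul_inv_cancel_right]
      calc r' * c * r'⁻¹ = y * r * (y⁻¹ * (y * c * y⁻¹) * y) * r⁻¹ * y⁻¹ := by
            rw [hr', hcy]; group
        _ = y * (r * c * r⁻¹) * y⁻¹ := by group
        _ = r * c * r⁻¹ := h2
    calc δ * c * δ⁻¹ = r⁻¹ * (r' * c * r'⁻¹) * r := by rw [hδ]; group
      _ = c := by rw [h1]; group
  have hδT : δ ∈ centralizer (T : Set G) := by
    rw [mem_centralizer_iff]
    intro s hs
    have hc : r⁻¹ * (s * r * s⁻¹) ∈ C := by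
      rw [← hsupR]
      refine mem_inf.2 ⟨?_, mul_mem (inv_mem hr) ((mem_normalizer_iff.1 (hTR hs) r).1 hr)⟩
      have h1 : r⁻¹ * s * r ∈ T ⊔ C := by
        simpa using (mem_normalizer_iff.1 (inv_mem hrN) s).1 (mem_sup_left hs)
      have := mul_mem h1 (inv_mem (mem_sup_left (S := T) (T := C) hs))
      simpa [mul_assoc] using this
    set c := r⁻¹ * (s * r * s⁻¹) with hcdef
    have hcy : y * c * y⁻¹ = c := by
      rw [mem_centralizer_singleton_iff.1 hc.2 |>.symm, mul_inv_cancel_right]
    have hsy : y * s = s * y := (mem_centralizer_iff.1 hyT s hs).symm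
    have h3 : s * r' * s⁻¹ = r' * c := by
      calc s * r' * s⁻¹ = (s * y) * r * (s * y)⁻¹ := by rw [hr']; group
        _ = (y * s) * r * (y * s)⁻¹ := by rw [hsy]
        _ = y * (r * c) * y⁻¹ := by rw [hcdef]; group
        _ = y * r * y⁻¹ * (y * c * y⁻¹) := by group
        _ = r' * c := by rw [hcy, hr']
    have h4 : s * δ * s⁻¹ = δ := by
      calc s * δ * s⁻¹ = (s * r * s⁻¹)⁻¹ * (s * r' * s⁻¹) := by rw [hδ]; group
        _ = (r * c)⁻¹ * (r' * c) := by rw [h3, hcdef]; group
        _ = c⁻¹ * δ * c := by rw [hδ]; group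
        _ = δ := by
          have := hδC c hc
          calc c⁻¹ * δ * c = c⁻¹ * (δ * c * δ⁻¹) * δ := by group
            _ = δ := by rw [this]; group
    calc s * δ = s * δ * s⁻¹ * s := by group
      _ = δ * s := by rw [h4]
  have hδfix : y * δ * y⁻¹ = δ := by
    rw [mem_centralizer_singleton_iff.1 (hfix ⟨hδR, hδT⟩) |>.symm, mul_inv_cancel_right]
  have hδ1 : δ = 1 := eq_one_of_commutator_fixed (r := r) hR hδR hy (by rw [hδ, hr', mul_inv_cancel_left]) hδfix
  refine hrC ⟨hr, mem_centralizer_singleton_iff.2 ?_⟩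
  have : r' = r := by rw [hδ] at hδ1; exact (inv_mul_eq_one.1 hδ1).symm
  calc r * y = y * r * y⁻¹ * y := by rw [← hr', this]
    _ = y * r := by group

/-! ### The subgroup `O_p(H)` -/

section OpIn

variable {p : ℕ}

theorem opIn_le (H : Subgroup G) : opIn p H ≤ H := map_subtype_le _

theorem le_normalizer_opIn (H : Subgroup G) :
    H ≤ normalizer (opIn p H : Set G) :=
  Comp.normal_map_subtype_iff.1 (Cfsg.pCore_normal p H)

theorem le_opIn {H N : Subgroup G} (hNH : N ≤ H) (hN : IsPGroup p N)
    (hn : H ≤ normalizer (N : Set G)) : N ≤ opIn p H := by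
  rw [← map_subgroupOf_eq_of_le hNH]
  exact map_mono (Solvable.le_pCore p (normal_subgroupOf_of_le_normalizer hn)
    (hN.of_equiv (subgroupOfEquivOfLe hNH).symm))

variable [Finite G]

theorem isPGroup_opIn (H : Subgroup G) : IsPGroup p (opIn p H) :=
  (Solvable.isPGroup_pCore p).map _

theorem opIn_map_equiv {G' : Type*} [Group G'] [Finite G'] (e : G ≃* G') (H : Subgroup G) :
    (opIn p H).map e.toMonoidHom ≤ opIn p (H.map e.toMonoidHom) :=
  le_opIn (map_mono (opIn_le H)) ((isPGroup_opIn H).map _)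
    ((map_mono (le_normalizer_opIn H)).trans (le_normalizer_map _))

theorem le_normalizer_opIn_of_le_normalizer {Y H : Subgroup G}
    (h : H ≤ normalizer (Y : Set G)) : H ≤ normalizer (opIn p Y : Set G) := by
  intro g hg
  have key : ∀ x ∈ H, ∀ a ∈ opIn p Y, x * a * x⁻¹ ∈ opIn p Y := by
    intro x hx a ha
    have hY : Y.map (MulAut.conj x).toMonoidHom = Y :=
      (mem_normalizer_iff_map_conj_eq).1 (h hx)
    have h1 := opIn_map_equiv (p := p) (MulAut.conj x) Y (mem_map_of_mem _ ha)
    rw [hY] at h1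
    simpa using h1
  rw [mem_normalizer_iff]
  intro a
  refine ⟨key g hg a, fun ha => ?_⟩
  have := key g⁻¹ (inv_mem hg) _ ha
  simpa [mul_assoc] using this

theorem opIn_mono {Y H : Subgroup G} (hYH : Y ≤ H) (h : H ≤ normalizer (Y : Set G)) :
    opIn p Y ≤ opIn p H :=
  le_opIn ((opIn_le Y).trans hYH) (isPGroup_opIn Y) (le_normalizer_opIn_of_le_normalizer h)

/-- A `p`-subgroup normalized by a Sylow `p`-subgroup lies in it. -/
theorem le_sylow_of_le_normalizer [Fact p.Prime] (S : Sylow p G) {R : Subgroup G}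
    (hR : IsPGroup p R) (h : (S : Subgroup G) ≤ normalizer (R : Set G)) : R ≤ (S : Subgroup G) := by
  have hsup : IsPGroup p ((S : Subgroup G) ⊔ R : Subgroup G) :=
    S.2.to_sup_of_normal_right' hR h
  rw [← S.3 hsup le_sup_left]
  exact le_sup_right

end OpIn

/-! ### Characteristic `p` -/

section Char

variable {p : ℕ}

theorem hasCharP_subgroup_iff (H : Subgroup G) :
    HasCharP p H ↔ H ⊓ centralizer (opIn p H : Set G) ≤ opIn p H := by
  constructor
  · intro h x hx
    refine ⟨⟨x, hx.1⟩, h ?_, rfl⟩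
    rw [mem_centralizer_iff]
    intro a ha
    exact Subtype.ext (mem_centralizer_iff.1 hx.2 a ⟨a, ha, rfl⟩)
  · intro h x hx
    have h2 : (x : G) ∈ opIn p H := by
      refine h ⟨x.2, ?_⟩
      change _ ∈ centralizer _
      rw [mem_centralizer_iff]
      rintro _ ⟨a, ha, rfl⟩
      exact congrArg Subtype.val (mem_centralizer_iff.1 hx a ha)
    obtain ⟨a, ha, hax⟩ := h2
    rwa [← Subtype.ext hax]

variable [Finite G] [Fact p.Prime]

theorem isPGroup_of_forall_eq_one {X : Type*} [Group X] [Finite X]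
    (h : ∀ x : X, (orderOf x).Coprime p → x = 1) : IsPGroup p X := by
  rw [IsPGroup.iff_card]
  refine ⟨_, Nat.eq_prime_pow_of_unique_prime_dvd Nat.card_pos.ne' fun {q} hq hdvd => ?_⟩
  by_contra hqp
  haveI := Fact.mk hq
  obtain ⟨x, hx⟩ := exists_prime_orderOf_dvd_card' q hdvd
  have := h x (hx ▸ (Nat.coprime_primes hq Fact.out).2 hqp)
  rw [this, orderOf_one] at hx
  exact hq.one_lt.ne hx

/-- To prove characteristic `p` it is enough to kill the `p'`-elements centralizing `O_p`. -/
theorem hasCharP_of_forall {X : Type*} [Group X] [Finite X]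
    (h : ∀ y : X, (orderOf y).Coprime p → y ∈ centralizer (Cfsg.pCore p X : Set X) → y = 1) :
    HasCharP p X :=
  Solvable.le_pCore p inferInstance
    (isPGroup_of_forall_eq_one fun x hx => Subtype.ext (h x (by rwa [orderOf_coe]) x.2))

theorem HasCharP.eq_one {X : Type*} [Group X] [Finite X] (hX : HasCharP p X) {y : X}
    (hy : (orderOf y).Coprime p) (hc : y ∈ centralizer (Cfsg.pCore p X : Set X)) : y = 1 :=
  eq_one_of_mem_pgroup (Solvable.isPGroup_pCore p) (hX hc) hy

theorem HasCharP.eq_one_subgroup {H : Subgroup G} (hH : HasCharP p H) {y : G}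
    (hy : (orderOf y).Coprime p) (hyH : y ∈ H) (hc : y ∈ centralizer (opIn p H : Set G)) :
    y = 1 :=
  eq_one_of_mem_pgroup (isPGroup_opIn H) ((hasCharP_subgroup_iff H).1 hH ⟨hyH, hc⟩) hy

theorem hasCharP_subgroup_of_forall {H : Subgroup G}
    (h : ∀ y : G, (orderOf y).Coprime p → y ∈ H → y ∈ centralizer (opIn p H : Set G) → y = 1) :
    HasCharP p H := by
  refine hasCharP_of_forall fun y hy hc => Subtype.ext (h y (by rwa [orderOf_coe]) y.2 ?_)
  rw [mem_centralizer_iff]
  rintro _ ⟨a, ha, rfl⟩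
  exact congrArg Subtype.val (mem_centralizer_iff.1 hc a ha)

/-- If the centralizer of an element `z` has characteristic `p`, then so does the normalizer of
every `p`-subgroup containing `z`. -/
theorem hasCharP_normalizer {U : Subgroup G} (hU : IsPGroup p U) {z : G} (hzU : z ∈ U)
    (hz : HasCharP p (centralizer ({z} : Set G))) : HasCharP p (normalizer (U : Set G)) := by
  refine hasCharP_subgroup_of_forall fun y hy _ hc => ?_
  have hUle : U ≤ opIn p (normalizer (U : Set G)) := le_opIn le_normalizer hU le_rfl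
  have hyU : y ∈ centralizer (U : Set G) := centralizer_le hUle hc
  -- descending induction on the subgroups of `U` containing `z`
  have key : ∀ U' : Subgroup G, z ∈ U' → U' ≤ U →
      opIn p (centralizer (U' : Set G)) ≤ centralizer {y} := by
    intro U'
    induction U' using (wellFounded_gt (α := Subgroup G)).induction with
    | _ U' ih =>
      intro hzU' hU'U
      rcases eq_or_lt_of_le hU'U with rfl | hlt
      · intro r hr
        have hC : normalizer (U' : Set G) ≤ normalizer (centralizer (U' : Set G) : Set G) :=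
          normalizer_le_normalizer_centralizer' _
        have h1 : r ∈ opIn p (normalizer (U' : Set G)) :=
          opIn_mono (centralizer_le_normalizer _) hC hr
        rw [mem_centralizer_singleton_iff]
        exact mem_centralizer_iff.1 hc r h1
      · obtain ⟨x, hxU, hxU', hxN⟩ := exists_mem_normalizer_notMem hU hlt
        set U'' : Subgroup G := U ⊓ normalizer (U' : Set G) with hU''
        have hlt' : U' < U'' :=
          lt_of_le_of_ne (le_inf hU'U le_normalizer) fun h => hxU' (h ▸ ⟨hxU, hxN⟩)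
        have hnormC : U'' ≤ normalizer (opIn p (centralizer (U' : Set G)) : Set G) :=
          le_normalizer_opIn_of_le_normalizer
            (inf_le_right.trans (normalizer_le_normalizer_centralizer' _))
        have hyU'' : y ∈ centralizer (U'' : Set G) := centralizer_le inf_le_left hyU
        have hCC : centralizer (U'' : Set G) ≤ centralizer (U' : Set G) := centralizer_le hlt'.le
        refine centralizes_of_centralizes_fixed (hU.to_le inf_le_left) (isPGroup_opIn _) hnormC
          (le_normalizer_opIn _ (hCC hyU'')) hyU'' hy ?_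
        refine le_trans ?_ (ih U'' hlt' (hlt'.le hzU') inf_le_left)
        refine le_opIn inf_le_right ((isPGroup_opIn _).to_le inf_le_left) ?_
        exact (le_inf (hCC.trans (le_normalizer_opIn _)) le_normalizer).trans
          inf_normalizer_le_normalizer_inf
  have h0 := key (zpowers z) (mem_zpowers z) (zpowers_le.2 hzU)
  rw [zpowers_eq_closure, centralizer_closure] at h0
  refine hz.eq_one_subgroup hy ?_ ?_
  · exact centralizer_le (Set.singleton_subset_iff.2 hzU) hyU
  · exact mem_centralizer_iff.2 fun r hr => mem_centralizer_singleton_iff.1 (h0 hr)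

/-- A subgroup containing `O_p` of a group of characteristic `p` has characteristic `p`. -/
theorem hasCharP_of_opIn_le {K H : Subgroup G} (hKH : K ≤ H) (hK : opIn p H ≤ K)
    (hH : HasCharP p H) : HasCharP p K := by
  refine hasCharP_subgroup_of_forall fun y hy hyK hc => hH.eq_one_subgroup hy (hKH hyK) ?_
  exact centralizer_le
    (le_opIn hK (isPGroup_opIn H) (hKH.trans (le_normalizer_opIn H))) hc

/-- A normal subgroup of a group of characteristic `p` has characteristic `p`. -/
theorem hasCharP_of_normal {N : Subgroup G} [N.Normal] (hG : HasCharP p G) : HasCharP p N := by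
  refine hasCharP_subgroup_of_forall fun y hy hyN hc => hG.eq_one hy ?_
  rw [mem_centralizer_iff]
  intro r hr
  have hR : IsPGroup p (Cfsg.pCore p G) := Solvable.isPGroup_pCore p
  set δ := r⁻¹ * (y * r * y⁻¹) with hδ
  have hδR : δ ∈ Cfsg.pCore p G :=
    mul_mem (inv_mem hr) (Normal.conj_mem inferInstance r hr y)
  have hδN : δ ∈ N := by
    have h1 : r⁻¹ * y * r ∈ N := Normal.conj_mem' inferInstance y hyN r
    have := mul_mem h1 (inv_mem hyN)
    simpa [hδ, mul_assoc] using this
  have hδop : δ ∈ opIn p N := by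
    refine le_opIn (N := Cfsg.pCore p G ⊓ N) inf_le_right (hR.to_le inf_le_left) ?_ ⟨hδR, hδN⟩
    exact le_normalizer_of_normal
  have hfix : y * δ * y⁻¹ = δ := by
    rw [(mem_centralizer_iff.1 hc δ hδop).symm, mul_inv_cancel_right]
  have h1 : δ = 1 := eq_one_of_commutator_fixed (r := r) hR hδR hy (by rw [hδ]; group) hfix
  rw [hδ, inv_mul_eq_one] at h1
  calc r * y = y * r * y⁻¹ * y := by rw [← h1]
    _ = y * r := by group

omit [Finite G] [Fact p.Prime] in
theorem pCore_map_le {G' : Type*} [Group G'] (e : G ≃* G') :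
    (Cfsg.pCore p G).map e.toMonoidHom ≤ Cfsg.pCore p G' :=
  map_le_iff_le_comap.2 (sSup_le fun N hN => map_le_iff_le_comap.1
    (Solvable.le_pCore p (hN.1.map _ e.surjective) (hN.2.map _)))

omit [Finite G] [Fact p.Prime] in
theorem HasCharP.of_mulEquiv {G' : Type*} [Group G'] (h : HasCharP p G) (e : G ≃* G') :
    HasCharP p G' := by
  intro x hx
  obtain ⟨a, rfl⟩ := e.surjective x
  refine pCore_map_le e (mem_map_of_mem _ (h ?_))
  rw [mem_centralizer_iff]
  intro r hr
  apply e.injective
  rw [map_mul, map_mul]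
  exact mem_centralizer_iff.1 hx _ (pCore_map_le e (mem_map_of_mem _ hr))

/-- A subnormal subgroup of a group of characteristic `p` has characteristic `p`. -/
theorem hasCharP_of_isSubnormal {L : Subgroup G} (hL : L.IsSubnormal) (hG : HasCharP p G) :
    HasCharP p L := by
  induction hL with
  | top => exact hG.of_mulEquiv topEquiv.symm
  | step H K hHK hK hn ih =>
    haveI := hn
    exact (hasCharP_of_normal (N := H.subgroupOf K) ih).of_mulEquiv (subgroupOfEquivOfLe hHK)

end Char

/-! ### `F*(X) = O_p(X)` -/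

section Fstar

variable [Finite G] {p : ℕ} [Fact p.Prime]

theorem fitting_eq_pCore (h : Cfsg.pPrimeCore p G = ⊥) :
    Cfsg.fittingSubgroup G = Cfsg.pCore p G := by
  refine le_antisymm ?_ (Solvable.pCore_le_fittingSubgroup p)
  rw [Solvable.fittingSubgroup_eq_iSup_pCore]
  refine iSup_le fun q => ?_
  by_cases hq : (q : ℕ) = p
  · rw [hq]
  · haveI := Fact.mk q.2
    obtain ⟨k, hk⟩ := IsPGroup.iff_card.1 (Solvable.isPGroup_pCore (G := G) (q : ℕ))
    refine (Solvable.le_pPrimeCore p inferInstance ?_).trans (h.le.trans bot_le)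
    rw [hk]
    exact ((Nat.coprime_primes q.2 Fact.out).2 hq).pow_left k

theorem layer_eq_bot_of_forall (h : ∀ K : Subgroup G, ¬ Cfsg.IsComponent K) :
    Cfsg.layer G = ⊥ :=
  eq_bot_iff.2 (Comp.layer_le fun L hL => absurd hL (h L))

omit [Fact p.Prime] in
theorem not_isComponent_of_isSolvable (h : Group.IsSolvable G) (K : Subgroup G) :
    ¬ Cfsg.IsComponent K := fun hK => by
  haveI := h
  exact Comp.component_not_solvable hK inferInstance

theorem Fstar_eq_pCore (hl : Cfsg.layer G = ⊥) (h : Cfsg.pPrimeCore p G = ⊥) :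
    Cfsg.generalizedFittingSubgroup G = Cfsg.pCore p G := by
  rw [Cfsg.generalizedFittingSubgroup, hl, bot_sup_eq, fitting_eq_pCore h]

theorem hasCharP_of_Fstar (h : Cfsg.generalizedFittingSubgroup G = Cfsg.pCore p G) :
    HasCharP p G := by
  have := Comp.centralizer_Fstar_le (G := G)
  rwa [h] at this

theorem hasCharP_of_layer_eq_bot (hl : Cfsg.layer G = ⊥) (h : Cfsg.pPrimeCore p G = ⊥) :
    HasCharP p G :=
  hasCharP_of_Fstar (Fstar_eq_pCore hl h)

theorem HasCharP.pPrimeCore_eq_bot (hG : HasCharP p G) : Cfsg.pPrimeCore p G = ⊥ := by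
  rw [eq_bot_iff]
  intro x hx
  have hdisj : Cfsg.pPrimeCore p G ⊓ Cfsg.pCore p G = ⊥ := by
    rw [eq_bot_iff]
    intro w hw
    exact eq_one_of_mem_pgroup (Solvable.isPGroup_pCore p) hw.2
      ((Solvable.coprime_card_pPrimeCore (G := G) p).coprime_dvd_left
        (Subgroup.orderOf_dvd_natCard _ hw.1))
  refine hG.eq_one ((Solvable.coprime_card_pPrimeCore (G := G) p).coprime_dvd_left
    (Subgroup.orderOf_dvd_natCard _ hx)) ?_
  exact mem_centralizer_iff.2 fun r hr => (commute_of_normal_of_disjoint _ _ inferInstance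
    inferInstance (disjoint_iff.2 hdisj) x r hx hr).symm.eq

theorem HasCharP.layer_eq_bot (hG : HasCharP p G) : Cfsg.layer G = ⊥ := by
  refine layer_eq_bot_of_forall fun L hL => ?_
  haveI : Group.IsNilpotent (Cfsg.pCore p G) := (Solvable.isPGroup_pCore p).isNilpotent
  have h1 := Comp.le_centralizer_of_commutator_eq_bot
    (Comp.component_commutator_normal_solvable (H := Cfsg.pCore p G) hL inferInstance)
  exact Comp.component_not_le_solvable hL inferInstance (h1.trans hG)

theorem HasCharP.Fstar_eq (hG : HasCharP p G) :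
    Cfsg.generalizedFittingSubgroup G = Cfsg.pCore p G :=
  Fstar_eq_pCore hG.layer_eq_bot hG.pPrimeCore_eq_bot

end Fstar

end CfsgLib.CharP
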