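import Mathlib.RingTheory.Polynomial.Cyclotomic.Eval
import Mathlib.RingTheory.Polynomial.Cyclotomic.Expand
import Mathlib.FieldTheory.Finite.Basic

/-!
Primitive prime divisors of `2 ^ k - 1`.
-/

set_option autoImplicit false

namespace CfsgLib.Primitive2

open Polynomial

/-- `1 + X + ... + X^(p-1)` is not divisible by `p²` when `X ≡ 1 (mod p)`, `p` odd. -/
theorem not_sq_dvd_geom {p : ℕ} (hp : p.Prime) (hp2 : p ≠ 2) {X : ℤ} (hX : (p : ℤ) ∣ X - 1) :
    ¬ ((p : ℤ) ^ 2) ∣ ∑ i ∈ Finset.range p, X ^ i := by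
  obtain ⟨t, ht⟩ := hX
  have hXe : X = 1 + p * t := by linarith
  intro hd
  have hterm : ∀ i : ℕ, ((p : ℤ) ^ 2) ∣ X ^ i - (1 + i * (p * t)) := by
    intro i
    induction i with
    | zero => simp
    | succ i ih =>
      obtain ⟨w, hw⟩ := ih
      refine ⟨w * X + i * t ^ 2, ?_⟩
      rw [pow_succ, show X ^ i = (p : ℤ) ^ 2 * w + (1 + i * (p * t)) by linarith, hXe]
      push_cast
      ring
  have h1 : ((p : ℤ) ^ 2) ∣ ∑ i ∈ Finset.range p, X ^ i - ∑ i ∈ Finset.range p, (1 + (i : ℤ) * (p * t)) := by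
    rw [← Finset.sum_sub_distrib]
    exact Finset.dvd_sum fun i _ => hterm i
  obtain ⟨m, hm⟩ : ∃ m : ℕ, p = 2 * m + 1 :=
    ⟨p / 2, by have := hp.eq_two_or_odd.resolve_left hp2; omega⟩
  have hs : ∑ i ∈ Finset.range p, (1 + (i : ℤ) * (p * t)) = p + (p : ℤ) ^ 2 * ((m : ℤ) * t) := by
    have hg : (∑ i ∈ Finset.range p, (i : ℤ)) = (p : ℤ) * m := by
      have h := Finset.sum_range_id_mul_two p
      have h2 : (∑ i ∈ Finset.range p, i) = p * m := by
        have : p * (p - 1) = p * m * 2 := by rw [hm]; simp; ring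
        omega
      rw [← Nat.cast_mul, ← h2, Nat.cast_sum]
    rw [Finset.sum_add_distrib, ← Finset.sum_mul, hg]
    simp
    ring
  rw [hs] at h1
  have h2 : ((p : ℤ) ^ 2) ∣ (p : ℤ) := by
    obtain ⟨a, ha⟩ := hd
    obtain ⟨b, hb⟩ := h1
    exact ⟨a - b - m * t, by linear_combination ha - hb⟩
  have h3 : p ^ 2 ∣ p := by exact_mod_cast h2
  have := Nat.le_of_dvd hp.pos h3
  have h4 := hp.two_le
  nlinarith

theorem natCast_dvd_cyclotomic_iff {r k : ℕ} :
    r ∣ ((cyclotomic k ℤ).eval 2).natAbs ↔ IsRoot (cyclotomic k (ZMod r)) 2 := by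
  rw [IsRoot, ← Int.natCast_dvd, ← ZMod.intCast_zmod_eq_zero_iff_dvd, ← map_cyclotomic k (Int.castRingHom (ZMod r))]
  rw [show (2 : ZMod r) = Int.castRingHom (ZMod r) 2 by simp, eval_map_apply]
  rfl

theorem eval_prime_pow_mul {p m : ℕ} (hp : p.Prime) (R : Type*) [CommRing R] (x : R) :
    ∀ a : ℕ, (cyclotomic (p ^ (a + 1) * m) R).eval x = (cyclotomic (p * m) R).eval (x ^ p ^ a)
  | 0 => by simp
  | a + 1 => by
    have h : cyclotomic (p ^ (a + 1 + 1) * m) R = expand R p (cyclotomic (p ^ (a + 1) * m) R) := by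
      rw [cyclotomic_expand_eq_cyclotomic hp (dvd_mul_of_dvd_left (dvd_pow_self p (by simp)) m)]
      congr 1
      ring
    rw [h, expand_eval, eval_prime_pow_mul hp R (x ^ p) a, ← pow_mul, ← pow_succ']

theorem lower_bound {n : ℕ} (hn : 0 < n) {q : ℝ} (hq : 1 < q) :
    (q - 1) ^ n.totient ≤ (cyclotomic n ℝ).eval q := by
  rcases Nat.lt_or_ge n 2 with h | h
  · obtain rfl : n = 1 := by omega
    simp
  · exact (sub_one_pow_totient_lt_cyclotomic_eval h hq).le

theorem upper_bound {n : ℕ} (hn : 0 < n) {q : ℝ} (hq : 1 < q) :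
    (cyclotomic n ℝ).eval q ≤ (q + 1) ^ n.totient := by
  rcases Nat.lt_or_ge n 3 with h | h
  · interval_cases n
    · simp; linarith
    · simp
  · exact (cyclotomic_eval_lt_add_one_pow_totient h hq).le

/-- A primitive prime divisor of `2 ^ k - 1`. -/
theorem exists_primitive {k : ℕ} (hk : 2 ≤ k) (h6 : k ≠ 6) :
    ∃ r : ℕ, r.Prime ∧ ∀ j, r ∣ 2 ^ j - 1 ↔ k ∣ j := by
  set C := ((cyclotomic k ℤ).eval 2).natAbs with hC
  have hC1 : 1 < C := by
    have := sub_one_lt_natAbs_cyclotomic_eval (n := k) (q := 2) (by omega) (by norm_num)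
    simpa [C] using this
  have key : ∀ r : ℕ, r.Prime → r ∣ C → ∀ v m, k = r ^ v * m → ¬ r ∣ m →
      r ≠ 2 ∧ IsPrimitiveRoot (2 : ZMod r) m := by
    intro r hr hrC v m hkm hrm
    haveI := Fact.mk hr
    haveI : NeZero (m : ZMod r) := ⟨fun h => hrm ((ZMod.natCast_eq_zero_iff m r).1 h)⟩
    have h := natCast_dvd_cyclotomic_iff.1 hrC
    rw [hkm, isRoot_cyclotomic_prime_pow_mul_iff_of_charP] at h
    refine ⟨?_, h⟩
    rintro rfl
    have hm : m ≠ 0 := fun h0 => hrm (h0 ▸ dvd_zero 2)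
    have h2 := h.pow_eq_one
    rw [show (2 : ZMod 2) = 0 from rfl, zero_pow hm] at h2
    exact zero_ne_one h2
  by_cases hgood : ∃ r : ℕ, r.Prime ∧ r ∣ C ∧ ¬ r ∣ k
  · obtain ⟨r, hr, hrC, hrk⟩ := hgood
    obtain ⟨-, hroot⟩ := key r hr hrC 0 k (by simp) hrk
    refine ⟨r, hr, fun j => ?_⟩
    rw [← hroot.pow_eq_one_iff_dvd j, ← ZMod.natCast_eq_zero_iff, Nat.cast_sub Nat.one_le_two_pow,
      sub_eq_zero]
    simp
  exfalso
  push Not at hgood
  obtain ⟨p, hp, hpC⟩ := Nat.exists_prime_and_dvd hC1.ne'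
  obtain ⟨v, m, hpm, hkm⟩ := Nat.exists_eq_pow_mul_and_not_dvd (n := k) (by omega) p hp.ne_one
  obtain ⟨hp2, hroot⟩ := key p hp hpC v m hkm hpm
  haveI := Fact.mk hp
  have hpk : p ∣ k := hgood p hp hpC
  have hm0 : 0 < m := Nat.pos_of_ne_zero fun h => hpm (h ▸ dvd_zero p)
  have hmp : m ∣ p - 1 := by
    refine (hroot.pow_eq_one_iff_dvd _).1 (ZMod.pow_card_sub_one_eq_one fun h => ?_)
    have h2 : ((2 : ℕ) : ZMod p) = 0 := by simpa using h
    exact hp2 ((Nat.prime_dvd_prime_iff_eq hp Nat.prime_two).1 ((ZMod.natCast_eq_zero_iff 2 p).1 h2))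
  -- every prime divisor of `C` is `p`
  have huniq : ∀ r : ℕ, r.Prime → r ∣ C → r = p := by
    intro r hr hrC
    obtain ⟨v', m', hrm', hkm'⟩ := Nat.exists_eq_pow_mul_and_not_dvd (n := k) (by omega) r hr.ne_one
    obtain ⟨hr2, hroot'⟩ := key r hr hrC v' m' hkm' hrm'
    haveI := Fact.mk hr
    by_contra hne
    have h1 : r ∣ m := by
      have h := hgood r hr hrC
      rw [hkm] at h
      refine (hr.dvd_mul.1 h).resolve_left fun h' => hne ((Nat.prime_dvd_prime_iff_eq hr hp).1 (hr.dvd_of_dvd_pow h'))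
    have h2 : p ∣ m' := by
      have h := hpk
      rw [hkm'] at h
      refine (hp.dvd_mul.1 h).resolve_left fun h' => hne ((Nat.prime_dvd_prime_iff_eq hp hr).1 (hp.dvd_of_dvd_pow h')).symm
    have hm' : m' ∣ r - 1 := by
      refine (hroot'.pow_eq_one_iff_dvd _).1 (ZMod.pow_card_sub_one_eq_one fun h => ?_)
      have h3 : ((2 : ℕ) : ZMod r) = 0 := by simpa using h
      exact hr2 ((Nat.prime_dvd_prime_iff_eq hr Nat.prime_two).1 ((ZMod.natCast_eq_zero_iff 2 r).1 h3))
    have h4 : r ≤ p - 1 := Nat.le_of_dvd (by have := hp.two_le; omega) (h1.trans hmp)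
    have h5 : p ≤ r - 1 := Nat.le_of_dvd (by have := hr.two_le; omega) (h2.trans hm')
    omega
  -- `C = p`
  have hCp : C = p := by
    obtain ⟨e, he⟩ : ∃ e, C = p ^ e := ⟨C.primeFactorsList.length, Nat.eq_prime_pow_of_unique_prime_dvd
      (by omega) (fun {r} hr hd => huniq r hr hd)⟩
    have hle : e ≤ 1 := by
      by_contra hcon
      push Not at hcon
      have hdvd : (cyclotomic k ℤ).eval 2 ∣ ∑ i ∈ Finset.range p, ((2 : ℤ) ^ (k / p)) ^ i := by
        have hd : k / p ∈ k.properDivisors :=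
          Nat.mem_properDivisors.2 ⟨Nat.div_dvd_of_dvd hpk, Nat.div_lt_self (by omega) hp.one_lt⟩
        have h := X_pow_sub_one_mul_cyclotomic_dvd_X_pow_sub_one_of_dvd ℤ hd
        have e1 : (X ^ k - 1 : ℤ[X]) = (X ^ (k / p) - 1) * ∑ i ∈ Finset.range p, (X ^ (k / p)) ^ i := by
          rw [mul_comm, geom_sum_mul, ← pow_mul, Nat.div_mul_cancel hpk]
        rw [e1] at h
        have hne : (X ^ (k / p) - 1 : ℤ[X]) ≠ 0 :=
          X_pow_sub_C_ne_zero (Nat.div_pos (Nat.le_of_dvd (by omega) hpk) hp.pos) (1 : ℤ)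
        have h2 := eval_dvd (x := (2 : ℤ)) ((mul_dvd_mul_iff_left hne).1 h)
        simpa [eval_finsetSum] using h2
      have hX : (p : ℤ) ∣ (2 : ℤ) ^ (k / p) - 1 := by
        rw [← ZMod.intCast_zmod_eq_zero_iff_dvd]
        push_cast
        have hk1 : (2 : ZMod p) ^ k = 1 := (hroot.pow_eq_one_iff_dvd k).2 ⟨p ^ v, by rw [hkm]; ring⟩
        rw [← Nat.div_mul_cancel hpk, pow_mul, ZMod.pow_card] at hk1
        rw [hk1, sub_self]
      refine not_sq_dvd_geom hp hp2 hX (dvd_trans ?_ hdvd)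
      have h2 : p ^ 2 ∣ C := he ▸ Nat.pow_dvd_pow p hcon
      exact_mod_cast Int.natCast_dvd.2 h2
    interval_cases e
    · simp at he; omega
    · simpa using he
  -- but `C` is too large
  have hCR : (cyclotomic k ℝ).eval 2 = (p : ℝ) := by
    have hpos : 0 < (cyclotomic k ℤ).eval (2 : ℤ) := cyclotomic_pos' k (by norm_num)
    have h1 : (cyclotomic k ℤ).eval 2 = (p : ℤ) := by
      rw [← hCp, hC, Int.natAbs_of_nonneg hpos.le]
    have h2 := congrArg (Int.castRingHom ℝ) h1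
    rw [← eval_map_apply, map_cyclotomic] at h2
    simpa using h2
  obtain ⟨a, rfl⟩ : ∃ a, v = a + 1 := by
    refine ⟨v - 1, ?_⟩
    rcases v with _ | v
    · simp at hkm; exact absurd (hkm ▸ hpk) hpm
    · simp
  rw [hkm, eval_prime_pow_mul hp] at hCR
  set x : ℝ := 2 ^ p ^ a with hx
  have hx2 : 2 ≤ x := le_self_pow₀ one_le_two (pow_ne_zero _ hp.ne_zero)
  by_cases hp3 : p = 3
  · subst hp3
    have hm2 : m = 1 ∨ m = 2 := (Nat.dvd_prime Nat.prime_two).1 hmp
    rcases hm2 with rfl | rfl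
    · simp [cyclotomic_prime, Finset.sum_range_succ] at hCR
      nlinarith
    · have ha : 1 ≤ a := by
        by_contra h
        have : a = 0 := by omega
        subst this
        exact h6 hkm
      have hx8 : 8 ≤ x := by
        have h3a : 3 ≤ 3 ^ a := Nat.le_self_pow (by omega) 3
        have := pow_le_pow_right₀ (one_le_two (α := ℝ)) h3a
        norm_num at this
        exact this
      have h := cyclotomic_expand_eq_cyclotomic_mul (p := 3) (n := 2) hp (by norm_num) ℝ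
      have h2 := congrArg (Polynomial.eval x) h
      rw [expand_eval, eval_mul, show 2 * 3 = 3 * 2 from rfl, hCR] at h2
      simp at h2
      nlinarith [mul_le_mul hx8 hx8 (by norm_num) (by linarith)]
  · have hp5 : 5 ≤ p := by
      have h4 : p ≠ 4 := fun h => absurd (h ▸ hp) (by decide)
      have := hp.two_le
      omega
    have h := cyclotomic_expand_eq_cyclotomic_mul hp hpm ℝ
    have h2 := congrArg (Polynomial.eval x) h
    rw [expand_eval, eval_mul, mul_comm m p, hCR] at h2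
    have hx1 : 1 < x := by linarith
    have hxp : 1 < x ^ p := one_lt_pow₀ hx1 hp.ne_zero
    have h3 : (x ^ p - 1) ^ m.totient ≤ ((p : ℝ) * (x + 1)) ^ m.totient := by
      calc (x ^ p - 1) ^ m.totient ≤ (cyclotomic m ℝ).eval (x ^ p) := lower_bound hm0 hxp
        _ = (p : ℝ) * (cyclotomic m ℝ).eval x := h2
        _ ≤ (p : ℝ) * (x + 1) ^ m.totient := by
            exact mul_le_mul_of_nonneg_left (upper_bound hm0 hx1) (Nat.cast_nonneg _)
        _ ≤ (p : ℝ) ^ m.totient * (x + 1) ^ m.totient := by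
            refine mul_le_mul_of_nonneg_right ?_ (by positivity)
            exact le_self_pow₀ (by exact_mod_cast hp.one_lt.le) (Nat.totient_pos.2 hm0).ne'
        _ = _ := (mul_pow _ _ _).symm
    have h4 : x ^ p - 1 ≤ (p : ℝ) * (x + 1) :=
      (pow_le_pow_iff_left₀ (by linarith) (by positivity) (Nat.totient_pos.2 hm0).ne').1 h3
    obtain ⟨d, rfl⟩ : ∃ d, p = d + 5 := ⟨p - 5, by omega⟩
    have h5 : (1 : ℝ) + d ≤ x ^ d := by
      have := one_add_mul_le_pow (a := x - 1) (by linarith) d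
      simp at this
      nlinarith
    have h6' : x ^ 4 ≥ 16 := by nlinarith [mul_le_mul hx2 hx2 (by norm_num) (by linarith)]
    rw [pow_add, pow_succ] at h4
    push_cast at h4
    have h7 : (1 + (d : ℝ)) * (16 * x) ≤ x ^ d * (x ^ 4 * x) :=
      mul_le_mul h5 (mul_le_mul_of_nonneg_right h6' (by linarith)) (by positivity) (by positivity)
    nlinarith

end CfsgLib.Primitive2
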