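import Mathlib

/-!
Odd order automorphisms of 2-subgroups of dihedral groups fixing an involution are trivial.
-/

set_option autoImplicit false
set_option linter.style.haveILetI false

namespace CfsgLib.DihedralAut

open Subgroup

variable {G : Type*} [Group G]

theorem conj_pow_eq {y x d : G} (h1 : y * x * y⁻¹ = x * d) (h2 : y * d * y⁻¹ = d) :
    ∀ m : ℕ, y ^ m * x * (y ^ m)⁻¹ = x * d ^ m := by
  intro m
  induction m with
  | zero => simp
  | succ m ih =>
    have h3 : y * d ^ m * y⁻¹ = d ^ m := by rw [← conj_pow, h2]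
    calc y ^ (m + 1) * x * (y ^ (m + 1))⁻¹ = y * (y ^ m * x * (y ^ m)⁻¹) * y⁻¹ := by
          rw [pow_succ']; group
      _ = (y * x * y⁻¹) * (y * d ^ m * y⁻¹) := by rw [ih]; group
      _ = x * d ^ (m + 1) := by rw [h1, h3, pow_succ', mul_assoc]

theorem fixes_of_drift {y x d : G} (hy : Odd (orderOf y)) (h1 : y * x * y⁻¹ = x * d)
    (h2 : y * d * y⁻¹ = d) {e : ℕ} (hd : d ^ 2 ^ e = 1) : y * x * y⁻¹ = x := by
  have h := conj_pow_eq h1 h2 (orderOf y)
  rw [pow_orderOf_eq_one, one_mul, inv_one, mul_one] at h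
  have hd' : d ^ orderOf y = 1 := mul_eq_left.1 h.symm
  have hcop : Nat.Coprime (orderOf y) (2 ^ e) :=
    Nat.Coprime.pow_right _ (Nat.coprime_two_right.2 hy)
  have : d = 1 := by
    rw [← orderOf_eq_one_iff]
    exact Nat.eq_one_of_dvd_coprimes hcop (orderOf_dvd_of_pow_eq_one hd')
      (orderOf_dvd_of_pow_eq_one hd)
  rw [h1, this, mul_one]

theorem fixes_of_power {y c : G} (hy : Odd (orderOf y)) {k : ℤ} (h1 : y * c * y⁻¹ = c ^ k) {e : ℕ}
    (hc : c ^ 2 ^ e = 1) : y * c * y⁻¹ = c := by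
  have key : ∀ m : ℕ, y ^ m * c * (y ^ m)⁻¹ = c ^ (k ^ m) := by
    intro m
    induction m with
    | zero => simp
    | succ m ih =>
      calc y ^ (m + 1) * c * (y ^ (m + 1))⁻¹ = y * (y ^ m * c * (y ^ m)⁻¹) * y⁻¹ := by
            rw [pow_succ']; group
        _ = (y * c * y⁻¹) ^ (k ^ m) := by rw [ih, conj_zpow]
        _ = c ^ (k ^ (m + 1)) := by rw [h1, ← _root_.zpow_mul, ← pow_succ']
  have h := key (orderOf y)
  rw [pow_orderOf_eq_one, one_mul, inv_one, mul_one] at h
  have hdvd : (orderOf c : ℤ) ∣ k ^ orderOf y - 1 :=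
    orderOf_dvd_iff_zpow_eq_one.2 (by rw [zpow_sub, zpow_one, ← h, mul_inv_cancel])
  obtain ⟨j, -, hj⟩ := (Nat.dvd_prime_pow Nat.prime_two).1 (orderOf_dvd_of_pow_eq_one hc)
  rcases Nat.eq_zero_or_pos j with rfl | hjpos
  · have : c = 1 := orderOf_eq_one_iff.1 (by simpa using hj)
    subst this; simp
  rw [hj] at hdvd
  push_cast at hdvd
  obtain ⟨m, hm⟩ := hy
  have hk2 : (k : ZMod 2) = 1 := by
    have h2 : ((k ^ orderOf y - 1 : ℤ) : ZMod 2) = 0 :=
      (ZMod.intCast_zmod_eq_zero_iff_dvd _ 2).2 ((dvd_pow_self (2 : ℤ) hjpos.ne').trans hdvd)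
    push_cast at h2
    rcases (by decide : ∀ a : ZMod 2, a = 0 ∨ a = 1) (k : ZMod 2) with e | e
    · rw [e, zero_pow (by omega)] at h2
      simp at h2
    · exact e
  have hodd : ¬ (2 : ℤ) ∣ ∑ i ∈ Finset.range (orderOf y), k ^ i := by
    intro h2
    have h3 := (ZMod.intCast_zmod_eq_zero_iff_dvd _ 2).2 h2
    push_cast at h3
    rw [hk2] at h3
    simp only [one_pow, Finset.sum_const, Finset.card_range, nsmul_eq_mul, mul_one, hm] at h3
    push_cast at h3
    rw [show (2 : ZMod 2) = 0 by decide] at h3; simp at h3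
  have hco : IsCoprime ((2 : ℤ) ^ j) (∑ i ∈ Finset.range (orderOf y), k ^ i) :=
    IsCoprime.pow_left ((Int.prime_two.coprime_iff_not_dvd).2 hodd)
  rw [← geom_sum_mul] at hdvd
  have hdiv := hco.dvd_of_dvd_mul_left hdvd
  have h4 : c ^ (k - 1) = 1 := orderOf_dvd_iff_zpow_eq_one.1 (by rw [hj]; exact_mod_cast hdiv)
  rw [zpow_sub, zpow_one, mul_inv_eq_one] at h4
  rw [h1, h4]

/-- The parity of an element of a dihedral group. -/
def parity (n : ℕ) : DihedralGroup n →* Multiplicative (ZMod 2) where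
  toFun g := match g with
    | DihedralGroup.r _ => 1
    | DihedralGroup.sr _ => Multiplicative.ofAdd 1
  map_one' := rfl
  map_mul' a b := by
    cases a <;> cases b <;> simp <;> rfl

theorem parity_ker_le (n : ℕ) : (parity n).ker ≤ zpowers (DihedralGroup.r (1 : ZMod n)) := by
  intro g hg
  cases g with
  | r i =>
    refine mem_zpowers_iff.2 ⟨(i.cast : ℤ), ?_⟩
    rw [DihedralGroup.r_one_zpow, ZMod.intCast_zmod_cast]
  | sr i => exact absurd (MonoidHom.mem_ker.1 hg) (by show Multiplicative.ofAdd (1 : ZMod 2) ≠ 1; decide)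

theorem sq_eq_one_of_parity {n : ℕ} {g : DihedralGroup n} (h : parity n g ≠ 1) : g * g = 1 := by
  cases g with
  | r i => exact absurd rfl h
  | sr i => exact DihedralGroup.sr_mul_self i

theorem mult_two_eq : ∀ u : Multiplicative (ZMod 2), u ≠ 1 → u = Multiplicative.ofAdd 1 := by
  decide

/-- An odd order element normalizing a 2-group `U` which embeds in a dihedral group, and
centralizing a non-identity element of `U`, centralizes `U`. -/
theorem mem_centralizer_of_embedding [Finite G] {n : ℕ} {U : Subgroup G} (hU : IsPGroup 2 U)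
    (φ : U →* DihedralGroup n) (hφ : Function.Injective φ) {y : G}
    (hyU : y ∈ normalizer (U : Set G)) (hy : Odd (orderOf y)) {t : G} (htU : t ∈ U) (ht1 : t ≠ 1)
    (hyt : y * t * y⁻¹ = t) : y ∈ centralizer (U : Set G) := by
  haveI : Fact (Nat.Prime 2) := ⟨Nat.prime_two⟩
  suffices key : ∀ x ∈ U, y * x * y⁻¹ = x from
    mem_centralizer_iff.2 fun x hx => (mul_inv_eq_iff_eq_mul.1 (key x hx)).symm
  have hyx : ∀ x ∈ U, y * x * y⁻¹ ∈ U := fun x hx => (mem_normalizer_iff.1 hyU x).1 hx
  have hpow : ∀ x ∈ U, ∃ e : ℕ, x ^ 2 ^ e = 1 := fun x hx => by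
    obtain ⟨e, he⟩ := hU ⟨x, hx⟩
    exact ⟨e, by simpa using congrArg Subtype.val he⟩
  set R := ((parity n).comp φ).ker with hR
  have hrefl : ∀ x : U, x ∉ R → x * x = 1 := fun x hx => hφ (by
    rw [map_mul, map_one]
    exact sq_eq_one_of_parity fun h => hx h)
  haveI hRc : IsCyclic R := by
    let ψ : R →* zpowers (DihedralGroup.r (1 : ZMod n)) :=
      (φ.comp R.subtype).codRestrict _ fun x => parity_ker_le n x.2
    exact isCyclic_of_injective ψ fun a b h => Subtype.ext (hφ (congrArg Subtype.val h))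
  have hind : ∀ a b : U, a ∉ R → b ∉ R → a⁻¹ * b ∈ R := fun a b ha hb => by
    have h2 := mult_two_eq
    rw [hR, MonoidHom.mem_ker, map_mul, map_inv, h2 _ ha, h2 _ hb, inv_mul_cancel]
  by_cases hexp : ∃ w : U, w * w ≠ 1
  · obtain ⟨w, hw⟩ := hexp
    obtain ⟨⟨c, hcR⟩, hgen⟩ := IsCyclic.exists_generator (α := R)
    have hgen' : ∀ r ∈ R, ∃ k : ℤ, c ^ k = r := fun r hr => by
      obtain ⟨k, hk⟩ := mem_zpowers_iff.1 (hgen ⟨r, hr⟩)
      exact ⟨k, by simpa using congrArg Subtype.val hk⟩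
    have hc2 : c * c ≠ 1 := by
      intro h
      obtain ⟨k, hk⟩ := hgen' w (by_contra fun hwR => hw (hrefl w hwR))
      apply hw
      rw [← hk, ← (Commute.refl c).zpow_zpow k k |>.eq, ← (Commute.refl c).mul_zpow, h, one_zpow]
    obtain ⟨e, he⟩ := hpow c c.2
    set c' : U := ⟨y * c * y⁻¹, hyx c c.2⟩ with hc'
    have hc'R : c' ∈ R := by
      by_contra h
      apply hc2
      have h1 : y * (c : G) * y⁻¹ * (y * c * y⁻¹) = 1 := congrArg Subtype.val (hrefl c' h)
      apply Subtype.ext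
      rw [Subgroup.coe_mul, Subgroup.coe_one]
      calc (c : G) * c = y⁻¹ * (y * (c : G) * y⁻¹ * (y * c * y⁻¹)) * y := by group
        _ = 1 := by rw [h1, mul_one, inv_mul_cancel]
    obtain ⟨k, hk⟩ := hgen' c' hc'R
    have hcfix : y * (c : G) * y⁻¹ = c :=
      fixes_of_power hy (k := k) (by simpa using (congrArg Subtype.val hk).symm) he
    have hRfix : ∀ r ∈ R, y * ((r : U) : G) * y⁻¹ = r := fun r hr => by
      obtain ⟨i, hi⟩ := hgen' r hr
      rw [← hi, Subgroup.coe_zpow, ← conj_zpow, hcfix]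
    intro x hx
    by_cases hxR : (⟨x, hx⟩ : U) ∈ R
    · exact hRfix _ hxR
    set x' : U := ⟨y * x * y⁻¹, hyx x hx⟩ with hx'
    have hx'R : x' ∉ R := fun h => hxR (by
      have h1 := hRfix x' h
      have h2 : (⟨x, hx⟩ : U) = x' := Subtype.ext (by
        calc x = y⁻¹ * (y * x * y⁻¹) * y := by group
          _ = y⁻¹ * (y * (y * x * y⁻¹) * y⁻¹) * y := by rw [h1]
          _ = y * x * y⁻¹ := by group)
      rwa [h2])
    have hd := hRfix _ (hind ⟨x, hx⟩ x' hxR hx'R)
    obtain ⟨f, hf⟩ := hpow (x⁻¹ * (y * x * y⁻¹)) (mul_mem (inv_mem hx) (hyx x hx))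
    exact fixes_of_drift hy (d := x⁻¹ * (y * x * y⁻¹)) (by group) (by simpa [hx'] using hd) hf
  · push Not at hexp
    have hUcard : Nat.card U ≤ 4 := by
      haveI : Fintype R := Fintype.ofFinite _
      classical
      have h2 : Nat.card R ≤ 2 := by
        rw [Nat.card_eq_fintype_card]
        refine le_trans (le_of_eq ?_) (IsCyclic.card_pow_eq_one_le (α := R) (n := 2) two_pos)
        rw [← Finset.card_univ]
        congr 1
        symm
        rw [Finset.filter_eq_self]
        intro r _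
        exact Subtype.ext (by rw [Subgroup.coe_pow, sq]; exact hexp r)
      have h3 : R.index ≤ 2 := by
        rw [hR, index_ker]
        exact (card_le_card_group _).trans (by simp)
      rw [← R.card_mul_index]
      exact (Nat.mul_le_mul h2 h3)
    intro x hx
    by_cases hx1 : x = 1
    · simp [hx1]
    by_cases hxt : x = t
    · rw [hxt]; exact hyt
    have hsq : ∀ u ∈ U, u * u = 1 := fun u hu => by
      simpa using congrArg Subtype.val (hexp ⟨u, hu⟩)
    have hcases : y * x * y⁻¹ = x ∨ y * x * y⁻¹ = x * t := by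
      classical
      by_contra hno
      push Not at hno
      haveI : Fintype U := Fintype.ofFinite _
      set z := y * x * y⁻¹ with hz
      have hxt' : x * t ≠ 1 := fun h => hxt (by
        calc x = x * t * t := by rw [mul_assoc, hsq t htU, mul_one]
          _ = t := by rw [h, one_mul])
      have hz1 : z ≠ 1 := by rw [hz]; simpa [conj_eq_one_iff] using hx1
      have hzt : z ≠ t := fun h => hxt (by
        calc x = y⁻¹ * z * y := by rw [hz]; group
          _ = y⁻¹ * (y * t * y⁻¹) * y := by rw [h, hyt]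
          _ = t := by group)
      let S : Finset U := {1, ⟨t, htU⟩, ⟨x, hx⟩, ⟨x * t, mul_mem hx htU⟩, ⟨z, hyx x hx⟩}
      have hS : S.card = 5 := by
        simp only [S]
        rw [Finset.card_insert_of_notMem, Finset.card_insert_of_notMem,
          Finset.card_insert_of_notMem, Finset.card_insert_of_notMem, Finset.card_singleton]
        all_goals simp [Subtype.ext_iff, Ne.symm hno.1, Ne.symm hno.2, Ne.symm ht1, Ne.symm hx1,
          Ne.symm hxt', Ne.symm hz1, Ne.symm hxt, Ne.symm hzt, hx1, ht1]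
      have h5 := Finset.card_le_univ S
      rw [hS, ← Nat.card_eq_fintype_card] at h5
      omega
    rcases hcases with h | h
    · exact h
    · exact fixes_of_drift hy h hyt (e := 1) (by rw [pow_one, sq]; exact hsq t htU)

end CfsgLib.DihedralAut
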