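import Cfsg.Agent.KGroup.CharP
import Cfsg.Agent.Coprime.Sylow
import Cfsg.Agent.Solvable.Basics
import Cfsg.Agent.Solvable.Fitting
import Cfsg.Agent.Solvable.CoprimeAbelian
import Cfsg.Agent.ZJ.PStable
import Cfsg.Agent.ZJ.QdSection
import Mathlib.GroupTheory.Nilpotent

/-!
In a solvable group of odd order the `B`-invariant `p'`-subgroups lie in `O_{p'}`, for `B` an
abelian `p`-subgroup that is self-centralizing in a Sylow `p`-subgroup on which it is cubic.
-/

set_option autoImplicit false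
set_option linter.unusedSectionVars false

namespace CfsgLib.Invariant

open Subgroup
open scoped commutatorElement

variable {G : Type*} [Group G] [Finite G] {p : ℕ} [Fact p.Prime]

theorem not_involves_qd_of_odd (hodd : Odd (Nat.card G)) (hp : p ≠ 2) :
    ¬ Cfsg.Involves ↥(Cfsg.qd p) G := by
  intro h
  obtain ⟨K, f, hf⟩ := CfsgLib.ZJ.exists_surjective_of_involves h
  have hqd : Odd (Nat.card ↥(Cfsg.qd p)) :=
    hodd.of_dvd_nat ((card_dvd_of_surjective f hf).trans (card_subgroup_dvd_card K))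
  set x : ↥(Cfsg.qd p) :=
    ⟨CfsgLib.ZJ.affMat 0 0 (-1 : CfsgLib.ZJ.SL2 (ZMod p)), CfsgLib.ZJ.affMat_mem_qd 0 0 _⟩ with hx
  have hx2 : x ^ 2 = 1 := by
    apply Subtype.ext
    rw [pow_two, Subgroup.coe_mul, hx, CfsgLib.ZJ.affMat_mul]
    simp [CfsgLib.ZJ.affMat_one]
  have hx1 : x = 1 := by
    obtain ⟨k, hk⟩ := hqd
    have h1 : x ^ Nat.card ↥(Cfsg.qd p) = 1 := pow_card_eq_one'
    rwa [hk, pow_succ, pow_mul, hx2, one_pow, one_mul] at h1
  have h2 := congrArg Subtype.val hx1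
  rw [Subgroup.coe_one, ← CfsgLib.ZJ.affMat_one (p := p)] at h2
  have h3 := congrArg (fun A : CfsgLib.ZJ.SL2 (ZMod p) => A.1 0 0) (CfsgLib.ZJ.affMat_inj h2).2.2
  simp at h3
  have h4 : ((2 : ℕ) : ZMod p) = 0 := by push_cast; linear_combination -h3
  rw [ZMod.natCast_eq_zero_iff] at h4
  exact hp ((Nat.prime_dvd_prime_iff_eq Fact.out Nat.prime_two).1 h4)

/-- In a group of odd order an element acting quadratically on a normal `p`-subgroup `P`, and
normalizing a `p'`-subgroup `H`, centralizes `H` modulo `C(P)`. -/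
theorem commutator_mem_centralizer (hodd : Odd (Nat.card G)) (hp : p ≠ 2) (P : Subgroup G)
    [P.Normal] (hP : IsPGroup p P) {a h : G} (hq : ∀ u ∈ P, Commute (u * a * u⁻¹ * a⁻¹) a)
    {H : Subgroup G} (hH : (Nat.card H).Coprime p) (haH : a ∈ normalizer (H : Set G)) (hh : h ∈ H) :
    h⁻¹ * (a * h * a⁻¹) ∈ centralizer (P : Set G) := by
  have hquad : ⁅⁅P, zpowers a⁆, zpowers a⁆ = ⊥ := by
    rw [commutator_eq_bot_iff_le_centralizer, commutator_le]
    rintro u hu _ ⟨k, rfl⟩
    have hc := hq u hu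
    have e : ⁅u, a ^ k⁆ = (u * a * u⁻¹ * a⁻¹) ^ k := by
      rw [commutatorElement_def, ← conj_zpow,
        show u * a * u⁻¹ = (u * a * u⁻¹ * a⁻¹) * a by group, hc.mul_zpow]
      simp only [mul_inv_cancel_right, inv_mul_cancel_right]
    rw [e]
    refine zpow_mem (mem_centralizer_iff.2 ?_) k
    rintro _ ⟨l, rfl⟩
    exact ((hc.zpow_right l).eq).symm
  obtain ⟨D, hD, haD, hDp⟩ :=
    CfsgLib.ZJ.pcoreMod_of_quadratic hp (not_involves_qd_of_odd hodd hp) P hP a hquad
  have hcD : h⁻¹ * (a * h * a⁻¹) ∈ D := by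
    rw [show h⁻¹ * (a * h * a⁻¹) = (h⁻¹ * a * h⁻¹⁻¹) * a⁻¹ by group]
    exact mul_mem (hD.conj_mem a haD h⁻¹) (inv_mem haD)
  have hcH : h⁻¹ * (a * h * a⁻¹) ∈ H := mul_mem (inv_mem hh) ((mem_normalizer_iff.1 haH h).1 hh)
  obtain ⟨k, hk⟩ := hDp _ hcD
  set c := h⁻¹ * (a * h * a⁻¹)
  have hcop : (orderOf c).Coprime (p ^ k) :=
    (hH.coprime_dvd_left (orderOf_dvd_natCard H hcH)).pow_right k
  obtain ⟨m, hm⟩ := exists_pow_eq_self_of_coprime hcop.symm
  rw [← hm]
  exact pow_mem hk m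

/-- A `p'`-group centralizes a `p`-group `W` if it centralizes the fixed points of a `p`-group `B`
normalizing both, on which the double commutators with `B` are fixed. -/
theorem le_centralizer_of_quadratic (hodd : Odd (Nat.card G)) (hp : p ≠ 2) {B H : Subgroup G}
    (hB : IsPGroup p B) (hH : (Nat.card H).Coprime p) (hBH : B ≤ normalizer (H : Set G)) :
    ∀ W : Subgroup G, IsPGroup p W → B ≤ normalizer (W : Set G) → H ≤ normalizer (W : Set G) →
      W ⊓ centralizer (B : Set G) ≤ centralizer (H : Set G) →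
      (∀ w ∈ W, ∀ b ∈ B, (w * b * w⁻¹ * b⁻¹) * b * (w * b * w⁻¹ * b⁻¹)⁻¹ * b⁻¹ ∈
        centralizer (B : Set G)) →
      W ≤ centralizer (H : Set G) := by
  suffices ∀ (n : ℕ) (W : Subgroup G), Nat.card W = n → IsPGroup p W →
      B ≤ normalizer (W : Set G) → H ≤ normalizer (W : Set G) →
      W ⊓ centralizer (B : Set G) ≤ centralizer (H : Set G) →
      (∀ w ∈ W, ∀ b ∈ B, (w * b * w⁻¹ * b⁻¹) * b * (w * b * w⁻¹ * b⁻¹)⁻¹ * b⁻¹ ∈
        centralizer (B : Set G)) →
      W ≤ centralizer (H : Set G) from fun W => this _ W rfl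
  intro n
  induction n using Nat.strong_induction_on with
  | _ n ih =>
    intro W hn hW hBW hHW hfix hquad
    subst hn
    have hcomW : ⁅W, H⁆ ≤ W := commutator_le.2 fun w hw h hh => by
      rw [commutatorElement_def, show w * h * w⁻¹ * h⁻¹ = w * (h * w⁻¹ * h⁻¹) by group]
      exact mul_mem hw ((mem_normalizer_iff.1 (hHW hh) _).1 (inv_mem hw))
    have hWN : W ≤ normalizer (⁅W, H⁆ : Subgroup G) := normalizer_commutator_ge_left W H
    have hHN : H ≤ normalizer (⁅W, H⁆ : Subgroup G) := normalizer_commutator_ge_right W H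
    have hBN : B ≤ normalizer (⁅W, H⁆ : Subgroup G) := by
      intro b hb
      rw [mem_normalizer_iff_map_conj_eq, map_commutator,
        mem_normalizer_iff_map_conj_eq.1 (hBW hb), mem_normalizer_iff_map_conj_eq.1 (hBH hb)]
    by_cases hlt : ⁅W, H⁆ = W
    swap
    · have hc : ⁅W, H⁆ ≤ centralizer (H : Set G) := ih _
        (CfsgLib.Solvable.card_lt_of_lt (lt_of_le_of_ne hcomW hlt)) _ rfl (hW.to_le hcomW) hBN hHN
        ((inf_le_inf_right _ hcomW).trans hfix) (fun w hw => hquad w (hcomW hw))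
      intro w hw
      refine mem_centralizer_iff.2 fun h hh => ?_
      set δ := w⁻¹ * (h * w * h⁻¹) with hδ
      have hδW : δ ∈ ⁅W, H⁆ := by
        rw [hδ, show w⁻¹ * (h * w * h⁻¹) = w⁻¹ * h * w⁻¹⁻¹ * h⁻¹ by group, ← commutatorElement_def]
        exact commutator_mem_commutator (inv_mem hw) hh
      have h1 : δ = 1 := CfsgLib.CharP.eq_one_of_commutator_fixed hW (y := h) (r := w) (hcomW hδW)
        (hH.coprime_dvd_left (orderOf_dvd_natCard H hh)) (by rw [hδ]; group)
        (by rw [mem_centralizer_iff.1 (hc hδW) h hh]; group)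
      have h2 : h * w * h⁻¹ = w := by
        rw [hδ, inv_mul_eq_one] at h1
        exact h1.symm
      exact mul_inv_eq_iff_eq_mul.1 h2
    by_cases hW1 : W = ⊥
    · rw [hW1]; exact bot_le
    exfalso
    -- the quotient of `N(W)` by `W'`
    set K := normalizer (W : Set G)
    have hWK : W ≤ K := le_normalizer
    haveI hWn : (W.subgroupOf K).Normal :=
      (normal_subgroupOf_iff_le_normalizer hWK).2 le_rfl
    set Φ : Subgroup K := ⁅W.subgroupOf K, W.subgroupOf K⁆
    set f := QuotientGroup.mk' Φ with hf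
    set P := (W.subgroupOf K).map f
    haveI : P.Normal := hWn.map f (QuotientGroup.mk'_surjective Φ)
    set T : Subgroup G := ((centralizer (P : Set (↥K ⧸ Φ))).comap f).map K.subtype with hT
    have hTK : T ≤ K := map_subtype_le _
    have hKT : K ≤ normalizer (T : Set G) := by
      have h := le_normalizer_map (H := (centralizer (P : Set (↥K ⧸ Φ))).comap f) K.subtype
      rw [normalizer_eq_top, ← MonoidHom.range_eq_map, range_subtype] at h
      exact h
    have hPp : IsPGroup p P := (hW.comap_subtype (K := K)).map f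
    have hKodd : Odd (Nat.card (↥K ⧸ Φ)) :=
      hodd.of_dvd_nat ((card_quotient_dvd_card Φ).trans (card_subgroup_dvd_card K))
    have hmem : ∀ (g : K), (∀ u : K, (u : G) ∈ W → f (g * u) = f (u * g)) → (g : G) ∈ T := by
      intro g hg
      refine ⟨g, ?_, rfl⟩
      refine mem_centralizer_iff.2 ?_
      rintro _ ⟨u, hu, rfl⟩
      rw [← map_mul, ← map_mul, hg u hu]
    set H' := (H.subgroupOf K).map f with hH'def
    have hH' : (Nat.card H').Coprime p :=
      hH.coprime_dvd_left ((card_map_dvd _ _).trans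
        (Nat.card_congr (subgroupOfEquivOfLe hHW).toEquiv).dvd)
    haveI : IsMulCommutative P := by
      refine isMulCommutative_iff.mpr ?_
      rintro ⟨_, u, hu, rfl⟩ ⟨_, v, hv, rfl⟩
      apply Subtype.ext
      show f u * f v = f v * f u
      rw [← commutatorElement_eq_one_iff_mul_comm, ← map_commutatorElement]
      exact (QuotientGroup.eq_one_iff _).2 (commutator_mem_commutator hu hv)
    have hPH : ⁅P, H'⁆ = P := by
      rw [← map_commutator]
      congr 1
      apply map_injective K.subtype_injective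
      rw [map_commutator, map_subgroupOf_eq_of_le hWK, map_subgroupOf_eq_of_le hHW, hlt]
    have hfixed : ∀ z : K, (z : G) ∈ W → (∀ h ∈ H, h * (z : G) = z * h) → f z = 1 := by
      intro z hzW hz
      obtain ⟨k, hk⟩ := IsPGroup.iff_card.1 hPp
      have h := CfsgLib.CoprimeAct.fixed_inf_commutator_abelian (A := H') (V := P)
        (le_normalizer_of_normal) (hk ▸ hH'.pow_right k)
      refine mem_bot.1 (h ▸ (⟨⟨⟨z, hzW, rfl⟩, mem_centralizer_iff.2 ?_⟩, ?_⟩ :
        f z ∈ (P ⊓ centralizer (H' : Set (↥K ⧸ Φ))) ⊓ ⁅P, H'⁆))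
      · rintro _ ⟨x, hx, rfl⟩
        rw [← map_mul, ← map_mul]
        congr 1
        exact Subtype.ext (hz _ hx)
      · rw [hPH]; exact ⟨z, hzW, rfl⟩
    -- `B` fixes every coset of `H ⊓ T` in `H`
    have hfixT : ∀ h ∈ H, ∀ b ∈ B, h⁻¹ * (b * h * b⁻¹) ∈ T := by
      intro h hh b hb
      have hq : ∀ u ∈ P, Commute (u * f ⟨b, hBW hb⟩ * u⁻¹ * (f ⟨b, hBW hb⟩)⁻¹) (f ⟨b, hBW hb⟩) := by
        rintro _ ⟨u, hu, rfl⟩
        set c : G := (u : G) * b * (u : G)⁻¹ * b⁻¹ with hcdef
        have huW : (u : G) ∈ W := hu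
        have hcW : c ∈ W := by
          rw [hcdef, show (u : G) * b * (u : G)⁻¹ * b⁻¹ = u * (b * (u : G)⁻¹ * b⁻¹) by group]
          exact mul_mem huW ((mem_normalizer_iff.1 (hBW hb) _).1 (inv_mem huW))
        set z : G := c * b * c⁻¹ * b⁻¹ with hzdef
        have hzW : z ∈ W := by
          rw [hzdef, show c * b * c⁻¹ * b⁻¹ = c * (b * c⁻¹ * b⁻¹) by group]
          exact mul_mem hcW ((mem_normalizer_iff.1 (hBW hb) _).1 (inv_mem hcW))
        have hzH : z ∈ centralizer (H : Set G) := hfix ⟨hzW, hquad _ huW b hb⟩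
        -- fixed points of `H` on `W/W'` are trivial
        have h1 : f ⟨z, hWK hzW⟩ = 1 := hfixed _ hzW fun h hh => mem_centralizer_iff.1 hzH h hh
        have e : (⟨z, hWK hzW⟩ : K) = (u * ⟨b, hBW hb⟩ * u⁻¹ * ⟨b, hBW hb⟩⁻¹) * ⟨b, hBW hb⟩ *
            (u * ⟨b, hBW hb⟩ * u⁻¹ * ⟨b, hBW hb⟩⁻¹)⁻¹ * ⟨b, hBW hb⟩⁻¹ := Subtype.ext (by
          simp [hzdef, hcdef])
        rw [e] at h1
        simp only [map_mul, map_inv, mul_inv_eq_one] at h1
        exact mul_inv_eq_iff_eq_mul.1 h1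
      have hbn : f ⟨b, hBW hb⟩ ∈ normalizer (((H.subgroupOf K).map f : Subgroup _) : Set (↥K ⧸ Φ)) := by
        refine le_normalizer_map _ ⟨⟨b, hBW hb⟩, ?_, rfl⟩
        exact mem_normalizer_iff.2 fun x => mem_normalizer_iff.1 (hBH hb) x
      have h2 := commutator_mem_centralizer hKodd hp P hPp hq hH' hbn
        (⟨⟨h, hHW hh⟩, hh, rfl⟩ : f ⟨h, hHW hh⟩ ∈ (H.subgroupOf K).map f)
      exact ⟨⟨h, hHW hh⟩⁻¹ * (⟨b, hBW hb⟩ * ⟨h, hHW hh⟩ * ⟨b, hBW hb⟩⁻¹), h2, rfl⟩
    -- hence `H` acts trivially on `W/W'`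
    have hHT : H ≤ T := by
      intro h hh
      haveI : Group.IsNilpotent B := hB.isNilpotent
      obtain ⟨j, hj⟩ := IsPGroup.iff_card.1 hB
      obtain ⟨c, hcB, hcT⟩ := CfsgLib.Coprime.exists_commute_mem_coset B (H ⊓ T)
        ((le_inf hBH (hBW.trans hKT)).trans inf_normalizer_le_normalizer_inf)
        (hj ▸ ((hH.coprime_dvd_left (card_dvd_of_le inf_le_left)).pow_right j).symm) h
        (fun b hb => mem_inf.2 ⟨H.mul_mem (H.inv_mem hh) ((mem_normalizer_iff.1 (hBH hb) h).1 hh),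
          hfixT h hh b hb⟩)
      have hcH : c ∈ H := by
        have := mul_mem hh hcT.1
        rwa [mul_inv_cancel_left] at this
      have hcC : c ∈ centralizer (B : Set G) := mem_centralizer_iff.2 hcB
      have hWc : W ≤ centralizer {c} :=
        CfsgLib.CharP.centralizes_of_centralizes_fixed hB hW hBW (hHW hcH) hcC
          (hH.coprime_dvd_left (orderOf_dvd_natCard H hcH)) (fun w hw =>
            mem_centralizer_singleton_iff.2 (mem_centralizer_iff.1 (hfix hw) c hcH).symm)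
      have hcT' : c ∈ T := hmem ⟨c, hHW hcH⟩ fun u hu => by
        congr 1
        exact Subtype.ext (mem_centralizer_singleton_iff.1 (hWc hu)).symm
      have := mul_mem hcT' (inv_mem hcT.2)
      simpa [mul_assoc] using this
    have hle : W ≤ Φ.map K.subtype := by
      rw [← hlt]
      refine commutator_le.2 fun w hw h hh => ?_
      obtain ⟨g, hg, rfl⟩ := hHT hh
      refine ⟨⁅(⟨w, hWK hw⟩ : K), g⁆, ?_, map_commutatorElement K.subtype _ _⟩
      refine (QuotientGroup.eq_one_iff _).1 ?_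
      show f ⁅(⟨w, hWK hw⟩ : K), g⁆ = 1
      rw [map_commutatorElement, commutatorElement_eq_one_iff_mul_comm]
      exact mem_centralizer_iff.1 hg _ ⟨_, hw, rfl⟩
    rw [map_commutator, map_subgroupOf_eq_of_le hWK] at hle
    haveI : Nontrivial W := (nontrivial_iff_ne_bot W).2 hW1
    haveI := hW.isNilpotent
    have hlt' : (⁅W, W⁆ : Subgroup G) < W := by
      refine lt_of_le_of_ne (commutator_le_self W) fun he => ?_
      have h1 : commutator W = ⊤ := by
        apply map_injective W.subtype_injective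
        rw [map_subtype_commutator, he, ← MonoidHom.range_eq_map, range_subtype]
      exact (Group.IsSolvable.commutator_lt_top_of_nontrivial W).ne h1
    exact hlt'.not_ge hle

/-- In a solvable group of odd order the `B`-invariant `p'`-subgroups lie in `O_{p'}`. -/
theorem le_pPrimeCore [Group.IsSolvable G] (hodd : Odd (Nat.card G)) (hp : p ≠ 2) (S : Sylow p G)
    {B H : Subgroup G} (hBS : B ≤ (S : Subgroup G)) (hBa : ∀ x ∈ B, ∀ y ∈ B, x * y = y * x)
    (hBH : B ≤ normalizer (H : Set G)) (hH : (Nat.card H).Coprime p)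
    (hself : (S : Subgroup G) ⊓ centralizer (B : Set G) ≤ B)
    (hcub : ∀ x ∈ (S : Subgroup G), ∀ b ∈ B,
      (x * b * x⁻¹ * b⁻¹) * b * (x * b * x⁻¹ * b⁻¹)⁻¹ * b⁻¹ ∈ B) :
    H ≤ Cfsg.pPrimeCore p G := by
  set O := Cfsg.pPrimeCore p G
  set f := QuotientGroup.mk' O with hf
  set F := Cfsg.pCore p (G ⧸ O)
  have hF : IsPGroup p F := CfsgLib.Solvable.isPGroup_pCore p
  have hFS : F ≤ (S : Subgroup G).map f :=
    CfsgLib.CharP.le_sylow_of_le_normalizer (S.mapSurjective (QuotientGroup.mk'_surjective O)) hF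
      le_normalizer_of_normal
  have hB : IsPGroup p B := S.2.to_le hBS
  have hfix : F ⊓ centralizer ((B.map f : Subgroup (G ⧸ O)) : Set (G ⧸ O)) ≤ B.map f := by
    intro z hz
    obtain ⟨g, hg, rfl⟩ := hFS hz.1
    refine mem_map_of_mem f (hself ⟨hg, mem_centralizer_iff.2 fun b hb => ?_⟩)
    have h1 : f (b * g * b⁻¹ * g⁻¹) = 1 := by
      simp only [map_mul, map_inv, mem_centralizer_iff.1 hz.2 (f b) (mem_map_of_mem f hb)]
      group
    have hmem : b * g * b⁻¹ * g⁻¹ ∈ O := (QuotientGroup.eq_one_iff _).1 h1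
    have hmem' : b * g * b⁻¹ * g⁻¹ ∈ (S : Subgroup G) :=
      mul_mem (mul_mem (mul_mem (hBS hb) hg) (inv_mem (hBS hb))) (inv_mem hg)
    have h2 := CfsgLib.CharP.eq_one_of_mem_pgroup S.2 hmem'
      ((CfsgLib.Solvable.coprime_card_pPrimeCore p).coprime_dvd_left (orderOf_dvd_natCard O hmem))
    calc b * g = (b * g * b⁻¹ * g⁻¹) * g * b := by group
      _ = g * b := by rw [h2, one_mul]
  have hH' : (Nat.card (H.map f)).Coprime p := hH.coprime_dvd_left (card_map_dvd _ _)
  have hdisj : H.map f ⊓ F = ⊥ := by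
    obtain ⟨k, hk⟩ := IsPGroup.iff_card.1 hF
    exact inf_eq_bot_of_coprime (hk ▸ hH'.pow_right k)
  have hBH' : B.map f ≤ normalizer ((H.map f : Subgroup (G ⧸ O)) : Set (G ⧸ O)) :=
    (map_mono hBH).trans (le_normalizer_map f)
  have hW : F ≤ centralizer ((H.map f : Subgroup (G ⧸ O)) : Set (G ⧸ O)) := by
    refine le_centralizer_of_quadratic (hodd.of_dvd_nat (card_quotient_dvd_card O)) hp (hB.map f)
      hH' hBH' F hF le_normalizer_of_normal le_normalizer_of_normal ?_ ?_
    · intro z hz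
      refine mem_centralizer_iff.2 fun h hh => ?_
      have hzB : z ∈ B.map f := hfix hz
      have h1 : h * z * h⁻¹ * z⁻¹ ∈ H.map f ⊓ F := by
        refine mem_inf.2 ⟨?_, mul_mem ((inferInstance : F.Normal).conj_mem z hz.1 h) (inv_mem hz.1)⟩
        rw [show h * z * h⁻¹ * z⁻¹ = h * (z * h⁻¹ * z⁻¹) by group]
        exact mul_mem hh ((mem_normalizer_iff.1 (hBH' hzB) _).1 (inv_mem hh))
      rw [hdisj, mem_bot, mul_inv_eq_one, mul_inv_eq_iff_eq_mul] at h1
      exact h1
    · intro w hw b hb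
      obtain ⟨x, hx, rfl⟩ := hFS hw
      obtain ⟨c, hc, rfl⟩ := hb
      refine mem_centralizer_iff.2 ?_
      rintro _ ⟨d, hd, rfl⟩
      simp only [← map_mul, ← map_inv]
      rw [hBa d hd _ (hcub x hx c hc)]
  intro h hh
  rw [← QuotientGroup.ker_mk' O, MonoidHom.mem_ker]
  have h1 : f h ∈ centralizer (F : Set (G ⧸ O)) := mem_centralizer_iff.2 fun z hz =>
    (mem_centralizer_iff.1 (hW hz) (f h) (mem_map_of_mem f hh)).symm
  exact mem_bot.1 (hdisj ▸ (⟨mem_map_of_mem f hh,
    CfsgLib.Fitting.centralizer_pCore_le (CfsgLib.Fitting.pPrimeCore_quotient_eq_bot p) h1⟩ :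
      f h ∈ H.map f ⊓ F))

end CfsgLib.Invariant
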