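import Cfsg.Agent.KGroup.LayerCover
import Cfsg.Agent.Comp.ExtTwoLayer

/-!
Facts about `p`-components of centralizers used for `p`-terminal pairs.
-/

set_option autoImplicit false
set_option linter.unusedSectionVars false

namespace CfsgLib.Terminal

open Subgroup

variable {G : Type*} [Group G] [Finite G] {p : ℕ} [Fact p.Prime]

theorem map_pPrimeCore_le {A B : Type*} [Group A] [Group B] [Finite A] [Finite B] (e : A ≃* B) :
    (Cfsg.pPrimeCore p A).map e.toMonoidHom ≤ Cfsg.pPrimeCore p B :=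
  CfsgLib.Solvable.le_pPrimeCore p
    ((CfsgLib.Solvable.pPrimeCore_spec (G := A) p).1.map _ e.surjective)
    ((CfsgLib.Solvable.coprime_card_pPrimeCore (G := A) p).coprime_dvd_left (card_map_dvd _ _))

theorem map_pPrimeCore {A B : Type*} [Group A] [Group B] [Finite A] [Finite B] (e : A ≃* B) :
    (Cfsg.pPrimeCore p A).map e.toMonoidHom = Cfsg.pPrimeCore p B := by
  refine le_antisymm (map_pPrimeCore_le e) fun x hx => ?_
  exact ⟨e.symm x, map_pPrimeCore_le e.symm ⟨x, hx, rfl⟩, by simp⟩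

/-- `L_{p'}(Y) = Y` when `Y / O_{p'}(Y)` is quasisimple and `Y` has no proper normal subgroup of
index prime to `p`. -/
theorem pLayer_eq_top {Y : Type*} [Group Y] [Finite Y]
    (hQ : Cfsg.IsQuasisimple (Y ⧸ Cfsg.pPrimeCore p Y))
    (hN : ∀ N : Subgroup Y, N.Normal → N.index.Coprime p → N = ⊤) : Cfsg.pLayer p Y = ⊤ := by
  have htop : Cfsg.IsComponent (⊤ : Subgroup (Y ⧸ Cfsg.pPrimeCore p Y)) :=
    ⟨IsSubnormal.top, CfsgLib.Comp.isQuasisimple_of_equiv topEquiv.symm hQ⟩
  refine hN _ (CfsgLib.ExtTwoLayer.pLayer_normal p) ?_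
  refine (CfsgLib.PComp.coprime_index_pGen_top (G := Y) (p := p)).coprime_dvd_left (index_dvd_of_le ?_)
  refine le_trans ?_ (CfsgLib.PComp.pComponent_le_pLayer p (CfsgLib.PComp.isPComponent_compOver p htop))
  rw [CfsgLib.PComp.compOver, comap_top]

/-- A `p`-component of a subgroup is its own `p`-layer. -/
theorem pLayerOf_eq {K C : Subgroup G} (hK : Cfsg.IsPComponentOf p K C) :
    Cfsg.pLayerOf p K = K := by
  obtain ⟨hKC, hK⟩ := hK
  set e := subgroupOfEquivOfLe hKC
  have hQ : Cfsg.IsQuasisimple (↥K ⧸ Cfsg.pPrimeCore p ↥K) :=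
    CfsgLib.Comp.isQuasisimple_of_equiv
      (QuotientGroup.congr _ _ e (map_pPrimeCore e)) (CfsgLib.PComp.isQuasisimple_quotient p hK)
  rw [Cfsg.pLayerOf, pLayer_eq_top hQ fun N hN hi => ?_, ← MonoidHom.range_eq_map, range_subtype]
  have h := CfsgLib.PComp.normal_eq_top p hK (hN.comap e.toMonoidHom)
    (by rwa [index_comap_of_surjective (H := N) (f := e.toMonoidHom) e.surjective])
  exact comap_injective (f := e.toMonoidHom) e.surjective (h.trans (comap_top _).symm)

/-- Two `p`-components one inside the other are equal. -/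
theorem pComponentOf_eq_of_le {K J C : Subgroup G} (hK : Cfsg.IsPComponentOf p K C)
    (hJ : Cfsg.IsPComponentOf p J C) (h : K ≤ J) : K = J := by
  have h1 := CfsgLib.Comp.component_le_eq hK.2.2.1 hJ.2.2.1 (map_mono (fun _ hx => h hx))
  have h2 := congrArg (Subgroup.map C.subtype) (CfsgLib.PComp.pComponent_ext p hK.2 hJ.2 h1)
  rwa [map_subgroupOf_eq_of_le hK.1, map_subgroupOf_eq_of_le hJ.1] at h2

theorem mem_centralizerModCore {C K : Subgroup G} {d : C} :
    d ∈ Cfsg.centralizerModCore p C K ↔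
      ∀ k : C, (k : G) ∈ K → d * k * d⁻¹ * k⁻¹ ∈ Cfsg.pPrimeCore p ↥C := by
  constructor
  · intro hd k hk
    have h := mem_centralizer_iff.1 hd (QuotientGroup.mk' _ k) (mem_map_of_mem _ hk)
    refine (QuotientGroup.eq_one_iff _).1 ?_
    show QuotientGroup.mk' (Cfsg.pPrimeCore p ↥C) (d * k * d⁻¹ * k⁻¹) = 1
    simp only [map_mul, map_inv, ← h]
    group
  · intro h
    refine mem_centralizer_iff.2 ?_
    rintro _ ⟨k, hk, rfl⟩
    have h1 : QuotientGroup.mk' (Cfsg.pPrimeCore p ↥C) (d * k * d⁻¹ * k⁻¹) = 1 :=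
      (QuotientGroup.eq_one_iff _).2 (h k hk)
    simp only [map_mul, map_inv, mul_inv_eq_one] at h1
    exact (mul_inv_eq_iff_eq_mul.1 h1).symm

theorem mem_centralizerOfPComponent {x : G} {K : Subgroup G} {d : G} :
    d ∈ Cfsg.centralizerOfPComponent p x K ↔ ∃ hd : d ∈ centralizer ({x} : Set G),
      (⟨d, hd⟩ : centralizer ({x} : Set G)) ∈ Cfsg.centralizerModCore p (centralizer ({x} : Set G)) K :=
  ⟨fun ⟨⟨_, hw⟩, h, e⟩ => by subst e; exact ⟨hw, h⟩, fun ⟨hd, h⟩ => ⟨⟨d, hd⟩, h, rfl⟩⟩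

theorem centralizerOfPComponent_congr {x y : G}
    (h : centralizer ({x} : Set G) = centralizer ({y} : Set G)) (K : Subgroup G) :
    Cfsg.centralizerOfPComponent p x K = Cfsg.centralizerOfPComponent p y K := by
  have : ∀ C C' : Subgroup G, C = C' → (Cfsg.centralizerModCore p C K).map C.subtype =
      (Cfsg.centralizerModCore p C' K).map C'.subtype := by
    rintro C _ rfl
    rfl
  exact this _ _ h

/-- An element centralizing the image of a `p`-component normalizes it and moves its elements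
within `O_{p'}` of the component. -/
theorem commutator_mem_core {C K : Subgroup G} (hK : Cfsg.IsPComponentOf p K C) {d : C}
    (hd : d ∈ Cfsg.centralizerModCore p C K) (k : G) (hk : k ∈ K) :
    (d : G) * k * (d : G)⁻¹ * k⁻¹ ∈ ((Cfsg.pPrimeCore p ↥K).map K.subtype : Subgroup G) := by
  have hn : d ∈ normalizer ((K.subgroupOf C : Subgroup C) : Set C) := by
    refine CfsgLib.PComp.normalizer_map_le p hK.2 ?_
    rw [mem_comap]
    exact (centralizer_le_normalizer _) hd
  set k' : C := ⟨k, hK.1 hk⟩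
  have h1 : d * k' * d⁻¹ * k'⁻¹ ∈ K.subgroupOf C :=
    mul_mem ((mem_normalizer_iff.1 hn k').1 hk) (inv_mem (show k' ∈ K.subgroupOf C from hk))
  have h2 : d * k' * d⁻¹ * k'⁻¹ ∈ (Cfsg.pPrimeCore p ↥(K.subgroupOf C)).map (K.subgroupOf C).subtype := by
    rw [CfsgLib.PComp.pPrimeCore_eq_inf p hK.2.1]
    exact ⟨mem_centralizerModCore.1 hd k' hk, h1⟩
  obtain ⟨w, hw, e⟩ := h2
  refine ⟨subgroupOfEquivOfLe hK.1 w, map_pPrimeCore_le (subgroupOfEquivOfLe hK.1) ⟨w, hw, rfl⟩, ?_⟩
  exact congrArg Subtype.val e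

end CfsgLib.Terminal
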