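import Cfsg.Prelude.Def_Balance
import Cfsg.Agent.KGroup.Terminal
import Cfsg.Agent.LocalB.OddSignalizer

/-!
Two-components of centralizers of involutions in a group with the B-property.
-/

set_option autoImplicit false
set_option linter.unusedSectionVars false

namespace CfsgLib.SectionLayer

open Subgroup
open scoped commutatorElement

/-- A perfect central extension of a quasisimple group is quasisimple. -/
theorem isQuasisimple_of_central {A B : Type*} [Group A] [Group B] (f : A →* B)
    (hf : Function.Surjective f) (hker : f.ker ≤ center A) (hperf : Group.IsPerfect A)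
    (hB : Cfsg.IsQuasisimple B) : Cfsg.IsQuasisimple A := by
  refine ⟨hperf, ?_⟩
  haveI := hB.2
  have hc : center A = (center B).comap f := by
    refine le_antisymm (fun x hx => mem_center_iff.2 fun b => ?_) (fun x hx => ?_)
    · obtain ⟨a, rfl⟩ := hf b
      rw [← map_mul, ← map_mul, mem_center_iff.1 hx a]
    · have h2 : ⁅⁅zpowers x, (⊤ : Subgroup A)⁆, (⊤ : Subgroup A)⁆ = ⊥ := by
        rw [commutator_eq_bot_iff_le_centralizer]
        refine le_trans ?_ (hker.trans (center_le_centralizer _))
        rw [commutator_le]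
        intro u hu v _
        obtain ⟨i, rfl⟩ := mem_zpowers_iff.1 hu
        rw [MonoidHom.mem_ker, map_commutatorElement, map_zpow,
          commutatorElement_eq_one_iff_mul_comm]
        exact ((Commute.zpow_left (show Commute _ _ from (mem_center_iff.1 hx (f v)).symm) i)).eq
      have h3 := Comp.commutator_eq_bot_of_perfect (K := zpowers x) (H := (⊤ : Subgroup A))
        (by rw [← _root_.commutator_def]; exact hperf.commutator_eq_top) h2
      rw [commutator_eq_bot_iff_le_centralizer] at h3
      exact mem_center_iff.2 fun y => mem_centralizer_iff.1 (h3 (mem_zpowers x)) y (mem_top y)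
  have hg : Function.Surjective ((QuotientGroup.mk' (center B)).comp f) :=
    (QuotientGroup.mk'_surjective _).comp hf
  have hk : center A = ((QuotientGroup.mk' (center B)).comp f).ker := by
    rw [← MonoidHom.comap_ker, QuotientGroup.ker_mk', hc]
  exact ((QuotientGroup.quotientMulEquivOfEq hk).trans
    (QuotientGroup.quotientKerEquivOfSurjective _ hg)).isSimpleGroup

variable {A W : Type*} [Group A] [Finite A] [Group W] [Finite W]

/-- `p`-components are carried along an embedding with normal image. -/
theorem isPComponent_map {p : ℕ} [Fact p.Prime] {J : Subgroup A} (hJ : Cfsg.IsPComponent p J)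
    (ι : A →* W) (hι : Function.Injective ι) (hn : ι.range.Normal) :
    Cfsg.IsPComponent p (J.map ι) := by
  set π := QuotientGroup.mk' (Cfsg.pPrimeCore p W)
  set ρ := QuotientGroup.mk' (Cfsg.pPrimeCore p A)
  have hsn : (J.map ι).IsSubnormal := by
    have h1 : (J.map ι.rangeRestrict).IsSubnormal := hJ.1.map ι.rangeRestrict_surjective
    have h2 := h1.trans' hn.isSubnormal
    rwa [map_map, show ι.range.subtype.comp ι.rangeRestrict = ι from rfl] at h2
  have hker : (π.comp ι).ker = Cfsg.pPrimeCore p A := by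
    refine le_antisymm (CfsgLib.Solvable.le_pPrimeCore p (π.comp ι).normal_ker ?_) ?_
    · refine (CfsgLib.Solvable.coprime_card_pPrimeCore (G := W) p).coprime_dvd_left ?_
      rw [← card_map_of_injective (K := (π.comp ι).ker) hι]
      refine card_dvd_of_le ?_
      rintro _ ⟨w, hw, rfl⟩
      exact (QuotientGroup.eq_one_iff _).1 hw
    · intro a ha
      refine (QuotientGroup.eq_one_iff _).2
        (PComp.subnormal_le_pPrimeCore (H := (Cfsg.pPrimeCore p A).map ι) ?_ ?_ ⟨a, ha, rfl⟩)
      · have h1 : ((Cfsg.pPrimeCore p A).map ι.rangeRestrict).IsSubnormal :=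
          (CfsgLib.Solvable.pPrimeCore_spec (G := A) p).1.isSubnormal.map ι.rangeRestrict_surjective
        have h2 := h1.trans' hn.isSubnormal
        rwa [map_map, show ι.range.subtype.comp ι.rangeRestrict = ι from rfl] at h2
      · rw [card_map_of_injective hι]
        exact CfsgLib.Solvable.coprime_card_pPrimeCore p
  set g := QuotientGroup.lift (Cfsg.pPrimeCore p A) (π.comp ι) hker.ge
  have hg : Function.Injective g := by
    rw [← MonoidHom.ker_eq_bot_iff, QuotientGroup.ker_lift, hker]
    exact QuotientGroup.map_mk'_self _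
  have hgρ : ∀ H : Subgroup A, (H.map ρ).map g = (H.map ι).map π := by
    intro H
    rw [map_map, map_map]
    rfl
  refine ⟨hsn, ⟨hsn.map (QuotientGroup.mk'_surjective _), ?_⟩, fun H hH hle hm => ?_⟩
  · rw [← hgρ J]
    exact Comp.isQuasisimple_of_equiv ((J.map ρ).equivMapOfInjective g hg) hJ.2.1.2
  · have hH' : (H.comap ι).map ι = H := map_comap_eq_self (hle.trans (map_le_range _ _))
    have h1 : H.comap ι = J := hJ.2.2 _ (hH.comap ι)
      ((comap_mono hle).trans (comap_map_eq_self_of_injective hι J).le)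
      (map_injective hg (by rw [hgρ, hgρ, hH']; exact hm))
    rw [← hH', h1]

theorem map_pLayer_le {p : ℕ} [Fact p.Prime] (ι : A →* W) (hι : Function.Injective ι)
    (hn : ι.range.Normal) : (Cfsg.pLayer p A).map ι ≤ Cfsg.pLayer p W :=
  map_le_iff_le_comap.2 (PComp.pLayer_le p fun _ hK =>
    map_le_iff_le_comap.1 (PComp.pComponent_le_pLayer p (isPComponent_map hK ι hι hn)))

omit [Finite W] in
/-- The B-property at an involution, transported along an isomorphism. -/
theorem bProperty_equiv {Y Y' : Type*} [Group Y] [Finite Y] [Group Y'] [Finite Y'] (e : Y ≃* Y')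
    (h : Cfsg.HasBProperty Y') (a : Y) (ha : orderOf a = 2) :
    (⁅Cfsg.pLayer 2 ↥(centralizer ({a} : Set Y)),
        Cfsg.oddCore ↥(centralizer ({a} : Set Y))⁆).map (centralizer ({a} : Set Y)).subtype ≤
      Cfsg.oddCore Y := by
  have h' := h (e a) (by rw [MulEquiv.orderOf_eq]; exact ha)
  set ι : centralizer ({a} : Set Y) →* centralizer ({e a} : Set Y') :=
    MonoidHom.codRestrict (e.toMonoidHom.comp (centralizer ({a} : Set Y)).subtype)
      (centralizer ({e a} : Set Y')) (fun c => mem_centralizer_singleton_iff.2 (by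
        simpa [← map_mul] using congrArg e (mem_centralizer_singleton_iff.1 c.2))) with hι
  have hinj : Function.Injective ι := fun c d hcd =>
    Subtype.ext (e.injective (congrArg Subtype.val hcd))
  have hsur : Function.Surjective ι := by
    intro d
    refine ⟨⟨e.symm d, mem_centralizer_singleton_iff.2 (e.injective ?_)⟩, Subtype.ext ?_⟩
    · simpa using mem_centralizer_singleton_iff.1 d.2
    · simp [hι]
  have hn : ι.range.Normal := by
    rw [MonoidHom.range_eq_top.2 hsur]; infer_instance
  intro x hx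
  obtain ⟨c, hc, rfl⟩ := hx
  have hcore : (Cfsg.oddCore ↥(centralizer ({a} : Set Y))).map ι ≤
      Cfsg.oddCore ↥(centralizer ({e a} : Set Y')) :=
    CfsgLib.Solvable.le_pPrimeCore 2
      ((CfsgLib.Solvable.pPrimeCore_spec 2).1.map ι hsur)
      ((CfsgLib.Solvable.coprime_card_pPrimeCore 2).coprime_dvd_left (card_map_dvd _ _))
  have h1 : ι c ∈ ⁅Cfsg.pLayer 2 ↥(centralizer ({e a} : Set Y')),
      Cfsg.oddCore ↥(centralizer ({e a} : Set Y'))⁆ := by
    have h2 := mem_map_of_mem ι hc
    rw [map_commutator] at h2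
    exact commutator_mono (map_pLayer_le ι hinj hn) hcore h2
  have h3 : e (c : Y) ∈ Cfsg.oddCore Y' := h' ⟨_, h1, rfl⟩
  have h4 := Terminal.map_pPrimeCore_le (p := 2) e.symm ⟨_, h3, rfl⟩
  simpa using h4

/-- A quasisimple subnormal subgroup of even order centralizes every odd subgroup it normalizes. -/
theorem commutator_eq_bot_of_odd {X : Type*} [Group X] [Finite X] {J E : Subgroup X}
    (hJ : Cfsg.IsComponent J) (h2 : 2 ∣ Nat.card J) (hE : Odd (Nat.card E))
    (hn : J ≤ normalizer (E : Set X)) : ⁅J, E⁆ = ⊥ := by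
  set U := J ⊔ E
  have hEn : (E.subgroupOf U).Normal :=
    (normal_subgroupOf_iff_le_normalizer le_sup_right).2 (sup_le hn le_normalizer)
  rcases Comp.component_le_or_commutator_eq_bot
      (Comp.component_subgroupOf hJ (le_sup_left : J ≤ U)) hEn.isSubnormal with h | h
  · exfalso
    have hle : J ≤ E := fun x hx => h (show (⟨x, mem_sup_left hx⟩ : U) ∈ J.subgroupOf U from hx)
    exact (Nat.not_even_iff_odd.2 hE) (even_iff_two_dvd.2 (h2.trans (card_dvd_of_le hle)))
  · have := congrArg (Subgroup.map U.subtype) h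
    rwa [map_commutator, map_subgroupOf_eq_of_le le_sup_left,
      map_subgroupOf_eq_of_le le_sup_right, Subgroup.map_bot] at this

variable {Y : Type*} [Group Y] [Finite Y] {a : Y}

/-- In a group with the B-property, 2-components of an involution centralizer map onto components of
the centralizer in `Y / O(Y)`, and centralize invariant odd subgroups modulo `O(Y)`. -/
theorem image_component (ha : a * a = 1) (C : Subgroup Y) (hC : C = centralizer ({a} : Set Y))
    (hB : (⁅Cfsg.pLayer 2 C, Cfsg.oddCore C⁆).map C.subtype ≤ Cfsg.oddCore Y)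
    {K : Subgroup C} (hK : Cfsg.IsPComponent 2 K) :
    Cfsg.IsComponent
        (((K.map C.subtype).map (QuotientGroup.mk' (Cfsg.oddCore Y))).subgroupOf
          (centralizer ({QuotientGroup.mk' (Cfsg.oddCore Y) a} : Set (Y ⧸ Cfsg.oddCore Y)))) ∧
      ∀ E : Subgroup Y, E ≤ C → Odd (Nat.card E) →
        K.map C.subtype ≤ normalizer (E : Set Y) →
          ⁅K.map C.subtype, E⁆ ≤ Cfsg.oddCore Y := by
  haveI : Fact (Nat.Prime 2) := ⟨Nat.prime_two⟩
  set π := QuotientGroup.mk' (Cfsg.oddCore Y)
  set Cq := centralizer ({π a} : Set (Y ⧸ Cfsg.oddCore Y))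
  set φ : C →* Cq := MonoidHom.codRestrict (π.comp C.subtype) Cq (fun c =>
    mem_centralizer_singleton_iff.2 (by
      have := congrArg π (mem_centralizer_singleton_iff.1 (hC.le c.2))
      rwa [map_mul, map_mul] at this)) with hφ
  have hφs : Function.Surjective φ := by
    rintro ⟨q, hq⟩
    obtain ⟨u, rfl⟩ := QuotientGroup.mk'_surjective _ q
    have h1 : a * u * a⁻¹ * u⁻¹ ∈ Cfsg.oddCore Y := by
      refine (QuotientGroup.eq_one_iff _).1 ?_
      show π (a * u * a⁻¹ * u⁻¹) = 1
      have hq' : π u * π a = π a * π u := mem_centralizer_singleton_iff.1 hq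
      rw [map_mul, map_mul, map_mul, map_inv, map_inv, ← hq', mul_inv_cancel_right, mul_inv_cancel]
    obtain ⟨v, hv, hav⟩ :=
      LocalB.exists_fixed_lift LocalB.odd_card_oddCore ha h1
    refine ⟨⟨v, hC.ge (mem_centralizer_singleton_iff.2 hav.symm)⟩, Subtype.ext ?_⟩
    show π v = π u
    have : π (v * u⁻¹) = 1 := (QuotientGroup.eq_one_iff _).2 hv
    rwa [map_mul, map_inv, mul_inv_eq_one] at this
  set ψ := QuotientGroup.mk' (Cfsg.pPrimeCore 2 C)
  have hkerφ : φ.ker ≤ Cfsg.pPrimeCore 2 C := by
    refine CfsgLib.Solvable.le_pPrimeCore 2 φ.normal_ker ?_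
    refine (CfsgLib.Solvable.coprime_card_pPrimeCore (G := Y) 2).coprime_dvd_left ?_
    rw [← card_map_of_injective (K := φ.ker) C.subtype_injective]
    refine card_dvd_of_le ?_
    rintro _ ⟨w, hw, rfl⟩
    exact (QuotientGroup.eq_one_iff _).1 (congrArg Subtype.val (MonoidHom.mem_ker.1 hw))
  have hcomm : ∀ k ∈ K, ∀ o ∈ Cfsg.pPrimeCore 2 C, φ k * φ o = φ o * φ k := by
    intro k hk o ho
    have h1 : ((⁅k, o⁆ : C) : Y) ∈ Cfsg.oddCore Y :=
      hB ⟨_, commutator_mem_commutator (PComp.pComponent_le_pLayer 2 hK hk) ho, rfl⟩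
    rw [← commutatorElement_eq_one_iff_mul_comm, ← map_commutatorElement]
    exact Subtype.ext ((QuotientGroup.eq_one_iff _).2 h1)
  set φK := φ.subgroupMap K
  set ψK := ψ.subgroupMap K
  have hkK : φK.ker ≤ ψK.ker := by
    intro k hk
    refine MonoidHom.mem_ker.2 (Subtype.ext ((QuotientGroup.eq_one_iff _).2 (hkerφ ?_)))
    exact MonoidHom.mem_ker.2 (congrArg Subtype.val (MonoidHom.mem_ker.1 hk))
  obtain ⟨f, hf⟩ : ∃ f : K.map φ →* K.map ψ, ∀ k, f (φK k) = ψK k :=
    ⟨φK.liftOfSurjective (MonoidHom.subgroupMap_surjective φ K) ⟨ψK, hkK⟩, fun k =>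
      MonoidHom.liftOfRightInverse_comp_apply _ _ _ _ k⟩
  have hfs : Function.Surjective f := fun y => by
    obtain ⟨k, rfl⟩ := MonoidHom.subgroupMap_surjective ψ K y
    exact ⟨φK k, hf k⟩
  have hfker : f.ker ≤ center (K.map φ) := by
    intro z hz
    obtain ⟨k, rfl⟩ := MonoidHom.subgroupMap_surjective φ K z
    have hko : (k : C) ∈ Cfsg.pPrimeCore 2 C := by
      have h1 : ψK k = 1 := by rw [← hf k]; exact hz
      exact (QuotientGroup.eq_one_iff _).1 (congrArg Subtype.val h1)
    refine mem_center_iff.2 fun w => ?_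
    obtain ⟨k', rfl⟩ := MonoidHom.subgroupMap_surjective φ K w
    exact Subtype.ext (hcomm k' k'.2 k hko)
  have hperf : Group.IsPerfect (K.map φ) :=
    Subgroup.isPerfect_iff.mpr (by rw [← map_commutator, PComp.pComponent_perfect 2 hK])
  have hcomp : Cfsg.IsComponent (K.map φ) :=
    ⟨hK.1.map hφs, isQuasisimple_of_central f hfs hfker hperf hK.2.1.2⟩
  have h2 : 2 ∣ Nat.card (K.map φ) := by
    refine dvd_trans ?_ (card_dvd_of_surjective f hfs)
    by_contra hodd
    refine Comp.component_ne_bot hK.2.1 (le_bot_iff.1 ?_)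
    rw [← Fitting.pPrimeCore_quotient_eq_bot (G := C) 2]
    exact PComp.subnormal_le_pPrimeCore hK.2.1.1
      ((Nat.prime_two.coprime_iff_not_dvd.2 hodd).symm)
  have hmap : ∀ H : Subgroup C, (H.map φ).map Cq.subtype = (H.map C.subtype).map π := by
    intro H
    rw [map_map, map_map]
    rfl
  refine ⟨?_, fun E hEC hE hn => ?_⟩
  · have : ((K.map C.subtype).map π).subgroupOf Cq = K.map φ := by
      rw [← hmap, subgroupOf, comap_map_eq_self_of_injective Cq.subtype_injective]
    rwa [this]
  · set E' := E.subgroupOf C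
    have hE' : E'.map C.subtype = E := map_subgroupOf_eq_of_le hEC
    have hodd : Odd (Nat.card (E'.map φ)) := by
      refine hE.of_dvd_nat ((card_map_dvd _ _).trans ?_)
      rw [← card_map_of_injective (K := E') C.subtype_injective, hE']
    have hnor : K.map φ ≤ normalizer ((E'.map φ : Subgroup Cq) : Set Cq) := by
      refine le_trans (map_mono ?_) (le_normalizer_map φ)
      intro k hk
      have h1 := mem_normalizer_iff.1 (hn ⟨k, hk, rfl⟩)
      exact mem_normalizer_iff.2 fun u => by simpa [E', mem_subgroupOf] using h1 (u : Y)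
    have h := congrArg (Subgroup.map Cq.subtype) (commutator_eq_bot_of_odd hcomp h2 hodd hnor)
    rw [map_commutator, hmap, hmap, hE', ← map_commutator, Subgroup.map_bot,
      Subgroup.map_eq_bot_iff, QuotientGroup.ker_mk'] at h
    exact h

end CfsgLib.SectionLayer
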