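import Cfsg.Agent.KGroup.CharP

/-! Small facts about involutions and `2`-locals used with `CfsgLib.CharP`. -/

set_option autoImplicit false

namespace CfsgLib.CharP

open Subgroup

variable {G : Type*} [Group G]

theorem exists_orderOf_two [Finite G] {U : Subgroup G} (hU : IsPGroup 2 U) (h : U ≠ ⊥) :
    ∃ z ∈ U, orderOf z = 2 := by
  haveI : Fact (Nat.Prime 2) := ⟨Nat.prime_two⟩
  haveI := (nontrivial_iff_ne_bot U).2 h
  obtain ⟨k, hk, hcard⟩ := hU.nontrivial_iff_card.1 inferInstance
  obtain ⟨z, hz⟩ := exists_prime_orderOf_dvd_card' (G := U) 2 (hcard ▸ dvd_pow_self 2 hk.ne')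
  exact ⟨z, z.2, by rw [orderOf_coe, hz]⟩

theorem normalizer_zpowers_of_orderOf_two {z : G} (hz : orderOf z = 2) :
    normalizer (zpowers z : Set G) = centralizer ({z} : Set G) := by
  have hmem : ∀ x ∈ zpowers z, x = 1 ∨ x = z := by
    intro x hx
    obtain ⟨k, rfl⟩ := mem_zpowers_iff.1 hx
    rcases Int.even_or_odd k with ⟨j, rfl⟩ | ⟨j, rfl⟩
    · left; rw [← two_mul, zpow_mul, zpow_ofNat, ← hz, pow_orderOf_eq_one, one_zpow]
    · right; rw [zpow_add_one, zpow_mul, zpow_ofNat, ← hz, pow_orderOf_eq_one, one_zpow, one_mul]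
  apply le_antisymm
  · intro g hg
    rw [mem_centralizer_singleton_iff]
    rcases hmem _ ((mem_normalizer_iff.1 hg z).1 (mem_zpowers z)) with h | h
    · rw [conj_eq_one_iff] at h
      rw [h, orderOf_one] at hz
      omega
    · calc g * z = g * z * g⁻¹ * g := by group
        _ = z * g := by rw [h]
  · intro g hg
    refine centralizer_le_normalizer _ ?_
    rwa [zpowers_eq_closure, centralizer_closure]

theorem isTwoLocal_centralizer {z : G} (hz : orderOf z = 2) :
    Cfsg.IsTwoLocal (centralizer ({z} : Set G)) := by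
  refine ⟨zpowers z, IsPGroup.of_card (n := 1) (by rw [Nat.card_zpowers, hz, pow_one]), ?_,
    (normalizer_zpowers_of_orderOf_two hz).symm⟩
  rw [Ne, zpowers_eq_bot]
  rintro rfl
  simp at hz

/-- If the centralizer of every involution has characteristic 2, so does every 2-local. -/
theorem isCharacteristicTwoType_of_forall [Finite G] (h2 : Even (Nat.card G))
    (h : ∀ z : G, orderOf z = 2 → HasCharP 2 (centralizer ({z} : Set G))) :
    Cfsg.IsCharacteristicTwoType G := by
  haveI : Fact (Nat.Prime 2) := ⟨Nat.prime_two⟩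
  refine ⟨h2, fun T hT hT1 => ?_⟩
  obtain ⟨z, hzT, hz⟩ := exists_orderOf_two hT hT1
  exact hasCharP_normalizer hT hzT (h z hz)

end CfsgLib.CharP
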