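import Cfsg.Agent.KGroup.TISet
import Cfsg.Agent.Solvable.CoprimeAct

/-!
Squares of abelian TI 2-subgroups in groups of characteristic 2.
-/

set_option autoImplicit false
set_option linter.style.haveILetI false

namespace CfsgLib.TISquares

open Subgroup

theorem sq_mem_frattini {G : Type*} [Group G] [Finite G] (hG : IsPGroup 2 G) (g : G) :
    g ^ 2 ∈ frattini G := by
  haveI : Fact (Nat.Prime 2) := ⟨Nat.prime_two⟩
  rw [frattini, Order.radical]
  simp only [Subgroup.mem_iInf]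
  intro M hM
  haveI : Group.IsNilpotent G := hG.isNilpotent
  haveI : M.Normal :=
    NormalizerCondition.normal_of_coatom M Group.normalizerCondition_of_isNilpotent hM
  by_contra hg
  have hlt : M < M ⊔ zpowers (g ^ 2) := lt_of_le_of_ne le_sup_left fun h => hg (by
    rw [h]
    exact mem_sup_right (mem_zpowers _))
  have htop := hM.2 _ hlt
  obtain ⟨m, hm, b, hb, he⟩ := mem_sup_of_normal_left.1 (htop ▸ mem_top g)
  obtain ⟨k, rfl⟩ := mem_zpowers_iff.1 hb
  set q := QuotientGroup.mk' M g with hq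
  have hqk : q ^ (2 * k) = q := by
    conv_rhs => rw [hq, ← he, map_mul, (QuotientGroup.eq_one_iff m).2 hm |> fun h =>
      (show QuotientGroup.mk' M m = 1 from h), one_mul, map_zpow, map_pow, ← hq]
    rw [zpow_mul]
    simp
  have hiter : ∀ j : ℕ, q ^ ((2 * k) ^ j) = q := by
    intro j
    induction j with
    | zero => simp
    | succ j ih => rw [pow_succ, zpow_mul, ih, hqk]
  obtain ⟨n, hn⟩ := hG g
  have hq1 : q = 1 := by
    rw [← hiter n, mul_pow, zpow_mul,
      show ((2 : ℤ) ^ n) = ((2 ^ n : ℕ) : ℤ) by push_cast; ring, zpow_natCast, hq, ← map_pow, hn,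
      map_one, one_zpow]
  exact hg (pow_mem ((QuotientGroup.eq_one_iff g).1 hq1) 2)

variable {G : Type*} [Group G] [Finite G]

/-- Conjugates inside a 2-subgroup of a non-elementary abelian TI subgroup commute. -/
theorem commute_of_conj {S A : Subgroup G} (hS : IsPGroup 2 S) (hAS : A ≤ S)
    (hcomm : ∀ a ∈ A, ∀ b ∈ A, a * b = b * a) {a₀ : G} (ha₀ : a₀ ∈ A) (ha₀' : a₀ ^ 2 ≠ 1)
    (hti : ∀ h : G, A.map (MulAut.conj h).toMonoidHom = A ∨
      A.map (MulAut.conj h).toMonoidHom ⊓ A = ⊥)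
    {x : G} (hx : A.map (MulAut.conj x).toMonoidHom ≤ S) {a b : G} (ha : a ∈ A) (hb : b ∈ A) :
    (x * a * x⁻¹) * b = b * (x * a * x⁻¹) := by
  rcases hti x with hxA | hxd
  · refine hcomm _ ?_ b hb
    rw [← hxA, TI.conj_map_mem]
    simpa [mul_assoc] using ha
  let Δ : Set (Subgroup S) := {T | ∃ y : G, T.map S.subtype = A.map (MulAut.conj y).toMonoidHom}
  have hinv : ∀ s : S, ∀ R ∈ Δ, R.map (MulAut.conj s).toMonoidHom ∈ Δ := by
    rintro s R ⟨y, hy⟩
    refine ⟨s * y, ?_⟩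
    rw [map_map, show S.subtype.comp (MulAut.conj s).toMonoidHom =
      (MulAut.conj (s : G)).toMonoidHom.comp S.subtype from MonoidHom.ext fun u => by simp,
      ← map_map, hy, map_map]
    congr 1
    exact MonoidHom.ext fun u => by simp [mul_assoc]
  have hΦ : ∀ R ∈ Δ, frattini ↥R ≠ ⊥ := by
    rintro R ⟨y, hy⟩ hbot
    have hmem : y * a₀ * y⁻¹ ∈ R.map S.subtype := by
      rw [hy, TI.conj_map_mem]
      simpa [mul_assoc] using ha₀
    obtain ⟨r, hr, hre⟩ := hmem
    have h2 := sq_mem_frattini (hS.to_subgroup R) ⟨r, hr⟩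
    rw [hbot, mem_bot] at h2
    apply ha₀'
    have h3 : (y * a₀ * y⁻¹) ^ 2 = 1 := by
      rw [← hre, ← map_pow]
      have h4 := congrArg Subtype.val h2
      simp only [coe_pow, coe_one] at h4
      rw [h4, map_one]
    rwa [conj_pow, conj_eq_one_iff] at h3
  have hcard : ∀ R ∈ Δ, Nat.card ↥R = Nat.card ↥A := by
    rintro R ⟨y, hy⟩
    rw [← card_map_of_injective (K := R) S.subtype_injective, hy,
      card_map_of_injective (MulAut.conj y).injective]
  have hti' : ∀ R ∈ Δ, ∀ T ∈ Δ, R = T ∨ R ⊓ T = ⊥ := by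
    rintro R ⟨y, hy⟩ T ⟨w, hw⟩
    rcases hti (w⁻¹ * y) with h | h
    · left
      apply map_injective S.subtype_injective
      rw [hy, hw]
      conv_rhs => rw [← h]
      rw [map_map]
      congr 1
      exact MonoidHom.ext fun u => by simp [mul_assoc]
    · right
      rw [eq_bot_iff]
      rintro r ⟨hrR, hrT⟩
      have h1 : (r : G) ∈ A.map (MulAut.conj y).toMonoidHom := hy ▸ ⟨r, hrR, rfl⟩
      have h2 : (r : G) ∈ A.map (MulAut.conj w).toMonoidHom := hw ▸ ⟨r, hrT, rfl⟩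
      rw [TI.conj_map_mem] at h1 h2
      have h3 : w⁻¹ * (r : G) * w ∈ A.map (MulAut.conj (w⁻¹ * y)).toMonoidHom ⊓ A :=
        mem_inf.2 ⟨TI.conj_map_mem.2 (by simpa [mul_assoc] using h1), h2⟩
      rw [h, mem_bot] at h3
      rw [mem_bot]
      apply Subtype.ext
      calc (r : G) = w * (w⁻¹ * r * w) * w⁻¹ := by group
        _ = 1 := by rw [h3, mul_one, mul_inv_cancel]
  have hA' : A.subgroupOf S ∈ Δ :=
    ⟨1, by rw [map_subgroupOf_eq_of_le hAS]; ext u; rw [TI.conj_map_mem]; simp⟩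
  have hx' : (A.map (MulAut.conj x).toMonoidHom).subgroupOf S ∈ Δ :=
    ⟨x, map_subgroupOf_eq_of_le hx⟩
  have hne : (A.map (MulAut.conj x).toMonoidHom).subgroupOf S ≠ A.subgroupOf S := by
    intro h
    have h' := congrArg (Subgroup.map S.subtype) h
    rw [map_subgroupOf_eq_of_le hx, map_subgroupOf_eq_of_le hAS] at h'
    rw [h', inf_idem] at hxd
    rw [hxd, mem_bot] at ha₀
    exact ha₀' (by rw [ha₀, one_pow])
  have h := TISet.commutator_eq_bot hS Δ hinv hΦ (fun R hR T hT => by rw [hcard R hR, hcard T hT])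
    hti' _ hx' _ hA' hne
  rw [commutator_eq_bot_iff_le_centralizer] at h
  have hxa : x * a * x⁻¹ ∈ A.map (MulAut.conj x).toMonoidHom := ⟨a, ha, by simp⟩
  have h' := h (show (⟨x * a * x⁻¹, hx hxa⟩ : S) ∈ _ from hxa)
  exact (congrArg Subtype.val (mem_centralizer_iff.1 h' ⟨b, hAS hb⟩ hb)).symm

theorem squares_le_pCore (hX : Cfsg.generalizedFittingSubgroup G = Cfsg.pCore 2 G) {A : Subgroup G}
    (hA2 : IsPGroup 2 A) (hcomm : ∀ a ∈ A, ∀ b ∈ A, a * b = b * a)
    (hti : ∀ h : G, A.map (MulAut.conj h).toMonoidHom = A ∨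
      A.map (MulAut.conj h).toMonoidHom ⊓ A = ⊥)
    {a : G} (ha : a ∈ A) : a ^ 2 ∈ Cfsg.pCore 2 G := by
  haveI : Fact (Nat.Prime 2) := ⟨Nat.prime_two⟩
  set Q := Cfsg.pCore 2 G with hQ
  haveI : Q.Normal := inferInstance
  by_cases ha2 : a ^ 2 = 1
  · rw [ha2]; exact one_mem _
  have hQ2 : IsPGroup 2 Q := Solvable.isPGroup_pCore 2
  set Φ := (frattini Q).map Q.subtype with hΦ
  haveI : (frattini Q).Characteristic := frattini_characteristic
  haveI : Φ.Normal := inferInstance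
  set f := QuotientGroup.mk' Φ
  haveI : (Q.map f).Normal := Subgroup.Normal.map inferInstance f (QuotientGroup.mk'_surjective _)
  set K := (centralizer (Q.map f : Set (G ⧸ Φ))).comap f with hK
  haveI : K.Normal := inferInstance
  have hmem : ∀ x : G, x ∈ K ↔ ∀ q ∈ Q, x * q * x⁻¹ * q⁻¹ ∈ Φ := by
    intro x
    rw [hK, mem_comap, mem_centralizer_iff]
    simp only [SetLike.mem_coe, mem_map, forall_exists_index, and_imp, forall_apply_eq_imp_iff₂]
    refine forall₂_congr fun q _ => ?_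
    rw [← QuotientGroup.eq_one_iff, ← QuotientGroup.mk'_apply Φ]
    rw [map_mul, map_mul, map_mul, map_inv, map_inv, mul_inv_eq_one, mul_inv_eq_iff_eq_mul]
    exact eq_comm
  have hKp : IsPGroup 2 K := by
    refine CharP.isPGroup_of_forall_eq_one fun y hy => Subtype.ext ?_
    rw [← orderOf_coe] at hy
    refine (CharP.hasCharP_of_Fstar hX).eq_one hy ?_
    obtain ⟨n, hn⟩ := IsPGroup.iff_card.1 (hQ2.to_subgroup (frattini Q))
    exact CoprimeAct.trivial_on_frattini_quotient (A := zpowers (y : G))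
      (le_normalizer_of_normal) (by rw [Nat.card_zpowers, hn]; exact hy.pow_right n)
      (fun z hz q hq => (hmem z).1 (zpowers_le.2 y.2 hz) q hq) (mem_zpowers _)
  have hKQ : K ≤ Q := Solvable.le_pCore 2 inferInstance hKp
  refine hKQ ((hmem _).2 fun q hq => ?_)
  have hAN : A ≤ normalizer (Q : Set G) := le_normalizer_of_normal
  have hS : IsPGroup 2 ↥(A ⊔ Q) := hA2.to_sup_of_normal_right' hQ2 hAN
  have hqS : q ∈ A ⊔ Q := mem_sup_right hq
  have hqa := commute_of_conj hS le_sup_left hcomm ha ha2 hti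
    (x := q) (fun u hu => by
      rw [TI.conj_map_mem] at hu
      have := mul_mem (mul_mem hqS (mem_sup_left (T := Q) hu)) (inv_mem hqS)
      simpa [mul_assoc] using this) (inv_mem ha) ha
  set c := a * q * a⁻¹ * q⁻¹ with hc
  have hcc : a * c * a⁻¹ = c := by
    calc a * c * a⁻¹ = a * (a * (q * a⁻¹ * q⁻¹)) * a⁻¹ := by rw [hc]; group
      _ = a * ((q * a⁻¹ * q⁻¹) * a) * a⁻¹ := by rw [hqa]
      _ = c := by rw [hc]; group
  have hcQ : c ∈ Q := mul_mem (Subgroup.Normal.conj_mem inferInstance q hq a) (inv_mem hq)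
  have : a ^ 2 * q * (a ^ 2)⁻¹ * q⁻¹ = c ^ 2 := by
    calc a ^ 2 * q * (a ^ 2)⁻¹ * q⁻¹ = (a * c * a⁻¹) * c := by rw [hc, sq]; group
      _ = c ^ 2 := by rw [hcc, sq]
  rw [this]
  exact ⟨(⟨c, hcQ⟩ : Q) ^ 2, sq_mem_frattini hQ2 _, rfl⟩

theorem conj_squares_commute (hX : Cfsg.generalizedFittingSubgroup G = Cfsg.pCore 2 G)
    {A : Subgroup G}
    (hA2 : IsPGroup 2 A) (hcomm : ∀ a ∈ A, ∀ b ∈ A, a * b = b * a)
    (hti : ∀ h : G, A.map (MulAut.conj h).toMonoidHom = A ∨
      A.map (MulAut.conj h).toMonoidHom ⊓ A = ⊥)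
    {c : G} (hc : c ∈ A) (hc4 : (c ^ 2) ^ 2 ≠ 1) (x : G) {a b : G} (ha : a ∈ A) (hb : b ∈ A) :
    (x * a ^ 2 * x⁻¹) * b ^ 2 = b ^ 2 * (x * a ^ 2 * x⁻¹) := by
  set Q := Cfsg.pCore 2 G with hQ
  haveI : Q.Normal := inferInstance
  set A₀ := A ⊓ Q with hA₀
  have hmem : ∀ a ∈ A, a ^ 2 ∈ A₀ := fun a ha =>
    ⟨pow_mem ha 2, squares_le_pCore hX hA2 hcomm hti ha⟩
  refine commute_of_conj (S := Q) (A := A₀) (Solvable.isPGroup_pCore 2) inf_le_right
    (fun a ha b hb => hcomm a ha.1 b hb.1) (hmem c hc) hc4 (fun h => ?_) ?_ (hmem a ha) (hmem b hb)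
  · rcases hti h with h1 | h1
    · left
      ext u
      rw [TI.conj_map_mem, hA₀, mem_inf, mem_inf, ← TI.conj_map_mem, h1]
      constructor
      · rintro ⟨hu, hu'⟩
        refine ⟨hu, ?_⟩
        have := Subgroup.Normal.conj_mem (inferInstance : Q.Normal) _ hu' h
        simpa [mul_assoc] using this
      · rintro ⟨hu, hu'⟩
        refine ⟨hu, ?_⟩
        have := Subgroup.Normal.conj_mem (inferInstance : Q.Normal) _ hu' h⁻¹
        simpa [mul_assoc] using this
    · right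
      rw [eq_bot_iff]
      exact (inf_le_inf (map_mono inf_le_left) inf_le_left).trans h1.le
  · intro u hu
    rw [TI.conj_map_mem] at hu
    have := Subgroup.Normal.conj_mem (inferInstance : Q.Normal) _ hu.2 x
    simpa [mul_assoc] using this

end CfsgLib.TISquares
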