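import Cfsg.Agent.KGroup.TI
import Mathlib.GroupTheory.Frattini

/-!
Conjugation invariant TI families of non-elementary 2-subgroups commute pairwise.
-/

set_option autoImplicit false
set_option linter.style.haveILetI false

namespace CfsgLib.TISet

open Subgroup

variable {G : Type*} [Group G]

theorem frattini_eq_bot_of_sq [Finite G] (h : ∀ g : G, g ^ 2 = 1) : frattini G = ⊥ := by
  have hinv : ∀ g : G, g⁻¹ = g := fun g => inv_eq_of_mul_eq_one_right (by rw [← sq]; exact h g)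
  have hc : ∀ a b : G, a * b = b * a := fun a b => by
    calc a * b = (a * b)⁻¹ := (hinv _).symm
      _ = b⁻¹ * a⁻¹ := mul_inv_rev a b
      _ = b * a := by rw [hinv, hinv]
  rw [eq_bot_iff]
  intro x hx
  rw [mem_bot]
  by_contra hx1
  obtain ⟨M, -, hM⟩ := Finite.exists_le_maximal (p := fun M : Subgroup G => x ∉ M) (a := ⊥)
    (by rwa [mem_bot])
  refine hM.1 (frattini_le_coatom (K := M) ⟨fun hMt => hM.1 (hMt ▸ mem_top x), ?_⟩ hx)
  intro K hK
  have hxK : x ∈ K := by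
    by_contra hxK
    exact hK.not_ge (hM.2 hxK hK.le)
  rw [eq_top_iff]
  intro y _
  by_contra hyK
  have hyM : y ∉ M := fun h => hyK (hK.le h)
  let L : Subgroup G :=
    { carrier := {g | g ∈ M ∨ g * y ∈ M}
      one_mem' := Or.inl M.one_mem
      inv_mem' := by
        rintro a ha
        rwa [hinv a]
      mul_mem' := by
        rintro a b (ha | ha) (hb | hb)
        · exact Or.inl (M.mul_mem ha hb)
        · exact Or.inr (by rw [mul_assoc]; exact M.mul_mem ha hb)
        · exact Or.inr (by rw [mul_assoc, hc b y, ← mul_assoc]; exact M.mul_mem ha hb)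
        · refine Or.inl ?_
          have := M.mul_mem ha hb
          rw [show a * y * (b * y) = a * b * (y * y) by
            rw [mul_assoc, mul_assoc, ← mul_assoc y b y, hc y b, mul_assoc], ← sq, h y,
            mul_one] at this
          exact this }
  have hML : M < L := by
    refine lt_of_le_of_ne (fun g hg => Or.inl hg) fun he => hyM ?_
    rw [he]
    exact Or.inr (by rw [← sq, h y]; exact M.one_mem)
  have hxL : x ∈ L := by
    by_contra hxL
    exact hML.not_ge (hM.2 hxL hML.le)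
  rcases hxL with h' | h'
  · exact hM.1 h'
  · apply hyK
    have := K.mul_mem (K.inv_mem hxK) (hK.le h')
    simpa using this

theorem commutator_eq_bot [Finite G] (hS : IsPGroup 2 G) (Δ : Set (Subgroup G))
    (hinv : ∀ s : G, ∀ R ∈ Δ, R.map (MulAut.conj s).toMonoidHom ∈ Δ)
    (hΦ : ∀ R ∈ Δ, frattini ↥R ≠ ⊥) (hord : ∀ R ∈ Δ, ∀ T ∈ Δ, Nat.card ↥R = Nat.card ↥T)
    (hti : ∀ R ∈ Δ, ∀ T ∈ Δ, R = T ∨ R ⊓ T = ⊥) :
    ∀ R ∈ Δ, ∀ T ∈ Δ, R ≠ T → ⁅R, T⁆ = ⊥ := by
  haveI : Fact (Nat.Prime 2) := ⟨Nat.prime_two⟩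
  suffices key : ∀ n : ℕ, ∀ R ∈ Δ, ∀ T ∈ Δ, R ≠ T → Nat.card ↥(R ⊔ T) = n → ⁅R, T⁆ = ⊥ from
    fun R hR T hT hne => key _ R hR T hT hne rfl
  intro n
  induction n using Nat.strong_induction_on with
  | _ n ih =>
    intro R hR T hT hne hcard
    have hd : R ⊓ T = ⊥ := (hti R hR T hT).resolve_left hne
    -- if one normalizes the other, they commute
    have hnormal : ∀ A ∈ Δ, ∀ B ∈ Δ, A ⊓ B = ⊥ → B ≤ normalizer (A : Set G) → ⁅A, B⁆ = ⊥ :=
      fun A hA B hB hAB hN => TI.commutator_eq_bot_of_ti (hS.to_subgroup A) (hS.to_subgroup B)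
        (fun a _ => hti _ (hinv a B hB) B hB) (hord A hA B hB).le hAB hN
    by_cases hTR : T ≤ normalizer (R : Set G)
    · exact hnormal R hR T hT hd hTR
    by_cases hRT : R ≤ normalizer (T : Set G)
    · rw [commutator_comm]
      exact hnormal T hT R hR (inf_comm R T ▸ hd) hRT
    exfalso
    -- conjugates of a member by the join commute with it
    have hconj : ∀ A ∈ Δ, ∀ B ∈ Δ, A ⊔ B = R ⊔ T → A ⊓ B = ⊥ → ∀ s ∈ A ⊔ B,
        ∀ a ∈ A, ∀ a' ∈ A, A.map (MulAut.conj s).toMonoidHom ≠ A →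
          (s * a * s⁻¹) * a' = a' * (s * a * s⁻¹) := by
      intro A hA B hB hAB hABd s hs a ha a' ha' hsA
      have hlt : A < A ⊔ B := lt_of_le_of_ne le_sup_left fun h => by
        have hB1 : B = ⊥ := by
          rw [← hABd]
          exact (inf_eq_right.2 (h ▸ le_sup_right)).symm
        subst hB1
        exact hΦ _ hB (Subsingleton.elim _ _)
      obtain ⟨M, hAM, hM⟩ := Finite.exists_le_maximal (p := fun M : Subgroup G => M < A ⊔ B)
        (a := A) hlt
      obtain ⟨x, hxH, hxM, hxn⟩ :=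
        CharP.exists_mem_normalizer_notMem (hS.to_subgroup (A ⊔ B)) hM.1
      have hHM : A ⊔ B ≤ normalizer (M : Set G) := by
        by_contra hn
        have hlt' : (A ⊔ B) ⊓ normalizer (M : Set G) < A ⊔ B :=
          lt_of_le_of_ne inf_le_left fun h => hn (h ▸ inf_le_right)
        exact hxM (hM.2 hlt' (le_inf hM.1.le le_normalizer) ⟨hxH, hxn⟩)
      have hsM : A.map (MulAut.conj s).toMonoidHom ≤ M :=
        (map_mono hAM).trans_eq (TI.map_conj_eq_of_mem_normalizer (hHM hs))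
      have hlt2 : Nat.card ↥(A.map (MulAut.conj s).toMonoidHom ⊔ A) < n := by
        rw [← hcard, ← hAB]
        exact Solvable.card_lt_of_lt ((sup_le hsM hAM).trans_lt hM.1)
      have h := ih _ hlt2 _ (hinv s A hA) A hA hsA rfl
      rw [commutator_eq_bot_iff_le_centralizer] at h
      exact (mem_centralizer_iff.1 (h ⟨a, ha, by simp [mul_assoc]⟩) a' ha').symm
    -- an element of `T` normalizing `R` with its square only
    obtain ⟨t₀, ht₀, ht₀R⟩ := SetLike.not_le_iff_exists.1 hTR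
    have hsq : ∃ t ∈ T, t ∉ normalizer (R : Set G) ∧ t ^ 2 ∈ normalizer (R : Set G) := by
      obtain ⟨k, hk⟩ := hS t₀
      have hex : ∃ k, t₀ ^ 2 ^ k ∈ normalizer (R : Set G) := ⟨k, hk ▸ one_mem _⟩
      classical
      have hpos : Nat.find hex ≠ 0 := fun h => ht₀R (by
        have := Nat.find_spec hex
        rwa [h, pow_zero, pow_one] at this)
      obtain ⟨j, hj⟩ := Nat.exists_eq_succ_of_ne_zero hpos
      refine ⟨t₀ ^ 2 ^ j, pow_mem ht₀ _, Nat.find_min hex (by omega), ?_⟩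
      rw [← pow_mul, ← pow_succ]
      have := Nat.find_spec hex
      rwa [hj] at this
    obtain ⟨t, htT, htR, ht2⟩ := hsq
    have htR' : R.map (MulAut.conj t⁻¹).toMonoidHom ≠ R := fun h =>
      htR (by simpa using inv_mem (TI.mem_normalizer_of_map_conj_eq h))
    -- the conjugate of `R` by `t` commutes with `R`
    have hcR : ∀ a ∈ R, ∀ b ∈ R, (t⁻¹ * a * t) * b = b * (t⁻¹ * a * t) := fun a ha b hb => by
      have := hconj R hR T hT rfl hd t⁻¹ (inv_mem (mem_sup_right htT)) a ha b hb htR'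
      rwa [inv_inv] at this
    have hdR : R.map (MulAut.conj t⁻¹).toMonoidHom ⊓ R = ⊥ :=
      (hti _ (hinv _ R hR) R hR).resolve_left htR'
    have hdR' : ∀ a ∈ R, t⁻¹ * a * t ∈ R → a = 1 := fun a ha h => by
      have h' : t⁻¹ * a * t ∈ R.map (MulAut.conj t⁻¹).toMonoidHom ⊓ R :=
        mem_inf.2 ⟨⟨a, ha, by simp⟩, h⟩
      rw [hdR, mem_bot] at h'
      calc a = t * (t⁻¹ * a * t) * t⁻¹ := by group
        _ = 1 := by rw [h', mul_one, mul_inv_cancel]
    -- elements of `R` not normalizing `T` are involutions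
    have hinvol : ∀ r ∈ R, r ∉ normalizer (T : Set G) → r ^ 2 = 1 := by
      intro r hr hrT
      have hrT' : T.map (MulAut.conj r⁻¹).toMonoidHom ≠ T := fun h =>
        hrT (by simpa using inv_mem (TI.mem_normalizer_of_map_conj_eq h))
      have h1 : (r⁻¹ * t * r) * t = t * (r⁻¹ * t * r) := by
        have := hconj T hT R hR (sup_comm T R) (inf_comm R T ▸ hd) r⁻¹
          (inv_mem (mem_sup_right hr)) t htT t htT hrT'
        rwa [inv_inv] at this
      set c := t⁻¹ * (r⁻¹ * t * r) with hc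
      have hct : t⁻¹ * c * t = c := by
        rw [hc]
        calc t⁻¹ * (t⁻¹ * (r⁻¹ * t * r)) * t = t⁻¹ * t⁻¹ * ((r⁻¹ * t * r) * t) := by group
          _ = t⁻¹ * t⁻¹ * (t * (r⁻¹ * t * r)) := by rw [h1]
          _ = t⁻¹ * (r⁻¹ * t * r) := by group
      have h2 : (t ^ 2)⁻¹ * r⁻¹ * t ^ 2 * r = c * c := by
        calc (t ^ 2)⁻¹ * r⁻¹ * t ^ 2 * r = t⁻¹ * c * t * c := by rw [hc, sq]; group
          _ = c * c := by rw [hct]
      have h3 : c * c = t⁻¹ * (r⁻¹ * r⁻¹) * t * (r * r) := by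
        calc c * c = (t⁻¹ * r⁻¹ * t) * (r * (t⁻¹ * r⁻¹ * t)) * r := by rw [hc]; group
          _ = (t⁻¹ * r⁻¹ * t) * ((t⁻¹ * r⁻¹ * t) * r) * r := by
              rw [← hcR _ (inv_mem hr) r hr]
          _ = t⁻¹ * (r⁻¹ * r⁻¹) * t * (r * r) := by group
      have h4 : c * c ∈ R := by
        rw [← h2]
        exact mul_mem ((mem_normalizer_iff''.1 ht2 _).1 (inv_mem hr)) hr
      have h5 : t⁻¹ * (r⁻¹ * r⁻¹) * t ∈ R := by
        have := mul_mem h4 (inv_mem (mul_mem hr hr))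
        rwa [h3, mul_inv_cancel_right] at this
      have h6 := hdR' _ (mul_mem (inv_mem hr) (inv_mem hr)) h5
      rw [sq]
      calc r * r = (r⁻¹ * r⁻¹)⁻¹ := by simp
        _ = 1 := by rw [h6, inv_one]
    -- an element of order four of `R`
    have hexp : ∃ y ∈ R, y ^ 4 = 1 ∧ y ^ 2 ≠ 1 := by
      by_contra hno
      push_neg at hno
      apply hΦ R hR
      refine frattini_eq_bot_of_sq fun g => Subtype.ext ?_
      rw [Subgroup.coe_pow, Subgroup.coe_one]
      by_contra hg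
      obtain ⟨k, hk⟩ := hS (g : G)
      classical
      have hex : ∃ k, (g : G) ^ 2 ^ k = 1 := ⟨k, hk⟩
      have h2 : 2 ≤ Nat.find hex := by
        rw [Nat.le_find_iff]
        intro m hm h
        interval_cases m
        · exact hg (by rw [pow_zero, pow_one] at h; rw [h, one_pow])
        · exact hg (by simpa using h)
      obtain ⟨j, hj⟩ : ∃ j, Nat.find hex = j + 2 := ⟨Nat.find hex - 2, by omega⟩
      have h4 : ((g : G) ^ 2 ^ j) ^ 4 = 1 := by
        rw [← pow_mul, show (2 : ℕ) ^ j * 4 = 2 ^ (j + 2) by rw [pow_add]; norm_num, ← hj]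
        exact Nat.find_spec hex
      have h5 := hno _ (pow_mem g.2 _) h4
      exact Nat.find_min hex (m := j + 1) (by omega) (by rw [pow_succ, pow_mul]; exact h5)
    obtain ⟨y, hyR, hy4, hy2⟩ := hexp
    have hyT : y ∈ normalizer (T : Set G) := by
      by_contra h
      exact hy2 (hinvol y hyR h)
    obtain ⟨r, hr, hrT⟩ := SetLike.not_le_iff_exists.1 hRT
    have hr2 : r ^ 2 = 1 := hinvol r hr hrT
    have hry : (r * y) ^ 2 = 1 := hinvol _ (mul_mem hr hyR) fun h => hrT (by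
      simpa using mul_mem h (inv_mem hyT))
    have hryinv : r⁻¹ * y * r = y⁻¹ := by
      have hrinv : r⁻¹ = r := inv_eq_of_mul_eq_one_right (by rwa [← sq])
      rw [hrinv]
      rw [sq] at hry
      calc r * y * r = (r * y * (r * y)) * y⁻¹ := by group
        _ = y⁻¹ := by rw [hry, one_mul]
    set Y := t⁻¹ * y⁻¹ * t with hY
    have hYy : ∀ b ∈ R, Y * b = b * Y := fun b hb => hcR _ (inv_mem hyR) b hb
    have hdT : Y * y ∈ T := by
      have : t⁻¹ * (y⁻¹ * t * y) ∈ T :=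
        mul_mem (inv_mem htT) ((mem_normalizer_iff''.1 hyT _).1 htT)
      simpa [hY, mul_assoc] using this
    have hdTr : r⁻¹ * (Y * y) * r = Y * y⁻¹ := by
      calc r⁻¹ * (Y * y) * r = (r⁻¹ * Y) * (y * r) := by group
        _ = (Y * r⁻¹) * (y * r) := by rw [hYy _ (inv_mem hr)]
        _ = Y * (r⁻¹ * y * r) := by group
        _ = Y * y⁻¹ := by rw [hryinv]
    have hyy : y⁻¹ * y⁻¹ = y * y := by
      calc y⁻¹ * y⁻¹ = y⁻¹ * y⁻¹ * y ^ 4 := by rw [hy4, mul_one]
        _ = y * y := by simp [pow_succ, mul_assoc]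
    have hsqeq : (Y * y) * (Y * y) = (Y * y⁻¹) * (Y * y⁻¹) := by
      calc (Y * y) * (Y * y) = Y * (y * Y) * y := by group
        _ = Y * Y * (y * y) := by rw [← hYy y hyR]; group
        _ = Y * Y * (y⁻¹ * y⁻¹) := by rw [hyy]
        _ = Y * (Y * y⁻¹) * y⁻¹ := by group
        _ = Y * (y⁻¹ * Y) * y⁻¹ := by rw [hYy _ (inv_mem hyR)]
        _ = (Y * y⁻¹) * (Y * y⁻¹) := by group
    have hrT' : T.map (MulAut.conj r⁻¹).toMonoidHom ≠ T := fun h =>
      hrT (by simpa using inv_mem (TI.mem_normalizer_of_map_conj_eq h))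
    have hTd : T.map (MulAut.conj r⁻¹).toMonoidHom ⊓ T = ⊥ :=
      (hti _ (hinv _ T hT) T hT).resolve_left hrT'
    have hzero : (Y * y) * (Y * y) = 1 := by
      have : (Y * y) * (Y * y) ∈ T.map (MulAut.conj r⁻¹).toMonoidHom ⊓ T := by
        refine mem_inf.2 ⟨?_, mul_mem hdT hdT⟩
        rw [hsqeq]
        refine mul_mem ⟨_, hdT, ?_⟩ ⟨_, hdT, ?_⟩ <;> simp [← hdTr]
      rwa [hTd, mem_bot] at this
    apply hy2
    have hY2 : t⁻¹ * (y⁻¹ * y⁻¹) * t = (y * y)⁻¹ := by
      refine eq_inv_of_mul_eq_one_left ?_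
      calc t⁻¹ * (y⁻¹ * y⁻¹) * t * (y * y) = Y * (Y * y) * y := by rw [hY]; group
        _ = Y * (y * Y) * y := by rw [hYy y hyR]
        _ = 1 := by rw [← hzero]; group
    have := hdR' _ (mul_mem (inv_mem hyR) (inv_mem hyR)) (hY2 ▸ inv_mem (mul_mem hyR hyR))
    rw [sq]
    calc y * y = (y⁻¹ * y⁻¹)⁻¹ := by simp
      _ = 1 := by rw [this, inv_one]

end CfsgLib.TISet
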