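import Cfsg.Agent.Comp.Basic
import Cfsg.Prelude.Def_ClassificationK
import Mathlib.GroupTheory.Nilpotent
import Mathlib.GroupTheory.SpecificGroups.Cyclic

/-!
2-groups of exponent four in which every characteristic abelian subgroup is cyclic.
-/

set_option autoImplicit false
set_option linter.style.haveILetI false

namespace CfsgLib.Symp

open Subgroup

universe u

/-- A cyclic group has at most one involution. -/
theorem eq_of_sq_eq_one {G : Type*} [Group G] [Finite G] [IsCyclic G] {a b : G}
    (ha : a * a = 1) (hb : b * b = 1) (ha1 : a ≠ 1) (hb1 : b ≠ 1) : a = b := by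
  classical
  haveI : Fintype G := Fintype.ofFinite _
  by_contra hne
  have h2 := IsCyclic.card_pow_eq_one_le (α := G) (n := 2) two_pos
  have hsub : ({1, a, b} : Finset G) ⊆ Finset.univ.filter fun x : G => x ^ 2 = 1 := by
    intro x hx
    simp only [Finset.mem_insert, Finset.mem_singleton] at hx
    refine Finset.mem_filter.2 ⟨Finset.mem_univ _, ?_⟩
    rcases hx with rfl | rfl | rfl <;> simp [sq, ha, hb]
  have h3 := Finset.card_le_card hsub
  rw [Finset.card_insert_of_notMem (by simp [Ne.symm ha1, Ne.symm hb1]),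
    Finset.card_insert_of_notMem (by simp [hne]), Finset.card_singleton] at h3
  omega

theorem eq_of_sq_eq_one_subgroup {G : Type*} [Group G] [Finite G] {H : Subgroup G}
    (hH : IsCyclic H) {a b : G} (haH : a ∈ H) (hbH : b ∈ H)
    (ha : a * a = 1) (hb : b * b = 1) (ha1 : a ≠ 1) (hb1 : b ≠ 1) : a = b :=
  congrArg Subtype.val (eq_of_sq_eq_one (G := H) (a := ⟨a, haH⟩) (b := ⟨b, hbH⟩)
    (Subtype.ext ha) (Subtype.ext hb) (fun h => ha1 (congrArg Subtype.val h))
    (fun h => hb1 (congrArg Subtype.val h)))

theorem char_inf {G : Type*} [Group G] {H K : Subgroup G} (hH : H.Characteristic)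
    (hK : K.Characteristic) : (H ⊓ K).Characteristic :=
  characteristic_iff_comap_eq.2 fun φ => by
    rw [comap_inf, characteristic_iff_comap_eq.1 hH φ, characteristic_iff_comap_eq.1 hK φ]

theorem char_centralizer {G : Type*} [Group G] {H : Subgroup G} (hH : H.Characteristic) :
    (centralizer (H : Set G)).Characteristic :=
  characteristic_iff_le_comap.2 fun φ g hg => by
    rw [mem_comap, mem_centralizer_iff]
    intro h hh
    have h' : φ.symm h ∈ H := characteristic_iff_le_comap.1 hH φ.symm hh
    have := congrArg φ (mem_centralizer_iff.1 hg _ h')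
    simpa using this

theorem char_map_subtype {G : Type*} [Group G] (D : Subgroup G) (hD : D.Characteristic)
    {H : Subgroup D} (hH : H.Characteristic) : (H.map D.subtype).Characteristic :=
  characteristic_iff_le_comap.2 fun φ g hg => by
    obtain ⟨d, hd, rfl⟩ := hg
    have hφD : ∀ x : G, x ∈ D ↔ φ x ∈ D := fun x => by
      conv_lhs => rw [← characteristic_iff_comap_eq.1 hD φ]
      rfl
    let ψ : D ≃* D :=
      { toFun := fun x => ⟨φ x, (hφD x).1 x.2⟩
        invFun := fun x => ⟨φ.symm x, (hφD _).2 (by simp)⟩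
        left_inv := fun x => Subtype.ext (φ.symm_apply_apply _)
        right_inv := fun x => Subtype.ext (φ.apply_symm_apply _)
        map_mul' := fun x y => Subtype.ext (map_mul φ _ _) }
    exact ⟨ψ d, characteristic_iff_le_comap.1 hH ψ hd, rfl⟩

theorem sq_comm_eq_one_of_class_two {P : Type u} [Group P] (h4 : ∀ x : P, x ^ 4 = 1)
    (hcl : commutator P ≤ center P) (x y : P) :
    x * y * x⁻¹ * y⁻¹ ∈ center P ∧
      (x * y * x⁻¹ * y⁻¹) * (x * y * x⁻¹ * y⁻¹) = 1 := by
  have hmem : ∀ a b : P, a * b * a⁻¹ * b⁻¹ ∈ center P := fun a b => hcl (by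
    rw [← commutatorElement_def]
    exact commutator_mem_commutator (mem_top a) (mem_top b))
  refine ⟨hmem x y, ?_⟩
  set c := x * y * x⁻¹ * y⁻¹ with hc
  have hcc : ∀ w : P, w * c = c * w := fun w => mem_center_iff.1 (hmem x y) w
  have hxy : x * y = c * (y * x) := by rw [hc]; group
  -- the fourth power of a product
  have h2 : (y * x) * (y * x) = c * (y * y * (x * x)) := by
    calc (y * x) * (y * x) = y * (x * y) * x := by group
      _ = y * c * (y * x) * x := by rw [hxy]; group
      _ = c * (y * y * (x * x)) := by rw [hcc y]; group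
  have h2x : ∀ w : P, (x * x) * y * (x * x)⁻¹ = c * c * y := fun _ => by
    calc (x * x) * y * (x * x)⁻¹ = x * (x * y * x⁻¹) * x⁻¹ := by group
      _ = x * (c * y) * x⁻¹ := by rw [hc]; group
      _ = c * (x * y * x⁻¹) := by rw [← mul_assoc x, hcc x]; group
      _ = c * c * y := by rw [hc]; group
  have hxxyy : (x * x) * (y * y) = (y * y) * (x * x) * (c * c * (c * c)) := by
    calc (x * x) * (y * y) = ((x * x) * y * (x * x)⁻¹) * ((x * x) * y * (x * x)⁻¹) * (x * x) := by group
      _ = c * c * y * (c * c * y) * (x * x) := by rw [h2x y]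
      _ = c * c * (y * (c * c)) * y * (x * x) := by group
      _ = c * c * ((c * c) * y) * y * (x * x) := by
          rw [show y * (c * c) = (c * c) * y by rw [← mul_assoc, hcc y, mul_assoc, hcc y, ← mul_assoc]]
      _ = (c * c * (c * c)) * ((y * y) * (x * x)) := by group
      _ = (y * y) * (x * x) * (c * c * (c * c)) :=
          (mem_center_iff.1 (mul_mem (mul_mem (hmem x y) (hmem x y))
            (mul_mem (hmem x y) (hmem x y))) _).symm
  have hc4 : c * c * (c * c) = 1 := by rw [← h4 c]; simp [pow_succ, mul_assoc]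
  rw [hc4, mul_one] at hxxyy
  have hy4 : y * y * (y * y) = 1 := by rw [← h4 y]; simp [pow_succ, mul_assoc]
  have hx4 : x * x * (x * x) = 1 := by rw [← h4 x]; simp [pow_succ, mul_assoc]
  have : (y * x) ^ 4 = c * c := by
    calc (y * x) ^ 4 = ((y * x) * (y * x)) * ((y * x) * (y * x)) := by simp [pow_succ, mul_assoc]
      _ = c * (y * y * (x * x)) * (c * (y * y * (x * x))) := by rw [h2]
      _ = c * ((y * y * (x * x)) * c) * (y * y * (x * x)) := by group
      _ = c * c * ((y * y) * ((x * x) * (y * y)) * (x * x)) := by rw [hcc]; group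
      _ = c * c * ((y * y * (y * y)) * ((x * x) * (x * x))) := by rw [hxxyy]; group
      _ = c * c := by rw [hy4, hx4, one_mul, mul_one]
  rw [h4] at this
  exact this.symm

set_option maxHeartbeats 1600000 in
/-- Main structural fact: commutators are central of order at most two. -/
theorem comm_central_aux (n : ℕ) : ∀ (P : Type u) [Group P] [Finite P], Nat.card P = n →
    IsPGroup 2 P → (∀ x : P, x ^ 4 = 1) →
    (∀ H : Subgroup P, H.Characteristic → IsMulCommutative H → IsCyclic H) →
    ∀ x y : P, x * y * x⁻¹ * y⁻¹ ∈ center P ∧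
      (x * y * x⁻¹ * y⁻¹) * (x * y * x⁻¹ * y⁻¹) = 1 := by
  haveI : Fact (Nat.Prime 2) := ⟨Nat.prime_two⟩
  induction n using Nat.strong_induction_on with
  | _ n ih =>
    intro P _ _ hn hP h4 hsym
    have hZ : IsCyclic (center P) := hsym _ inferInstance inferInstance
    by_cases hcl : commutator P ≤ center P
    · exact sq_comm_eq_one_of_class_two h4 hcl
    exfalso
    haveI : Group.IsNilpotent P := hP.isNilpotent
    -- an element of `P'` in the second centre but not the first
    obtain ⟨u, huc, huZ, hu2⟩ : ∃ u ∈ commutator P, u ∉ center P ∧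
        ∀ g : P, u * g * u⁻¹ * g⁻¹ ∈ center P := by
      classical
      have hex : ∃ i, ∃ u ∈ commutator P, u ∈ Subgroup.upperCentralSeries P i ∧ u ∉ center P := by
        obtain ⟨N, hN⟩ := (Group.IsNilpotent.nilpotent (G := P))
        obtain ⟨u, hu, huZ⟩ := SetLike.not_le_iff_exists.1 hcl
        exact ⟨N, u, hu, hN ▸ mem_top u, huZ⟩
      obtain ⟨u, hu, hui, huZ⟩ := Nat.find_spec hex
      refine ⟨u, hu, huZ, fun g => ?_⟩
      rcases hi : Nat.find hex with _ | i
      · rw [hi, Subgroup.upperCentralSeries_zero, mem_bot] at hui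
        exact absurd (hui ▸ one_mem _) huZ
      · rw [hi, Subgroup.mem_upperCentralSeries_succ_iff] at hui
        have hg := hui g
        rw [commutatorElement_def] at hg
        by_contra hnot
        refine Nat.find_min hex (m := i) (by omega) ⟨_, ?_, hg, hnot⟩
        rw [← commutatorElement_def]
        exact commutator_mem_commutator (mem_top u) (mem_top g)
    -- the group `A = P' ⊓ Z₂(P)` is cyclic
    set A := commutator P ⊓ Subgroup.upperCentralSeries P 2 with hA
    have hmemA : ∀ a : P, a ∈ A ↔ a ∈ commutator P ∧ ∀ g : P, a * g * a⁻¹ * g⁻¹ ∈ center P := by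
      intro a
      rw [hA, mem_inf, Subgroup.mem_upperCentralSeries_succ_iff, Subgroup.upperCentralSeries_one]
      simp only [commutatorElement_def]
    have huA : u ∈ A := (hmemA u).2 ⟨huc, hu2⟩
    have hcentA : ∀ a ∈ A, commutator P ≤ centralizer ({a} : Set P) := by
      intro a ha
      have hz := ((hmemA a).1 ha).2
      let χ : P →* center P := MonoidHom.mk' (fun g => ⟨a * g * a⁻¹ * g⁻¹, hz g⟩) fun g h =>
        Subtype.ext (by
          show a * (g * h) * a⁻¹ * (g * h)⁻¹ = (a * g * a⁻¹ * g⁻¹) * (a * h * a⁻¹ * h⁻¹)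
          calc a * (g * h) * a⁻¹ * (g * h)⁻¹
              = (a * g * a⁻¹ * g⁻¹) * (g * (a * h * a⁻¹ * h⁻¹) * g⁻¹) := by group
            _ = _ := by rw [mem_center_iff.1 (hz h) g, mul_inv_cancel_right])
      have hker : commutator P ≤ χ.ker := by
        rw [_root_.commutator_def, commutator_le]
        intro v _ w _
        rw [MonoidHom.mem_ker, map_commutatorElement, commutatorElement_eq_one_iff_mul_comm]
        exact Subtype.ext (mem_center_iff.1 (χ w).2 (χ v : P))
      intro w hw
      rw [mem_centralizer_singleton_iff]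
      have h1 : a * w * a⁻¹ * w⁻¹ = 1 := congrArg Subtype.val (MonoidHom.mem_ker.1 (hker hw))
      exact (mul_inv_eq_iff_eq_mul.1 (mul_inv_eq_one.1 h1)).symm
    haveI hAchar : A.Characteristic := char_inf inferInstance inferInstance
    have hAc : IsMulCommutative A := ⟨⟨fun a b => Subtype.ext
      (mem_centralizer_singleton_iff.1 (hcentA b b.2 a.2.1))⟩⟩
    have hAcyc : IsCyclic A := hsym A inferInstance hAc
    -- the central involution
    have hu1 : u ≠ 1 := fun h => huZ (h ▸ one_mem _)
    have huu : u * u ≠ 1 := by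
      intro h
      apply huZ
      rw [mem_center_iff]
      intro g
      have h1 : g * u * g⁻¹ ∈ A := (inferInstance : A.Normal).conj_mem u huA g
      have h2 : (g * u * g⁻¹) * (g * u * g⁻¹) = 1 := by
        calc (g * u * g⁻¹) * (g * u * g⁻¹) = g * (u * u) * g⁻¹ := by group
          _ = 1 := by rw [h, mul_one, mul_inv_cancel]
      have h3 := eq_of_sq_eq_one_subgroup hAcyc h1 huA h2 h (by simp [conj_eq_one_iff, hu1]) hu1
      exact mul_inv_eq_iff_eq_mul.1 h3
    set z := u * u with hz
    have hu4 : z * z = 1 := by rw [hz, ← h4 u]; simp [pow_succ, mul_assoc]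
    have hzA : z ∈ A := mul_mem huA huA
    have hzc : z ∈ center P := by
      rw [mem_center_iff]
      intro g
      have h1 : g * z * g⁻¹ ∈ A := (inferInstance : A.Normal).conj_mem z hzA g
      have h2 : (g * z * g⁻¹) * (g * z * g⁻¹) = 1 := by
        calc (g * z * g⁻¹) * (g * z * g⁻¹) = g * (z * z) * g⁻¹ := by group
          _ = 1 := by rw [hu4, mul_one, mul_inv_cancel]
      exact mul_inv_eq_iff_eq_mul.1
        (eq_of_sq_eq_one_subgroup hAcyc h1 hzA h2 hu4 (by simp [conj_eq_one_iff, huu]) huu)
    -- conjugates of `u`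
    have hconju : ∀ g : P, g * u * g⁻¹ = u ∨ g * u * g⁻¹ = u⁻¹ := by
      intro g
      set c := u * g * u⁻¹ * g⁻¹ with hc
      have hcZ := hu2 g
      have hcA : c ∈ A := by
        have := mul_mem huA ((inferInstance : A.Normal).conj_mem u⁻¹ (inv_mem huA) g)
        simpa [hc, mul_assoc] using this
      have hconj : g * u * g⁻¹ = c⁻¹ * u := by rw [hc]; group
      have hcu : u * c⁻¹ = c⁻¹ * u := mem_center_iff.1 (inv_mem hcZ) u
      have hc2 : c * c = 1 := by
        have h1 : g * z * g⁻¹ = z := by rw [mem_center_iff.1 hzc g, mul_inv_cancel_right]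
        have h2 : g * z * g⁻¹ = (c⁻¹ * c⁻¹) * z := by
          calc g * z * g⁻¹ = (g * u * g⁻¹) * (g * u * g⁻¹) := by rw [hz]; group
            _ = c⁻¹ * (u * c⁻¹) * u := by rw [hconj]; group
            _ = (c⁻¹ * c⁻¹) * z := by rw [hcu, hz]; group
        rw [h1] at h2
        calc c * c = (c⁻¹ * c⁻¹)⁻¹ := by simp
          _ = 1 := by rw [← mul_eq_right.1 h2.symm |>.symm, inv_one]
      by_cases hc1 : c = 1
      · left; rw [hconj, hc1, inv_one, one_mul]
      · right
        have hcz := eq_of_sq_eq_one_subgroup hAcyc hcA hzA hc2 hu4 hc1 huu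
        rw [hconj, hcz, hz]; group
    -- the centralizer of `u`
    set D := centralizer (A : Set P) with hD
    have hmemD : ∀ g : P, g ∈ D ↔ g * u * g⁻¹ = u := by
      intro g
      refine ⟨fun h => ?_, fun h => ?_⟩
      · rw [← (mem_centralizer_iff.1 h u huA), mul_inv_cancel_right]
      · rw [mem_centralizer_iff]
        intro a ha
        obtain ⟨⟨a₀, ha₀⟩, hgen⟩ := IsCyclic.exists_generator (α := A)
        obtain ⟨k, hk⟩ := mem_zpowers_iff.1 (hgen ⟨a, ha⟩)
        have hk' : a₀ ^ k = a := by simpa using congrArg Subtype.val hk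
        -- `u` generates `A`
        obtain ⟨l, hl⟩ := mem_zpowers_iff.1 (hgen ⟨u, huA⟩)
        have hl' : a₀ ^ l = u := by simpa using congrArg Subtype.val hl
        have ha₀4 : a₀ ^ (4 : ℤ) = 1 := by rw [show (4 : ℤ) = ((4 : ℕ) : ℤ) from rfl, zpow_natCast, h4]
        have hlodd : ¬ Even l := by
          rintro ⟨j, rfl⟩
          apply huu
          rw [hz, ← hl', ← zpow_add, show j + j + (j + j) = 4 * j by ring, zpow_mul, ha₀4, one_zpow]
        obtain ⟨j, hj⟩ := Int.not_even_iff_odd.1 hlodd
        have hu' : a₀ = u ^ l := by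
          rw [← hl', ← zpow_mul, hj, show (2 * j + 1) * (2 * j + 1) = 4 * (j * j + j) + 1 by ring,
            zpow_add, zpow_mul, ha₀4, one_zpow, one_mul, zpow_one]
        have hga : Commute g a := by
          rw [← hk', hu']
          exact ((show Commute g u from mul_inv_eq_iff_eq_mul.1 h).zpow_right l).zpow_right k
        exact hga.symm.eq
    haveI hDchar : D.Characteristic := char_centralizer hAchar
    have hcomD : commutator P ≤ D := fun w hw => by
      rw [hD, mem_centralizer_iff]
      exact fun a ha => (mem_centralizer_singleton_iff.1 (hcentA a ha hw)).symm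
    obtain ⟨s, hs⟩ : ∃ s, s * u * s⁻¹ = u⁻¹ := by
      by_contra hno
      push Not at hno
      exact huZ (mem_center_iff.2 fun g =>
        mul_inv_eq_iff_eq_mul.1 ((hconju g).resolve_right (hno g)))
    have hsD : s ∉ D := fun h => huu (by
      rw [(hmemD s).1 h] at hs
      rw [hz]
      exact eq_inv_iff_mul_eq_one.1 hs)
    have hout : ∀ g : P, g ∈ D ∨ s⁻¹ * g ∈ D := by
      intro g
      rcases hconju g with h | h
      · exact Or.inl ((hmemD g).2 h)
      · refine Or.inr ((hmemD _).2 ?_)
        calc s⁻¹ * g * u * (s⁻¹ * g)⁻¹ = s⁻¹ * (g * u * g⁻¹) * s := by group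
          _ = u := by rw [h, ← hs]; group
    -- induction
    have hDlt : Nat.card D < n := by
      rw [← hn]
      refine lt_of_le_of_ne (card_le_card_group D) fun h => hsD ?_
      rw [eq_top_of_card_eq D h]
      exact mem_top s
    have hDsym : ∀ H : Subgroup D, H.Characteristic → IsMulCommutative H → IsCyclic H := by
      intro H hH hHc
      haveI := hH
      haveI := hHc
      haveI : IsMulCommutative (H.map D.subtype) := inferInstance
      have := hsym (H.map D.subtype) (char_map_subtype D hDchar hH) inferInstance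
      exact isCyclic_of_surjective (H.equivMapOfInjective D.subtype D.subtype_injective).symm.toMonoidHom
        (MulEquiv.surjective _)
    have hDih := ih _ hDlt D rfl (hP.to_subgroup D) (fun x => Subtype.ext (h4 x)) hDsym
    have hDc : IsCyclic (center D) := hDsym _ inferInstance inferInstance
    have huD : u ∈ D := (hmemD u).2 (by group)
    have hzD : z ∈ D := mul_mem huD huD
    -- elements of `D` that are central of order two
    have hDz : ∀ w : P, ∀ hw : w ∈ D, (⟨w, hw⟩ : D) ∈ center D → w * w = 1 → w = 1 ∨ w = z := by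
      intro w hw hwc hw2
      by_cases h1 : w = 1
      · exact Or.inl h1
      refine Or.inr (congrArg Subtype.val (eq_of_sq_eq_one_subgroup hDc hwc
        (show (⟨z, hzD⟩ : D) ∈ center D from mem_center_iff.2 fun v =>
          Subtype.ext (mem_center_iff.1 hzc v))
        (Subtype.ext hw2) (Subtype.ext hu4) (fun h => h1 (congrArg Subtype.val h))
        (fun h => huu (congrArg Subtype.val h))))
    have hDcomm : ∀ x ∈ D, ∀ y ∈ D, x * y * x⁻¹ * y⁻¹ = 1 ∨ x * y * x⁻¹ * y⁻¹ = z := by
      intro x hx y hy
      obtain ⟨hc, hc2⟩ := hDih ⟨x, hx⟩ ⟨y, hy⟩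
      exact hDz _ (mul_mem (mul_mem (mul_mem hx hy) (inv_mem hx)) (inv_mem hy)) hc
        (congrArg Subtype.val hc2)
    have hdz : ∀ v : P, (v = 1 ∨ v = z) → v ∈ center P := by
      rintro v (rfl | rfl)
      · exact one_mem _
      · exact hzc
    -- small elements of `P'` are `1` or `z`
    have hsmall : ∀ w ∈ commutator P, w * w = 1 → s * w * s⁻¹ * w⁻¹ ∈ center P → w = 1 ∨ w = z := by
      intro w hw hw2 hsw
      have hwA : w ∈ A := by
        refine (hmemA w).2 ⟨hw, fun g => ?_⟩
        rcases hout g with hg | hg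
        · exact hdz _ (hDcomm w (hcomD hw) g hg)
        · have h1 := hdz _ (hDcomm w (hcomD hw) _ hg)
          have e : w * g * w⁻¹ * g⁻¹
              = (w * s * w⁻¹ * s⁻¹) * (s * (w * (s⁻¹ * g) * w⁻¹ * (s⁻¹ * g)⁻¹) * s⁻¹) := by group
          rw [e]
          refine mul_mem ?_ ((inferInstance : (center P).Normal).conj_mem _ h1 s)
          have := inv_mem hsw
          simpa [mul_assoc] using this
      by_cases h1 : w = 1
      · exact Or.inl h1
      · exact Or.inr (eq_of_sq_eq_one_subgroup hAcyc hwA hzA hw2 hu4 h1 huu)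
    -- some commutator with `s` is outside `⟨z⟩`
    obtain ⟨d, hd, hδne⟩ : ∃ d ∈ D, ¬ d * s * d⁻¹ * s⁻¹ ∈ center P := by
      by_contra hno
      push Not at hno
      apply hcl
      let f := QuotientGroup.mk' (center P)
      have hker : ∀ v : P, v ∈ center P → f v = 1 := fun v hv => (QuotientGroup.eq_one_iff v).2 hv
      have hc1 : ∀ a ∈ D, Commute (f a) (f s) := fun a ha => by
        have := hker _ (hno a ha)
        simp only [map_mul, map_inv] at this
        exact mul_inv_eq_iff_eq_mul.1 (mul_inv_eq_one.1 this)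
      have hc2 : ∀ a ∈ D, ∀ b ∈ D, Commute (f a) (f b) := fun a ha b hb => by
        have := hker _ (hdz _ (hDcomm a ha b hb))
        simp only [map_mul, map_inv] at this
        exact mul_inv_eq_iff_eq_mul.1 (mul_inv_eq_one.1 this)
      have hall : ∀ a b : P, Commute (f a) (f b) := by
        have hstep : ∀ a ∈ D, ∀ b : P, Commute (f a) (f b) := fun a ha b => by
          rcases hout b with hb | hb
          · exact hc2 a ha b hb
          · have := (hc1 a ha).mul_right (hc2 a ha _ hb)
            rwa [← map_mul, mul_inv_cancel_left] at this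
        intro a b
        rcases hout a with ha | ha
        · exact hstep a ha b
        · have h1 : Commute (f (s⁻¹ * a)) (f b) := hstep _ ha b
          have h2 : Commute (f s) (f b) := by
            rcases hout b with hb | hb
            · exact (hc1 b hb).symm
            · have := (Commute.refl (f s)).mul_right (hc1 _ hb).symm
              rwa [← map_mul, mul_inv_cancel_left] at this
          have := h2.mul_left h1
          rwa [← map_mul, mul_inv_cancel_left] at this
      rw [_root_.commutator_def, commutator_le]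
      intro a _ b _
      rw [← QuotientGroup.eq_one_iff, commutatorElement_def]
      change f (a * b * a⁻¹ * b⁻¹) = 1
      rw [map_mul, map_mul, map_mul, map_inv, map_inv, (hall a b).eq]
      group
    obtain ⟨δ, hδ⟩ : ∃ δ, δ = d * s * d⁻¹ * s⁻¹ := ⟨_, rfl⟩
    rw [← hδ] at hδne
    have hδc : δ ∈ commutator P := by
      rw [hδ, ← commutatorElement_def]
      exact commutator_mem_commutator (mem_top d) (mem_top s)
    have hδD := hcomD hδc
    have hss : s * s ∈ D := by
      rw [hmemD]
      calc s * s * u * (s * s)⁻¹ = s * (s * u * s⁻¹) * s⁻¹ := by group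
        _ = s * u⁻¹ * s⁻¹ := by rw [hs]
        _ = (s * u * s⁻¹)⁻¹ := by group
        _ = u := by rw [hs, inv_inv]
    -- `s` inverts `δ` modulo the centre
    obtain ⟨ζ, hζ, hsδ⟩ : ∃ ζ : P, (ζ = 1 ∨ ζ = z) ∧ s * δ * s⁻¹ = δ⁻¹ * ζ := by
      refine ⟨δ * (s * δ * s⁻¹), ?_, by group⟩
      have h := hDcomm d hd (s * s) hss
      have e : δ * (s * δ * s⁻¹) = d * (s * s) * d⁻¹ * (s * s)⁻¹ := by rw [hδ]; group
      rwa [e]
    have hδδ : δ * δ = z := by
      have hc : (⟨δ * δ, mul_mem hδD hδD⟩ : D) ∈ center D := by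
        rw [mem_center_iff]
        intro v
        apply Subtype.ext
        show (v : P) * (δ * δ) = δ * δ * v
        rcases hDcomm δ hδD v v.2 with e | e
        · have : δ * v = v * δ := by
            rw [← mul_inv_eq_iff_eq_mul, ← mul_inv_eq_one]; exact e
          rw [← mul_assoc, ← this, mul_assoc, ← this, mul_assoc]
        · have h1 : δ * v * δ⁻¹ = z * v := mul_inv_eq_iff_eq_mul.1 e
          calc (v : P) * (δ * δ) = z * (z * v) * (δ * δ) := by rw [← mul_assoc z, hu4, one_mul]
            _ = z * (δ * v * δ⁻¹) * (δ * δ) := by rw [h1]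
            _ = (z * δ) * v * δ := by group
            _ = (δ * z) * v * δ := by rw [mem_center_iff.1 hzc δ]
            _ = δ * (δ * v * δ⁻¹) * δ := by rw [mul_assoc δ z, h1]
            _ = δ * δ * v := by group
      have hδ4 : δ * δ * (δ * δ) = 1 := by rw [← h4 δ]; simp [pow_succ, mul_assoc]
      rcases hDz _ _ hc hδ4 with h | h
      · exfalso
        apply hδne
        apply hdz
        refine hsmall δ hδc h ?_
        rw [hsδ, mul_assoc, ← mem_center_iff.1 (hdz ζ hζ) δ⁻¹, ← mul_assoc, ← mul_inv_rev, h, inv_one, one_mul]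
        exact hdz ζ hζ
      · exact h
    have hδu : u * δ = δ * u := by
      exact (mul_inv_eq_iff_eq_mul.1 ((hmemD δ).1 hδD)).symm
    -- `δ` is `u` up to a central factor
    have hδA : ∀ v ∈ D, δ * v = v * δ := by
      have hw : (δ * u) * (δ * u) = 1 := by
        calc (δ * u) * (δ * u) = δ * (u * δ) * u := by group
          _ = (δ * δ) * (u * u) := by rw [hδu]; group
          _ = 1 := by rw [hδδ, ← hz, hu4]
      have hscomm : s * (δ * u) * s⁻¹ * (δ * u)⁻¹ ∈ center P := by
        have e : s * (δ * u) * s⁻¹ = (δ * u)⁻¹ * ζ := by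
          calc s * (δ * u) * s⁻¹ = (s * δ * s⁻¹) * (s * u * s⁻¹) := by group
            _ = δ⁻¹ * (ζ * u⁻¹) := by rw [hsδ, hs, mul_assoc]
            _ = δ⁻¹ * u⁻¹ * ζ := by rw [← mem_center_iff.1 (hdz ζ hζ) u⁻¹, ← mul_assoc]
            _ = (δ * u)⁻¹ * ζ := by rw [← mul_inv_rev, hδu]
        rw [e, mul_assoc, ← mem_center_iff.1 (hdz ζ hζ), ← mul_assoc, ← mul_inv_rev, hw, inv_one,
          one_mul]
        exact hdz ζ hζ
      have hin := hsmall (δ * u) (mul_mem hδc huc) hw hscomm
      intro v hv
      have huv : u * v = v * u := (mul_inv_eq_iff_eq_mul.1 ((hmemD v).1 hv)).symm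
      have h1 : (δ * u) * v = v * (δ * u) := (mem_center_iff.1 (hdz _ hin) v).symm
      apply mul_right_cancel (b := u)
      calc δ * v * u = δ * u * v := by rw [mul_assoc, ← huv, mul_assoc]
        _ = v * δ * u := by rw [h1, mul_assoc]
    -- the element `d * s` has order at least eight
    have hdd : (⟨d * d, mul_mem hd hd⟩ : D) ∈ center D := by
      rw [mem_center_iff]
      intro v
      apply Subtype.ext
      show (v : P) * (d * d) = d * d * v
      rcases hDcomm d hd v v.2 with e | e
      · have : d * v = v * d := mul_inv_eq_iff_eq_mul.1 (mul_inv_eq_one.1 e)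
        rw [← mul_assoc, ← this, mul_assoc, ← this, mul_assoc]
      · have h1 : d * v * d⁻¹ = z * v := mul_inv_eq_iff_eq_mul.1 e
        calc (v : P) * (d * d) = z * (z * v) * (d * d) := by rw [← mul_assoc z, hu4, one_mul]
          _ = z * (d * v * d⁻¹) * (d * d) := by rw [h1]
          _ = (z * d) * v * d := by group
          _ = (d * z) * v * d := by rw [mem_center_iff.1 hzc d]
          _ = d * (d * v * d⁻¹) * d := by rw [mul_assoc d z, h1]
          _ = d * d * v := by group
    have hddc : d * d ∈ center P := hdz _ (hDz _ _ hdd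
      (by rw [← h4 d]; simp [pow_succ, mul_assoc]))
    have hsq : (d * s) * (d * s) = (d * d) * (δ⁻¹ * (s * s)) := by
      calc (d * s) * (d * s) = d * (δ⁻¹ * d) * (s * s) := by rw [hδ]; group
        _ = d * (d * δ⁻¹) * (s * s) := by
            rw [show δ⁻¹ * d = d * δ⁻¹ from ((show Commute δ d from hδA d hd).inv_left).eq]
        _ = (d * d) * (δ⁻¹ * (s * s)) := by group
    apply huu
    rw [hz]
    have h8 : (d * s) ^ 4 = z := by
      calc (d * s) ^ 4 = ((d * s) * (d * s)) * ((d * s) * (d * s)) := by simp [pow_succ, mul_assoc]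
        _ = (d * d) * ((δ⁻¹ * (s * s)) * (d * d)) * (δ⁻¹ * (s * s)) := by rw [hsq]; group
        _ = (d * d) * ((d * d) * (δ⁻¹ * (s * s))) * (δ⁻¹ * (s * s)) := by
            rw [mem_center_iff.1 hddc]
        _ = (d * d * (d * d)) * (δ⁻¹ * ((s * s) * δ⁻¹) * (s * s)) := by group
        _ = (d * d * (d * d)) * (δ⁻¹ * (δ⁻¹ * (s * s)) * (s * s)) := by
            rw [((show Commute δ (s * s) from hδA _ hss).inv_left).eq.symm]
        _ = (d * d * (d * d)) * ((δ * δ)⁻¹ * (s * s * (s * s))) := by group
        _ = z := by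
            rw [hδδ, show d * d * (d * d) = 1 by rw [← h4 d]; simp [pow_succ, mul_assoc],
              show s * s * (s * s) = 1 by rw [← h4 s]; simp [pow_succ, mul_assoc], one_mul, mul_one]
            exact inv_eq_of_mul_eq_one_right hu4
    rw [h4] at h8
    rw [← hz]
    exact h8.symm

theorem comm_central {P : Type u} [Group P] [Finite P] (hP : Cfsg.IsOfSymplecticType P)
    (h4 : ∀ x : P, x ^ 4 = 1) (x y : P) :
    x * y * x⁻¹ * y⁻¹ ∈ center P ∧
      (x * y * x⁻¹ * y⁻¹) * (x * y * x⁻¹ * y⁻¹) = 1 :=
  comm_central_aux _ P rfl hP.1 h4 hP.2 x y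

end CfsgLib.Symp
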