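import Cfsg.Agent.KGroup.CharTwo
import Cfsg.Prelude.Def_QuasithinSetup

/-!
The faithful members of `ℒ(G, T)` in a group of even characteristic are upward closed.
-/

set_option autoImplicit false
set_option linter.style.haveILetI false
set_option linter.unusedSectionVars false

namespace CfsgLib.CharP

open Subgroup

variable {G : Type*} [Group G] [Finite G]

/-- `Ω₁(Z(O_2(Y)))`. -/
def omegaZ (Y : Subgroup G) : Subgroup G :=
  Cfsg.omegaOne 2 (opIn 2 Y ⊓ centralizer (opIn 2 Y : Set G))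

theorem mem_omegaZ {Y : Subgroup G} {z : G} :
    z ∈ omegaZ Y ↔ z ∈ opIn 2 Y ∧ z ∈ centralizer (opIn 2 Y : Set G) ∧ z ^ 2 = 1 := by
  constructor
  · intro hz
    induction hz using closure_induction with
    | mem x hx => exact ⟨hx.1.1, hx.1.2, hx.2⟩
    | one => exact ⟨one_mem _, one_mem _, one_pow _⟩
    | mul x y _ _ hx hy =>
      refine ⟨mul_mem hx.1 hy.1, mul_mem hx.2.1 hy.2.1, ?_⟩
      have : Commute x y := mem_centralizer_iff.1 hy.2.1 x hx.1
      rw [this.mul_pow, hx.2.2, hy.2.2, one_mul]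
    | inv x _ hx => exact ⟨inv_mem hx.1, inv_mem hx.2.1, by rw [inv_pow, hx.2.2, inv_one]⟩
  · rintro ⟨h1, h2, h3⟩
    exact subset_closure ⟨mem_inf.2 ⟨h1, h2⟩, h3⟩

theorem conj_mem_omegaZ {Y : Subgroup G} {g z : G}
    (hg : g ∈ normalizer (opIn 2 Y : Set G)) (hz : z ∈ omegaZ Y) :
    g * z * g⁻¹ ∈ omegaZ Y := by
  rw [mem_omegaZ] at hz ⊢
  refine ⟨(mem_normalizer_iff.1 hg z).1 hz.1, ?_, by rw [conj_pow, hz.2.2, mul_one, mul_inv_cancel]⟩
  exact (mem_normalizer_iff.1 (normalizer_le_normalizer_centralizer' _ hg) z).1 hz.2.1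

/-- A `p`-group normalizing a nontrivial `p`-subgroup centralizes a nontrivial element of it. -/
theorem exists_fixed_ne_one {p : ℕ} [Fact p.Prime] {Q I : Subgroup G} (hQ : IsPGroup p Q)
    (hI : IsPGroup p I) (hne : I ≠ ⊥) (hnorm : ∀ q ∈ Q, ∀ i ∈ I, q * i * q⁻¹ ∈ I) :
    ∃ i ∈ I, i ≠ 1 ∧ i ∈ centralizer (Q : Set G) := by
  letI act : MulAction Q I :=
    { smul := fun q i => ⟨q * i * (q : G)⁻¹, hnorm q q.2 i i.2⟩
      one_smul := fun i => Subtype.ext (show (1 : G) * i * (1 : G)⁻¹ = i by group)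
      mul_smul := fun a b i => Subtype.ext
        (show (a * b : G) * i * (a * b : G)⁻¹ = a * (b * i * (b : G)⁻¹) * (a : G)⁻¹ by group) }
  haveI := (nontrivial_iff_ne_bot I).2 hne
  obtain ⟨k, hk, hcard⟩ := hI.nontrivial_iff_card.1 inferInstance
  obtain ⟨i, hi, hi1⟩ := hQ.exists_fixed_point_of_prime_dvd_card_of_fixed_point I
    (hcard ▸ dvd_pow_self p hk.ne') (a := (1 : I))
    (fun q => Subtype.ext (show (q : G) * 1 * (q : G)⁻¹ = 1 by group))
  refine ⟨i, i.2, fun h => hi1 (Subtype.ext h.symm), mem_centralizer_iff.2 fun q hq => ?_⟩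
  have h : q * (i : G) * q⁻¹ = i := congrArg Subtype.val (hi ⟨q, hq⟩)
  calc q * (i : G) = q * (i : G) * q⁻¹ * q := by group
    _ = i * q := by rw [h]

variable [Fact (Nat.Prime 2)]

omit [Finite G] [Fact (Nat.Prime 2)] in
theorem coprime_two_of_odd {x : G} (h : Odd (orderOf x)) : (orderOf x).Coprime 2 :=
  Nat.coprime_two_right.2 h

theorem le_centralizer_of_oddGenerated {K A : Subgroup G} (hK : Cfsg.oddGenerated K = K)
    (h : ∀ y ∈ K, Odd (orderOf y) → ∀ a ∈ A, y * a = a * y) :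
    A ≤ centralizer (K : Set G) := by
  rw [← hK, Cfsg.oddGenerated, centralizer_closure]
  intro a ha
  rw [mem_centralizer_iff]
  exact fun y hy => h y hy.1 hy.2 a ha

/-- A subnormal subgroup generated by its elements of odd order is normalized by every
`2`-subgroup lying in `O_2`. -/
theorem le_normalizer_of_oddGenerated {L Y : Subgroup G} (hLY : L ≤ Y)
    (hL : (L.subgroupOf Y).IsSubnormal) (hodd : Cfsg.oddGenerated L = L) :
    opIn 2 Y ≤ normalizer (L : Set G) := by
  set Q := opIn 2 Y with hQ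
  have hLN : L ≤ normalizer (Q : Set G) := hLY.trans (le_normalizer_opIn Y)
  set M := L ⊔ Q with hMdef
  have hMY : M ≤ Y := sup_le hLY (opIn_le Y)
  have hsub : (L.subgroupOf M).IsSubnormal := by
    have h1 := hL.subgroupOf (K := M.subgroupOf Y)
    have h2 := h1.map (f := (subgroupOfEquivOfLe hMY).toMonoidHom)
      (subgroupOfEquivOfLe hMY).surjective
    refine (?_ : _ = L.subgroupOf M) ▸ h2
    ext x
    simp only [mem_map, mem_subgroupOf]
    constructor
    · rintro ⟨a, ha, rfl⟩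
      exact ha
    · intro hx
      exact ⟨⟨⟨x, hMY x.2⟩, mem_subgroupOf.2 x.2⟩, hx, rfl⟩
  -- every element of odd order of `M` lies in `L`
  have key : ∀ (H : Subgroup M), H.IsSubnormal → L.subgroupOf M ≤ H →
      ∀ x : M, Odd (orderOf x) → x ∈ H := by
    intro H hH
    induction hH with
    | top => exact fun _ x _ => mem_top x
    | step H K hHK hK hn ih =>
      intro hle x hx
      have hxK : x ∈ K := ih (hle.trans hHK) x hx
      haveI := hn
      let w : K ⧸ H.subgroupOf K := QuotientGroup.mk ⟨x, hxK⟩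
      have hpow : IsPGroup 2 (K ⧸ H.subgroupOf K) := by
        obtain ⟨a, ha⟩ := IsPGroup.iff_card.1 (isPGroup_opIn (p := 2) Y)
        refine IsPGroup.iff_card.2 ?_
        have hcard : Nat.card M ∣ Nat.card L * Nat.card Q :=
          CfsgLib.Solvable.card_sup_dvd hLN
        have h3 : (H.subgroupOf K).index ∣ 2 ^ a := by
          have h5 : H.relIndex K ∣ (L.subgroupOf M).index :=
            (relIndex_dvd_index_of_le hHK).trans (index_dvd_of_le hle)
          refine h5.trans ?_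
          refine Nat.dvd_of_mul_dvd_mul_left (Nat.card_pos (α := L)) ?_
          rw [← ha]
          refine dvd_trans (dvd_of_eq ?_) hcard
          conv_rhs => rw [← Subgroup.card_mul_index (L.subgroupOf M)]
          rw [Nat.card_congr (subgroupOfEquivOfLe (show L ≤ M from le_sup_left)).toEquiv]
        obtain ⟨b, -, hb⟩ := (Nat.dvd_prime_pow Nat.prime_two).1 h3
        exact ⟨b, by rw [← index_eq_card, hb]⟩
      obtain ⟨k, hk⟩ := hpow w
      have hw1 : w = 1 := by
        refine eq_one_of_pow_eq_one_of_coprime (m := orderOf x) ?_ hk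
          ((Nat.coprime_two_right.2 hx).pow_right k)
        change (QuotientGroup.mk' (H.subgroupOf K)) (⟨x, hxK⟩ : K) ^ orderOf x = 1
        rw [← map_pow]
        convert map_one (QuotientGroup.mk' (H.subgroupOf K))
        exact Subtype.ext (by simp [pow_orderOf_eq_one])
      exact mem_subgroupOf.1 ((QuotientGroup.eq_one_iff _).1 hw1)
  intro q hq
  have hqM : q ∈ M := mem_sup_right hq
  have hconj : ∀ g ∈ M, ∀ l ∈ L, g * l * g⁻¹ ∈ L := by
    intro g hg l hl
    rw [← hodd] at hl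
    induction hl using closure_induction with
    | mem x hx =>
      have hxM : x ∈ M := mem_sup_left hx.1
      refine mem_subgroupOf.1 (key _ hsub le_rfl ⟨g * x * g⁻¹, mul_mem (mul_mem hg hxM) (inv_mem hg)⟩ ?_)
      rw [← orderOf_coe]
      change Odd (orderOf (g * x * g⁻¹))
      rw [← MulAut.conj_apply, MulEquiv.orderOf_eq]
      exact hx.2
    | one => simp
    | mul a b _ _ ha hb => rw [← conj_mul]; exact mul_mem ha hb
    | inv a _ ha => rw [← conj_inv]; exact inv_mem ha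
  rw [mem_normalizer_iff]
  refine fun l => ⟨hconj q hqM l, fun hl => ?_⟩
  simpa [mul_assoc] using hconj q⁻¹ (inv_mem hqM) _ hl

theorem opIn_le_opIn_of_isSubnormal {L Y : Subgroup G} (hLY : L ≤ Y)
    (hL : (L.subgroupOf Y).IsSubnormal) : opIn 2 L ≤ opIn 2 Y := by
  have key : ∀ (H : Subgroup Y), H.IsSubnormal →
      (Cfsg.pCore 2 H).map H.subtype ≤ Cfsg.pCore 2 Y := by
    intro H hH
    induction hH with
    | top =>
      exact Solvable.le_pCore 2 ((Cfsg.pCore_normal 2 _).map _ (fun y => ⟨⟨y, mem_top y⟩, rfl⟩))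
        ((Solvable.isPGroup_pCore 2).map _)
    | step H K hHK hK hn ih =>
      refine le_trans ?_ ih
      exact opIn_mono hHK ((normal_subgroupOf_iff_le_normalizer hHK).1 hn)
  intro x hx
  obtain ⟨a, ha, rfl⟩ := hx
  refine ⟨⟨a, hLY a.2⟩, key _ hL ?_, rfl⟩
  refine ⟨⟨⟨a, hLY a.2⟩, mem_subgroupOf.2 a.2⟩, ?_, rfl⟩
  exact pCore_map_le (subgroupOfEquivOfLe hLY).symm (mem_map_of_mem _ ha)

/-- Going down: if `K` acts trivially on `Ω₁Z(O₂(K))` it does so on `Ω₁Z(O₂(Y))`. -/
theorem omegaZ_le_centralizer_of_subnormal {K Y : Subgroup G} (hKY : K ≤ Y)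
    (hK : (K.subgroupOf Y).IsSubnormal) (hodd : Cfsg.oddGenerated K = K)
    (h : omegaZ K ≤ centralizer (K : Set G)) : omegaZ Y ≤ centralizer (K : Set G) := by
  have hQK : opIn 2 Y ≤ normalizer (K : Set G) := le_normalizer_of_oddGenerated hKY hK hodd
  refine le_centralizer_of_oddGenerated hodd fun y hy hyodd z hz => ?_
  have hz' := mem_omegaZ.1 hz
  have hyN : y ∈ normalizer (opIn 2 Y : Set G) := le_normalizer_opIn Y (hKY hy)
  set δ := z⁻¹ * (y * z * y⁻¹) with hδ
  have hδY : δ ∈ omegaZ Y := mul_mem (inv_mem hz) (conj_mem_omegaZ hyN hz)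
  have hδK : δ ∈ K := by
    have h1 : z⁻¹ * y * z ∈ K := by
      simpa using (mem_normalizer_iff.1 (hQK (inv_mem hz'.1)) y).1 hy
    have := mul_mem h1 (inv_mem hy)
    simpa [hδ, mul_assoc] using this
  have hδ' := mem_omegaZ.1 hδY
  have hδop : δ ∈ opIn 2 K := by
    refine le_opIn (N := opIn 2 Y ⊓ K) inf_le_right ((isPGroup_opIn Y).to_le inf_le_left) ?_
      (mem_inf.2 ⟨hδ'.1, hδK⟩)
    exact (le_inf (hKY.trans (le_normalizer_opIn Y)) le_normalizer).trans
      inf_normalizer_le_normalizer_inf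
  have hδZ : δ ∈ omegaZ K := mem_omegaZ.2
    ⟨hδop, centralizer_le (opIn_le_opIn_of_isSubnormal hKY hK) hδ'.2.1, hδ'.2.2⟩
  have hfix : y * δ * y⁻¹ = δ := by
    rw [mem_centralizer_iff.1 (h hδZ) y hy, mul_inv_cancel_right]
  have h1 : δ = 1 := eq_one_of_commutator_fixed (r := z) (isPGroup_opIn Y) hδ'.1
    (coprime_two_of_odd hyodd) (by rw [hδ, mul_inv_cancel_left]) hfix
  rw [hδ, inv_mul_eq_one] at h1
  calc y * z = y * z * y⁻¹ * y := by group
    _ = z * y := by rw [← h1]

/-- Going up: if `L` acts trivially on `Ω₁Z(O₂(X))` it does so on `Ω₁Z(O₂(L))`. -/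
theorem omegaZ_le_centralizer_of_overgroup {L X : Subgroup G} (hLX : L ≤ X)
    (hL : (L.subgroupOf X).IsSubnormal) (hodd : Cfsg.oddGenerated L = L)
    (h : omegaZ X ≤ centralizer (L : Set G)) : omegaZ L ≤ centralizer (L : Set G) := by
  set Q := opIn 2 X with hQ
  have hQL : Q ≤ normalizer (L : Set G) := le_normalizer_of_oddGenerated hLX hL hodd
  have hopL : opIn 2 L ≤ Q := opIn_le_opIn_of_isSubnormal hLX hL
  refine le_centralizer_of_oddGenerated hodd fun y hy hyodd => ?_
  have hyN : y ∈ normalizer (opIn 2 L : Set G) := le_normalizer_opIn L hy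
  set f : G → G := fun z => z⁻¹ * (y * z * y⁻¹) with hf
  have hfmem : ∀ z ∈ omegaZ L, f z ∈ omegaZ L := fun z hz =>
    mul_mem (inv_mem hz) (conj_mem_omegaZ hyN hz)
  have hcomm : ∀ z ∈ omegaZ L, ∀ w ∈ omegaZ L, z * w = w * z := fun z hz w hw =>
    mem_centralizer_iff.1 (mem_omegaZ.1 hw).2.1 z (mem_omegaZ.1 hz).1
  have hfmul : ∀ z ∈ omegaZ L, ∀ w ∈ omegaZ L, f (z * w) = f z * f w := by
    intro z hz w hw
    calc f (z * w) = w⁻¹ * f z * (y * w * y⁻¹) := by simp only [hf]; group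
      _ = f z * w⁻¹ * (y * w * y⁻¹) := by rw [hcomm _ (inv_mem hw) _ (hfmem z hz)]
      _ = f z * f w := by simp only [hf]; group
  let I : Subgroup G :=
    { carrier := f '' (omegaZ L : Set G)
      one_mem' := ⟨1, one_mem _, by simp [hf]⟩
      mul_mem' := by
        rintro _ _ ⟨z, hz, rfl⟩ ⟨w, hw, rfl⟩
        exact ⟨z * w, mul_mem hz hw, hfmul z hz w hw⟩
      inv_mem' := by
        rintro _ ⟨z, hz, rfl⟩
        refine ⟨z⁻¹, inv_mem hz, eq_inv_of_mul_eq_one_left ?_⟩
        rw [← hfmul _ (inv_mem hz) _ hz, inv_mul_cancel]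
        simp [hf] }
  have hIQ : I ≤ Q := by
    rintro _ ⟨z, hz, rfl⟩
    exact hopL (mem_omegaZ.1 (hfmem z hz)).1
  have hQn : ∀ q ∈ Q, ∀ i ∈ I, q * i * q⁻¹ ∈ I := by
    rintro q hq _ ⟨z, hz, rfl⟩
    have hqz : q * z * q⁻¹ ∈ omegaZ L :=
      conj_mem_omegaZ (le_normalizer_opIn_of_le_normalizer hQL hq) hz
    refine ⟨q * z * q⁻¹, hqz, ?_⟩
    -- `y` and `q` differ by an element of `O₂(L)`, which acts trivially
    have he : y * q * y⁻¹ * q⁻¹ ∈ opIn 2 L := by
      refine le_opIn (N := Q ⊓ L) inf_le_right ((isPGroup_opIn X).to_le inf_le_left)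
        ((le_inf (hLX.trans (le_normalizer_opIn X)) le_normalizer).trans
          inf_normalizer_le_normalizer_inf) (mem_inf.2 ⟨?_, ?_⟩)
      · exact mul_mem ((mem_normalizer_iff.1 (le_normalizer_opIn X (hLX hy)) q).1 hq) (inv_mem hq)
      · have := mul_mem hy ((mem_normalizer_iff.1 (hQL hq) _).1 (inv_mem hy))
        simpa [mul_assoc] using this
    have hez : (y * q * y⁻¹ * q⁻¹) * (q * (y * z * y⁻¹) * q⁻¹) * (y * q * y⁻¹ * q⁻¹)⁻¹ =
        q * (y * z * y⁻¹) * q⁻¹ := by
      have hw := conj_mem_omegaZ (le_normalizer_opIn_of_le_normalizer hQL hq)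
        (conj_mem_omegaZ hyN hz)
      rw [mem_centralizer_iff.1 (mem_omegaZ.1 hw).2.1 _ he, mul_inv_cancel_right]
    calc f (q * z * q⁻¹)
        = (q * z * q⁻¹)⁻¹ * ((y * q * y⁻¹ * q⁻¹) * (q * (y * z * y⁻¹) * q⁻¹) *
            (y * q * y⁻¹ * q⁻¹)⁻¹) := by simp only [hf]; group
      _ = (q * z * q⁻¹)⁻¹ * (q * (y * z * y⁻¹) * q⁻¹) := by rw [hez]
      _ = q * f z * q⁻¹ := by simp only [hf]; group
  have hI : I = ⊥ := by
    by_contra hne
    obtain ⟨i, hi, hi1, hic⟩ :=
      exists_fixed_ne_one (isPGroup_opIn X) ((isPGroup_opIn X).to_le hIQ) hne hQn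
    obtain ⟨z, hz, rfl⟩ := hi
    have hd := mem_omegaZ.1 (hfmem z hz)
    have hfix : y * f z * y⁻¹ = f z := by
      rw [mem_centralizer_iff.1 (h (mem_omegaZ.2 ⟨hopL hd.1, hic, hd.2.2⟩)) y hy,
        mul_inv_cancel_right]
    exact hi1 (eq_one_of_commutator_fixed (r := z) (isPGroup_opIn L) hd.1
      (coprime_two_of_odd hyodd) (by simp only [hf, mul_inv_cancel_left]) hfix)
  intro z hz
  have h1 : f z = 1 := by
    have : f z ∈ I := ⟨z, hz, rfl⟩
    rwa [hI, mem_bot] at this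
  simp only [hf, inv_mul_eq_one] at h1
  calc y * z = y * z * y⁻¹ * y := by group
    _ = z * y := by rw [← h1]

theorem moduleV_eq_bot_iff (Y : Subgroup G) :
    Cfsg.moduleV Y = ⊥ ↔ omegaZ Y ≤ centralizer (Y : Set G) :=
  commutator_eq_bot_iff_le_centralizer

/-- In a group of even characteristic the faithful members of `ℒ(G, T)` are upward closed. -/
theorem mem_calLf_of_le (hE : Cfsg.IsOfEvenCharacteristic G) (T : Sylow 2 G) {L K : Subgroup G}
    (hL : L ∈ Cfsg.calLf (T : Subgroup G)) (hK : K ∈ Cfsg.calL (T : Subgroup G)) (hLK : L ≤ K) :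
    K ∈ Cfsg.calLf (T : Subgroup G) := by
  obtain ⟨⟨hLC, -, -⟩, ⟨hLne, hLodd, -⟩, hLV⟩ := hL
  refine ⟨hK, ?_⟩
  obtain ⟨⟨hKne', hKperf', hKsn, -⟩, -, hKO⟩ := hK
  set Y := K ⊔ (T : Subgroup G) with hY
  have hKY : K ≤ Y := le_sup_left
  -- the overgroup has characteristic 2
  set Q := opIn 2 Y with hQ
  have hQT : Q ≤ (T : Subgroup G) :=
    le_sylow_of_le_normalizer T (isPGroup_opIn Y) (le_sup_right.trans (le_normalizer_opIn Y))
  have hQne : Q ≠ ⊥ := fun h => hKO ((map_eq_bot_iff_of_injective _ Y.subtype_injective).1 h)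
  set M := normalizer (Q : Set G) with hM
  have hYM : Y ≤ M := le_normalizer_opIn Y
  have hMc : HasCharP 2 M :=
    hE M ⟨Q, isPGroup_opIn Y, hQne, rfl⟩ ⟨T, le_sup_right.trans hYM⟩
  have hYc : HasCharP 2 Y := hasCharP_of_opIn_le hYM
    ((le_sylow_of_le_normalizer T (isPGroup_opIn M)
      ((le_sup_right.trans hYM).trans (le_normalizer_opIn M))).trans le_sup_right) hMc
  have hKc : HasCharP 2 K :=
    (hasCharP_of_isSubnormal hKsn hYc).of_mulEquiv (subgroupOfEquivOfLe hKY)
  have hKne : K ≠ ⊥ := fun h => hKne' (by rw [h, bot_subgroupOf])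
  have hKperf : ⁅K, K⁆ = K := by
    have := congrArg (map Y.subtype) hKperf'
    rwa [map_commutator, map_subgroupOf_eq_of_le hKY] at this
  have hKodd : Cfsg.oddGenerated K = K := by
    refine le_antisymm ((closure_le _).2 fun x hx => hx.1) ?_
    set D := Cfsg.oddGenerated K
    have hDK : D ≤ K := (closure_le _).2 fun x hx => hx.1
    haveI hDn : (D.subgroupOf K).Normal := by
      constructor
      intro n hn g
      rw [mem_subgroupOf] at hn ⊢
      simp only [Subgroup.coe_mul, InvMemClass.coe_inv]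
      have key : ∀ x ∈ D, (g : G) * x * (g : G)⁻¹ ∈ D := by
        intro x hx
        induction hx using closure_induction with
        | mem x hx =>
          refine subset_closure ⟨mul_mem (mul_mem g.2 hx.1) (inv_mem g.2), ?_⟩
          rw [← MulAut.conj_apply, MulEquiv.orderOf_eq]
          exact hx.2
        | one => simp
        | mul a b _ _ ha hb => rw [← conj_mul]; exact mul_mem ha hb
        | inv a _ ha => rw [← conj_inv]; exact inv_mem ha
      exact key _ hn
    haveI hperf : Group.IsPerfect K := Subgroup.isPerfect_iff.2 hKperf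
    have hp : IsPGroup 2 (K ⧸ D.subgroupOf K) := by
      intro w
      obtain ⟨x, rfl⟩ := QuotientGroup.mk'_surjective _ w
      obtain ⟨a, m, hm, hxm⟩ := Nat.exists_eq_two_pow_mul_odd (n := orderOf x) (orderOf_pos x).ne'
      refine ⟨a, ?_⟩
      rw [← map_pow]
      refine (QuotientGroup.eq_one_iff _).2 (mem_subgroupOf.2 (subset_closure ⟨SetLike.coe_mem _, ?_⟩))
      rw [orderOf_coe, orderOf_pow, hxm, Nat.gcd_eq_right (dvd_mul_right _ m), Nat.mul_div_cancel_left _ (by positivity)]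
      exact hm
    haveI : Group.IsNilpotent (K ⧸ D.subgroupOf K) := hp.isNilpotent
    haveI : Group.IsPerfect (K ⧸ D.subgroupOf K) :=
      Group.IsPerfect.ofSurjective (f := QuotientGroup.mk' _) (QuotientGroup.mk'_surjective _)
    have hsub : Subsingleton (K ⧸ D.subgroupOf K) := by
      by_contra hns
      haveI := not_subsingleton_iff_nontrivial.1 hns
      exact Group.IsPerfect.not_isSolvable (K ⧸ D.subgroupOf K) inferInstance
    exact subgroupOf_eq_top.1 (QuotientGroup.subsingleton_iff.1 hsub)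
  refine ⟨⟨hKne, hKodd, hKc.Fstar_eq⟩, fun hV => hLV ?_⟩
  rw [moduleV_eq_bot_iff] at hV ⊢
  set X := L ⊔ (T : Subgroup G) with hX
  have hXY : X ≤ Y := sup_le (hLK.trans le_sup_left) le_sup_right
  have hZY := omegaZ_le_centralizer_of_subnormal hKY hKsn hKodd hV
  have hQX : Q ≤ opIn 2 X :=
    le_opIn (hQT.trans le_sup_right) (isPGroup_opIn Y) (hXY.trans (le_normalizer_opIn Y))
  refine omegaZ_le_centralizer_of_overgroup le_sup_left hLC.2.2.1 hLodd ?_
  refine le_trans ?_ (hZY.trans (centralizer_le hLK))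
  intro z hz
  rw [mem_omegaZ] at hz ⊢
  have hzc : z ∈ centralizer (Q : Set G) := centralizer_le hQX hz.2.1
  exact ⟨(hasCharP_subgroup_iff Y).1 hYc (mem_inf.2 ⟨hXY (opIn_le X hz.1), hzc⟩), hzc, hz.2.2⟩

end CfsgLib.CharP
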