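import Mathlib.FieldTheory.Finite.GaloisField
import Mathlib.GroupTheory.Perm.Cycle.Type
import Mathlib.Tactic.NormNum.Prime
import Cfsg.Agent.KGroup.Primitive2
import Cfsg.Agent.Solvable.CoprimeAct
import Cfsg.Agent.ZStar.Final
import Cfsg.Agent.Invol.Isolated

/-!
Finite Jordan division algebras in characteristic two are fields.

An additive subgroup of a finite ring of characteristic two that contains `1`, consists of units
and zero, and is closed under inverses and `(a, b) ↦ a * b * a` is a field.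
-/

set_option autoImplicit false
set_option linter.style.haveILetI false
set_option linter.unusedSectionVars false

namespace CfsgLib.JordanField

variable {R : Type*} [Ring R]

/-- Closure conditions on an additive subgroup of a ring of characteristic two. -/
structure JSub (K : AddSubgroup R) : Prop where
  one : (1 : R) ∈ K
  two : (2 : R) = 0
  inv : ∀ a ∈ K, a ≠ 0 → ∃ b ∈ K, a * b = 1 ∧ b * a = 1
  aba : ∀ a ∈ K, ∀ b ∈ K, a * b * a ∈ K

namespace JSub

variable {K : AddSubgroup R} (h : JSub K)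
include h

theorem add_self (x : R) : x + x = 0 := by rw [← two_mul, h.two, zero_mul]

theorem eq_of_add_eq_zero {x y : R} (hxy : x + y = 0) : x = y := by
  rw [eq_neg_of_add_eq_zero_left hxy, neg_eq_iff_add_eq_zero, h.add_self]

theorem pow_mem {a : R} (ha : a ∈ K) : ∀ i : ℕ, a ^ i ∈ K
  | 0 => by rw [pow_zero]; exact h.one
  | 1 => by rw [pow_one]; exact ha
  | i + 2 => by
    rw [pow_succ, pow_succ']
    exact h.aba a ha _ (pow_mem ha i)

theorem isUnit {a : R} (ha : a ∈ K) (h0 : a ≠ 0) : IsUnit a := by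
  obtain ⟨b, -, h1, h2⟩ := h.inv a ha h0
  exact ⟨⟨a, b, h1, h2⟩, rfl⟩

theorem inv_mem {u : Rˣ} (hu : (u : R) ∈ K) [Nontrivial R] : ((u⁻¹ : Rˣ) : R) ∈ K := by
  obtain ⟨b, hb, h1, -⟩ := h.inv _ hu u.ne_zero
  rwa [Units.inv_eq_of_mul_eq_one_right h1]

theorem eq_of_sq_eq {x y : R} (hx : x ∈ K) (hy : y ∈ K) (hc : Commute x y)
    (hsq : x * x = y * y) : x = y := by
  refine h.eq_of_add_eq_zero ?_
  by_contra hne
  have h2 : (x + y) * (x + y) = 0 := by
    rw [mul_add, add_mul, add_mul, hc.eq, ← add_assoc, add_assoc (x * x), h.add_self, add_zero, hsq,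
      h.add_self]
  exact hne ((h.isUnit (add_mem hx hy) hne).mul_right_eq_zero.1 h2)

theorem orderOf_odd [Finite R] {a : R} (ha : a ∈ K) (h0 : a ≠ 0) : Odd (orderOf a) := by
  obtain ⟨u, rfl⟩ := h.isUnit ha h0
  have hpos : 0 < orderOf (u : R) := by rw [orderOf_units]; exact orderOf_pos u
  rw [← Nat.not_even_iff_odd]
  rintro ⟨m, hm⟩
  have h1 : (u : R) ^ m = 1 := h.eq_of_sq_eq (h.pow_mem ha m) h.one (Commute.one_right _)
    (by rw [← pow_add, ← hm, pow_orderOf_eq_one, mul_one])
  have := Nat.le_of_dvd (by omega) (orderOf_dvd_of_pow_eq_one h1)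
  omega

/-- Square roots. -/
theorem exists_sqrt [Finite R] {a : R} (ha : a ∈ K) (h0 : a ≠ 0) :
    ∃ s ∈ K, s * s = a ∧ ∀ c, Commute a c → Commute s c := by
  obtain ⟨m, hm⟩ := h.orderOf_odd ha h0
  refine ⟨a ^ (m + 1), h.pow_mem ha _, ?_, fun c hc => hc.pow_left _⟩
  rw [← pow_add, show m + 1 + (m + 1) = orderOf a + 1 by omega, pow_succ, pow_orderOf_eq_one,
    one_mul]

theorem mul_mem_of_commute [Finite R] {a b : R} (ha : a ∈ K) (hb : b ∈ K) (hc : Commute a b) :
    a * b ∈ K := by
  by_cases h0 : a = 0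
  · rw [h0, zero_mul]; exact K.zero_mem
  obtain ⟨s, hs, hss, hsc⟩ := h.exists_sqrt ha h0
  rw [← hss, mul_assoc, (hsc b hc).eq, ← mul_assoc]
  exact h.aba s hs b hb

theorem card_eq_two_pow [Finite R] : ∃ k, Nat.card K = 2 ^ k := by
  haveI := Fact.mk Nat.prime_two
  have hp : IsPGroup 2 (Multiplicative K) := fun x => ⟨1, by
    apply Multiplicative.toAdd.injective
    simp only [pow_one, toAdd_pow, toAdd_one, two_nsmul]
    exact Subtype.ext (h.add_self _)⟩
  obtain ⟨k, hk⟩ := IsPGroup.iff_card.1 hp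
  exact ⟨k, by rw [← hk]; exact Nat.card_congr Multiplicative.ofAdd⟩

theorem one_lt_card [Finite R] [Nontrivial R] : 1 < Nat.card K :=
  Finite.one_lt_card_iff_nontrivial.2
    ⟨⟨⟨0, K.zero_mem⟩, ⟨1, h.one⟩, fun e => zero_ne_one (congrArg Subtype.val e)⟩⟩

/-- The powers of an element span a field inside `K`. -/
theorem closure_le {x : R} (hx : x ∈ K) {y : R} (hy : y ∈ Subring.closure ({x} : Set R)) :
    y ∈ K := by
  rw [Subring.mem_closure_iff] at hy
  refine (AddSubgroup.closure_le K).2 ?_ hy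
  intro z hz
  obtain ⟨i, rfl⟩ := Submonoid.mem_closure_singleton.1 hz
  exact h.pow_mem hx i

theorem pow_card_sub_one [Finite R] [Nontrivial R] (S : Subring R) (hSK : ∀ y ∈ S, y ∈ K)
    {x : R} (hx : x ∈ S) (h0 : x ≠ 0) : x ^ (Nat.card S - 1) = 1 := by
  classical
  haveI := Fintype.ofFinite S
  have hu : ∀ y : S, y ≠ 0 → IsUnit y := by
    intro y hy
    have hy0 : (y : R) ≠ 0 := fun e => hy (Subtype.ext e)
    obtain ⟨m, hm⟩ := h.orderOf_odd (hSK _ y.2) hy0
    refine IsUnit.of_mul_eq_one_right (y ^ (2 * m)) (Subtype.ext ?_)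
    push_cast
    rw [← pow_succ, ← hm, pow_orderOf_eq_one]
  let e : Sˣ ≃ {y : S // y ≠ 0} :=
    { toFun := fun u => ⟨u, u.ne_zero⟩
      invFun := fun y => (hu y.1 y.2).unit
      left_inv := fun u => Units.ext rfl
      right_inv := fun y => Subtype.ext rfl }
  have hcard : Nat.card Sˣ = Nat.card S - 1 := by
    rw [Nat.card_congr e, Nat.card_eq_fintype_card, Nat.card_eq_fintype_card,
      Fintype.card_subtype_compl, Fintype.card_subtype_eq]
  have hx0 : (⟨x, hx⟩ : S) ≠ 0 := fun e => h0 (congrArg Subtype.val e)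
  obtain ⟨u, hu'⟩ := hu _ hx0
  have := congrArg (fun v : Sˣ => ((v : S) : R)) (pow_card_eq_one' (x := u))
  simp only [Units.val_pow_eq_pow_val, hu', hcard, Units.val_one] at this
  simpa using this

/-- An element whose order divides no smaller `2 ^ j - 1` generates `K`. -/
theorem comm_of_order [Finite R] [Nontrivial R] {k : ℕ} (hk : Nat.card K = 2 ^ k) {x : R}
    (hx : x ∈ K) (h0 : x ≠ 0)
    (hmin : ∀ j, 1 ≤ j → j ≤ k → x ^ (2 ^ j - 1) = 1 → k ≤ j) :
    ∀ a ∈ K, ∀ b ∈ K, Commute a b := by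
  set S := Subring.closure ({x} : Set R) with hS
  have hSK : ∀ y ∈ S, y ∈ K := fun y hy => h.closure_le hx hy
  have h2 : JSub S.toAddSubgroup :=
    { one := S.one_mem
      two := h.two
      inv := fun a ha ha0 => by
        obtain ⟨m, hm⟩ := h.orderOf_odd (hSK a ha) ha0
        refine ⟨a ^ (2 * m), S.pow_mem ha _, ?_, ?_⟩
        · rw [← pow_succ', ← hm, pow_orderOf_eq_one]
        · rw [← pow_succ, ← hm, pow_orderOf_eq_one]
      aba := fun a ha b hb => S.mul_mem (S.mul_mem ha hb) ha }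
  obtain ⟨j, hj⟩ := h2.card_eq_two_pow
  have hle : S.toAddSubgroup ≤ K := fun y hy => hSK y hy
  have hj1 : 1 ≤ j := by
    have := h2.one_lt_card
    rw [hj] at this
    by_contra hj0
    simp [show j = 0 by omega] at this
  have hjk : j ≤ k := by
    have := AddSubgroup.card_le_of_le hle
    rw [hj, hk] at this
    exact (Nat.pow_le_pow_iff_right (by norm_num)).1 this
  have hkj : k ≤ j := hmin j hj1 hjk (by
    have := h.pow_card_sub_one S hSK (Subring.subset_closure rfl) h0
    rwa [show Nat.card S = 2 ^ j from hj] at this)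
  have heq : S.toAddSubgroup = K :=
    AddSubgroup.eq_of_le_of_card_ge hle (by rw [hj, hk, le_antisymm hjk hkj])
  intro a ha b hb
  rw [← heq] at ha hb
  have key : ∀ y ∈ S, ∀ c, Commute x c → Commute y c := by
    intro y hy c hc
    induction hy using Subring.closure_induction with
    | mem y hy => rw [Set.mem_singleton_iff.1 hy]; exact hc
    | zero => exact Commute.zero_left c
    | one => exact Commute.one_left c
    | add y z _ _ h1 h2 => exact h1.add_left h2
    | neg y _ h1 => exact h1.neg_left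
    | mul y z _ _ h1 h2 => exact h1.mul_left h2
  exact key a ha b (key b hb x (Commute.refl x)).symm

end JSub

/-! ### The involutions `(s, t) ↦ (a t, a⁻¹ s)` -/

/-- The involution `(s, t) ↦ (u t, u⁻¹ s)`. -/
def invol (u : Rˣ) : Equiv.Perm (R × R) where
  toFun p := ((u : R) * p.2, ((u⁻¹ : Rˣ) : R) * p.1)
  invFun p := ((u : R) * p.2, ((u⁻¹ : Rˣ) : R) * p.1)
  left_inv p := by simp
  right_inv p := by simp

theorem invol_apply (u : Rˣ) (p : R × R) :
    invol u p = ((u : R) * p.2, ((u⁻¹ : Rˣ) : R) * p.1) := rfl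

theorem invol_mul_self (u : Rˣ) : invol u * invol u = 1 := by
  ext p <;> simp [invol_apply]

theorem invol_inv (u : Rˣ) : (invol u)⁻¹ = invol u :=
  inv_eq_of_mul_eq_one_right (invol_mul_self u)

theorem invol_conj (c a : Rˣ) : invol c * invol a * invol c = invol (c * a⁻¹ * c) := by
  ext p <;> simp [invol_apply, mul_assoc]

theorem invol_injective : Function.Injective (invol : Rˣ → Equiv.Perm (R × R)) := fun u v e =>
  Units.ext (by simpa [invol_apply] using congrArg (fun σ : Equiv.Perm (R × R) => (σ (0, 1)).1) e)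

theorem invol_mul_one_pow (u : Rˣ) (i : ℕ) :
    ((invol u * invol 1) ^ i : Equiv.Perm (R × R)) (1, 0) = ((u : R) ^ i, 0) := by
  induction i with
  | zero => simp
  | succ i ih =>
    rw [pow_succ', Equiv.Perm.mul_apply, ih]
    simp [invol_apply, pow_succ']

/-- Every prime divisor of `|K| - 1` is the order of an element of `K`. -/
theorem JSub.exists_orderOf [Finite R] [Nontrivial R] {K : AddSubgroup R} (h : JSub K) {r : ℕ}
    (hr : r.Prime) (hdvd : r ∣ Nat.card K - 1) : ∃ a ∈ K, orderOf a = r := by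
  classical
  haveI := Fact.mk hr
  let C : Set (Equiv.Perm (R × R)) := {σ | ∃ u : Rˣ, (u : R) ∈ K ∧ σ = invol u}
  let E : Subgroup (Equiv.Perm (R × R)) := Subgroup.closure C
  have h1C : invol (1 : Rˣ) ∈ C := ⟨1, by simpa using h.one, rfl⟩
  have hgen : ∀ c ∈ C, ∀ σ ∈ C, c * σ * c⁻¹ ∈ C := by
    rintro _ ⟨c, hc, rfl⟩ _ ⟨a, ha, rfl⟩
    refine ⟨c * a⁻¹ * c, ?_, by rw [invol_inv, invol_conj]⟩
    push_cast
    exact h.aba _ hc _ (h.inv_mem ha)
  have hinv : ∀ e ∈ E, ∀ σ, σ ∈ C ↔ e * σ * e⁻¹ ∈ C := by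
    intro e he
    induction he using Subgroup.closure_induction with
    | mem c hc =>
      refine fun σ => ⟨hgen c hc σ, fun hσ => ?_⟩
      obtain ⟨u, hu, rfl⟩ := hc
      have := hgen _ ⟨u, hu, rfl⟩ _ hσ
      simpa [invol_inv, mul_assoc, ← mul_assoc (invol u) (invol u), invol_mul_self] using this
    | one => simp
    | mul x y _ _ hx hy =>
      intro σ
      rw [hy σ, hx (y * σ * y⁻¹)]
      simp [mul_assoc]
    | inv x _ hx =>
      intro σ
      rw [hx (x⁻¹ * σ * x⁻¹⁻¹)]
      simp [mul_assoc]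
  let w : E := ⟨invol 1, Subgroup.subset_closure h1C⟩
  have hw2 : orderOf w = 2 := by
    refine orderOf_eq_prime (Subtype.ext ?_) ?_
    · rw [Subgroup.coe_pow, sq]; exact invol_mul_self 1
    · intro e
      have := congrArg (fun v : E => ((v : Equiv.Perm (R × R)) (1, 0)).1) e
      simp [w, invol_apply] at this
  have hconj : ∀ g : E, ∃ u : Rˣ, (u : R) ∈ K ∧ ((g * w * g⁻¹ : E) : Equiv.Perm (R × R)) = invol u :=
    fun g => by
      push_cast
      exact (hinv g g.2 _).1 h1C
  have hiso : Cfsg.IsIsolatedInvolution w := by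
    refine ⟨hw2, fun g hc => ?_⟩
    obtain ⟨u, hu, he⟩ := hconj g
    have hc' : invol (1 : Rˣ) * invol u = invol u * invol 1 := by
      rw [← he]; exact congrArg Subtype.val hc.eq
    have h2 := congrArg (fun σ : Equiv.Perm (R × R) => (σ (0, 1)).2) hc'
    simp [invol_apply] at h2
    have h3 : (u : R) = 1 := h.eq_of_sq_eq hu h.one (Commute.one_right _) (by
      nth_rewrite 2 [h2]; simp)
    exact Subtype.ext (he.trans (by rw [(Units.ext h3 : u = 1)]))
  obtain ⟨N, hN, hNodd, hNc⟩ := CfsgLib.ZStar.zstar hiso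
  -- `N` is transitive on the class
  have htrans : ∀ u : Rˣ, (u : R) ∈ K → ∃ g : N,
      (((g : E) * w * (g : E)⁻¹ : E) : Equiv.Perm (R × R)) = invol u := by
    intro u hu
    obtain ⟨s, hs, hss, -⟩ := h.exists_sqrt hu u.ne_zero
    have hs0 : s ≠ 0 := fun e => u.ne_zero (by rw [← hss, e, zero_mul])
    obtain ⟨s', rfl⟩ := h.isUnit hs hs0
    let g0 : E := ⟨invol s', Subgroup.subset_closure ⟨s', hs, rfl⟩⟩
    obtain ⟨m, hm⟩ := CfsgLib.Invol.isolated_exists_conj hiso g0
    have hmem : w * (g0 * w * g0⁻¹) ∈ N := by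
      have := hNc g0
      rw [CfsgLib.Invol.inv_eq_self hw2] at this
      have h2 : g0⁻¹ = g0 := Subtype.ext (invol_inv s')
      rw [h2] at this ⊢
      simpa [mul_assoc] using this
    refine ⟨⟨_, _root_.pow_mem hmem m⟩, ?_⟩
    change (((w * (g0 * w * g0⁻¹)) ^ m * w * ((w * (g0 * w * g0⁻¹)) ^ m)⁻¹ : E) :
      Equiv.Perm (R × R)) = _
    rw [hm]
    push_cast
    rw [show ((g0 : E) : Equiv.Perm (R × R)) = invol s' from rfl, invol_inv,
      show (w : Equiv.Perm (R × R)) = invol 1 from rfl, invol_conj]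
    congr 1
    exact Units.ext (by simpa using hss)
  let CN : Subgroup N := (Subgroup.centralizer ({w} : Set E)).comap N.subtype
  have hCN : ∀ g : N, g ∈ CN ↔ (g : E) * w * (g : E)⁻¹ = w := fun g => by
    rw [Subgroup.mem_comap, Subgroup.mem_centralizer_singleton_iff, mul_inv_eq_iff_eq_mul]
    rfl
  -- the index of the centralizer
  have hidx : CN.index = Nat.card K - 1 := by
    haveI := Fintype.ofFinite K
    rw [Nat.card_eq_fintype_card]
    have : Fintype.card K - 1 = Nat.card {y : K // y ≠ 0} := by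
      rw [Nat.card_eq_fintype_card, Fintype.card_subtype_compl, Fintype.card_subtype_eq]
    rw [this, Subgroup.index]
    have key : ∀ g : N, ∃ y : {y : K // y ≠ 0}, ∃ u : Rˣ, (u : R) = (y.1 : R) ∧
        (((g : E) * w * (g : E)⁻¹ : E) : Equiv.Perm (R × R)) = invol u := fun g => by
      obtain ⟨u, hu, he⟩ := hconj g
      exact ⟨⟨⟨u, hu⟩, fun e => u.ne_zero (congrArg Subtype.val e)⟩, u, rfl, he⟩
    choose f u hfu hu using key
    have hf : ∀ a b : N, a⁻¹ * b ∈ CN ↔ f a = f b := by
      intro a b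
      rw [hCN]
      constructor
      · intro e
        have e' : (b : E) * w * (b : E)⁻¹ = (a : E) * w * (a : E)⁻¹ := by
          have := congrArg (fun z => (a : E) * z * (a : E)⁻¹) e
          simpa [mul_assoc] using this
        have : u a = u b := invol_injective ((hu a).symm.trans ((congrArg Subtype.val e'.symm).trans (hu b)))
        exact Subtype.ext (Subtype.ext (by rw [← hfu, ← hfu, this]))
      · intro e
        have e' : (b : E) * w * (b : E)⁻¹ = (a : E) * w * (a : E)⁻¹ := by
          refine Subtype.ext ((hu b).trans ?_)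
          rw [hu a, (Units.ext (by rw [hfu a, hfu b, e]) : u a = u b)]
        have h4 := congrArg (fun z => (a : E)⁻¹ * z * (a : E)) e'
        simpa [mul_assoc] using h4
    refine Nat.card_congr (Equiv.ofBijective (fun q => Quotient.liftOn' q f fun a b hab =>
      (hf a b).1 (QuotientGroup.leftRel_apply.1 hab)) ⟨?_, ?_⟩)
    · intro p q
      induction p using QuotientGroup.induction_on with
      | H a =>
      induction q using QuotientGroup.induction_on with
      | H b => exact fun e => QuotientGroup.eq.2 ((hf a b).2 e)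
    · rintro ⟨⟨y, hy⟩, hy0⟩
      obtain ⟨v, rfl⟩ := h.isUnit hy (fun e => hy0 (Subtype.ext e))
      obtain ⟨g, hg⟩ := htrans v hy
      refine ⟨QuotientGroup.mk g, Subtype.ext (Subtype.ext ?_)⟩
      show ((f g).1 : R) = v
      rw [← hfu, invol_injective ((hu g).symm.trans hg)]
  -- an invariant Sylow subgroup
  have hA : Subgroup.zpowers w ≤ Subgroup.normalizer (N : Set E) := fun x _ => by
    rw [Subgroup.normalizer_eq_top]; trivial
  have hcop : (Nat.card (Subgroup.zpowers w)).Coprime (Nat.card N) := by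
    rw [Nat.card_zpowers, hw2]
    exact hNodd.coprime_two_left
  obtain ⟨P, hP⟩ := CfsgLib.CoprimeAct.exists_invariant_sylow hA hcop
    (Or.inl (by
      haveI : IsCyclic (Subgroup.zpowers w) := Subgroup.isCyclic_zpowers w
      letI : CommGroup (Subgroup.zpowers w) := IsCyclic.commGroup
      infer_instance)) r
  have hnot : ¬ (P : Subgroup N) ≤ CN := by
    intro hle
    have h1 := Subgroup.card_dvd_of_le hle
    rw [P.card_eq_multiplicity] at h1
    refine Nat.pow_succ_factorization_not_dvd (n := Nat.card N) Nat.card_pos.ne' hr ?_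
    rw [pow_succ]
    exact (Nat.mul_dvd_mul h1 hdvd).trans (by rw [← hidx, Subgroup.card_mul_index])
  obtain ⟨ρ, hρP, hρ⟩ := SetLike.not_le_iff_exists.1 hnot
  obtain ⟨u, hu, he⟩ := hconj ρ
  set x : E := (ρ : E) * w * (ρ : E)⁻¹ * w⁻¹ with hxdef
  have hxmem : x ∈ (P : Subgroup N).map N.subtype := by
    have h1 : (ρ : E) ∈ (P : Subgroup N).map N.subtype := ⟨ρ, hρP, rfl⟩
    have h2 : w * (ρ : E)⁻¹ * w⁻¹ ∈ (P : Subgroup N).map N.subtype :=
      (Subgroup.mem_normalizer_iff.1 (hP (Subgroup.mem_zpowers w)) _).1 (Subgroup.inv_mem _ h1)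
    have := mul_mem h1 h2
    simpa [x, mul_assoc] using this
  obtain ⟨j, hj⟩ := (P.2.map N.subtype) ⟨x, hxmem⟩
  have hj' : x ^ r ^ j = 1 := by simpa using congrArg Subtype.val hj
  have hxu : (x : Equiv.Perm (R × R)) = invol u * invol 1 := by
    rw [← invol_inv 1, ← he]; rfl
  have hpow : (u : R) ^ r ^ j = 1 := by
    have := congrArg (fun v : E => ((v : Equiv.Perm (R × R)) (1, 0)).1) hj'
    simpa [hxu, invol_mul_one_pow] using this
  have hne : (u : R) ≠ 1 := fun e => hρ ((hCN ρ).2 (Subtype.ext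
    (he.trans (by rw [(Units.ext e : u = 1)]))))
  obtain ⟨i, -, hi⟩ := (Nat.dvd_prime_pow hr).1 (orderOf_dvd_of_pow_eq_one hpow)
  rcases i with _ | i
  · exact absurd (orderOf_eq_one_iff.1 hi) hne
  refine ⟨(u : R) ^ r ^ i, h.pow_mem hu _, ?_⟩
  rw [orderOf_pow' _ (pow_ne_zero _ hr.ne_zero), hi,
    Nat.gcd_eq_right (pow_dvd_pow r (Nat.le_succ i)), Nat.pow_div (Nat.le_succ i) hr.pos]
  simp

theorem JSub.comm_of_ne_six [Finite R] [Nontrivial R] {K : AddSubgroup R} (h : JSub K) {k : ℕ}
    (hk : Nat.card K = 2 ^ k) (h6 : k ≠ 6) : ∀ a ∈ K, ∀ b ∈ K, Commute a b := by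
  rcases Nat.lt_or_ge k 2 with hk2 | hk2
  · exact h.comm_of_order hk h.one one_ne_zero (fun j hj _ _ => by omega)
  obtain ⟨r, hr, hrp⟩ := CfsgLib.Primitive2.exists_primitive hk2 h6
  obtain ⟨a, ha, hord⟩ := h.exists_orderOf hr (by rw [hk]; exact (hrp k).2 dvd_rfl)
  have ha0 : a ≠ 0 := fun e => by
    have := pow_orderOf_eq_one a
    rw [e, orderOf_zero] at hord
    exact hr.ne_zero hord.symm
  refine h.comm_of_order hk ha ha0 fun j hj _ hpow => ?_
  exact Nat.le_of_dvd hj ((hrp j).1 (hord ▸ orderOf_dvd_of_pow_eq_one hpow))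

theorem JSub.comm [Finite R] [Nontrivial R] {K : AddSubgroup R} (h : JSub K) :
    ∀ a ∈ K, ∀ b ∈ K, Commute a b := by
  obtain ⟨k, hk⟩ := h.card_eq_two_pow
  by_cases h6 : k = 6
  swap
  · exact h.comm_of_ne_six hk h6
  subst h6
  have big : ∀ x ∈ K, orderOf x = 21 → ∀ a ∈ K, ∀ b ∈ K, Commute a b := by
    intro x hx hord
    refine h.comm_of_order hk hx (fun e => ?_) fun j hj hj6 hpow => ?_
    · rw [e, orderOf_zero] at hord; omega
    · have h21 : 21 ∣ 2 ^ j - 1 := hord ▸ orderOf_dvd_of_pow_eq_one hpow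
      interval_cases j <;> first | omega | norm_num at h21
  obtain ⟨f, hf, hf3⟩ := h.exists_orderOf Nat.prime_three (by rw [hk]; norm_num)
  obtain ⟨b, hb, hb7⟩ := h.exists_orderOf (r := 7) (by norm_num) (by rw [hk]; norm_num)
  by_cases hfb : Commute f b
  · exact big _ (h.mul_mem_of_commute hf hb hfb) (by
      rw [hfb.orderOf_mul_eq_mul_orderOf_of_coprime (by rw [hf3, hb7]; norm_num), hf3, hb7])
  have hf2 : f * f = f + 1 := by
    have hne : f + 1 ≠ 0 := fun e => by
      rw [h.eq_of_add_eq_zero e, orderOf_one] at hf3; omega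
    have h3 : (f + 1) * (f * f + (f + 1)) = 0 := by
      have e : f ^ 3 = 1 := hf3 ▸ pow_orderOf_eq_one f
      have : (f + 1) * (f * f + (f + 1)) = f ^ 3 + 1 + ((f * f + f) + (f * f + f)) := by
        noncomm_ring
      rw [this, h.add_self, add_zero, e, h.add_self]
    exact h.eq_of_add_eq_zero ((h.isUnit (add_mem hf h.one) hne).mul_right_eq_zero.1 h3)
  obtain ⟨s, hsdef⟩ : ∃ s, s = f * b + b * f := ⟨_, rfl⟩
  have hsK : s ∈ K := by
    have e : s = (f + 1) * b * (f + 1) + b + f * b * f := by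
      have e2 : (f + 1) * b * (f + 1) + b + f * b * f = s + ((f * b * f + f * b * f) + (b + b)) := by
        rw [hsdef]; noncomm_ring
      rw [e2, h.add_self, h.add_self, add_zero, add_zero]
    rw [e]
    exact add_mem (add_mem (h.aba _ (add_mem hf h.one) _ hb) hb) (h.aba _ hf _ hb)
  have hs0 : s ≠ 0 := fun e => hfb (h.eq_of_add_eq_zero (hsdef ▸ e))
  have hfs : f * s = s * f + s := by
    refine h.eq_of_add_eq_zero ?_
    have e : f * s + (s * f + s) = (f * f) * b + b * (f * f) + ((f * b * f) + (f * b * f)) + s := by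
      rw [hsdef]; noncomm_ring
    rw [e, h.add_self, add_zero, hf2]
    have e2 : (f + 1) * b + b * (f + 1) + s = (s + s) + (b + b) := by
      rw [hsdef]; noncomm_ring
    rw [e2, h.add_self, h.add_self, add_zero]
  obtain ⟨z, hzdef⟩ : ∃ z, z = s * s := ⟨_, rfl⟩
  have hzK : z ∈ K := by simpa [hzdef] using h.aba s hsK 1 h.one
  have hz0 : z ≠ 0 := fun e => hs0 ((h.isUnit hsK hs0).mul_right_eq_zero.1 (hzdef ▸ e))
  have hzf : Commute z f := by
    rw [hzdef, commute_iff_eq]
    calc s * s * f = s * (s * f + s) + s * s := by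
          rw [mul_add, add_assoc, h.add_self, add_zero, mul_assoc]
      _ = (s * f + s) * s := by rw [add_mul, mul_assoc s f s, hfs]
      _ = f * (s * s) := by rw [← hfs, mul_assoc]
  have hzs : Commute z s := hzdef ▸ (Commute.refl s).mul_left (Commute.refl s)
  have hz1 : z ≠ 1 := fun e => by
    have hs1 : s = 1 := h.eq_of_sq_eq hsK h.one (Commute.one_right _) (by rw [mul_one, ← hzdef]; exact e)
    rw [hs1, mul_one, one_mul] at hfs
    exact one_ne_zero (left_eq_add.1 hfs)
  have hcent : ∀ a ∈ K, Commute z a := by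
    by_contra hcon
    push Not at hcon
    let C : AddSubgroup R := K ⊓ (Subring.centralizer ({z} : Set R)).toAddSubgroup
    have hmem : ∀ a, a ∈ C ↔ a ∈ K ∧ Commute z a := fun a => by
      simp [C, Set.mem_centralizer_iff, Commute, SemiconjBy]
    have hC : JSub C :=
      { one := (hmem 1).2 ⟨h.one, Commute.one_right z⟩
        two := h.two
        inv := fun a ha ha0 => by
          obtain ⟨haK, hza⟩ := (hmem a).1 ha
          obtain ⟨c, hc, h1, h2⟩ := h.inv a haK ha0
          exact ⟨c, (hmem c).2 ⟨hc, Commute.units_inv_right (u := ⟨a, c, h1, h2⟩) hza⟩, h1, h2⟩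
        aba := fun a ha c hc => by
          obtain ⟨haK, hza⟩ := (hmem a).1 ha
          obtain ⟨hcK, hzc⟩ := (hmem c).1 hc
          exact (hmem _).2 ⟨h.aba a haK c hcK, (hza.mul_right hzc).mul_right hza⟩ }
    obtain ⟨j, hj⟩ := hC.card_eq_two_pow
    have hj6 : j ≠ 6 := by
      rintro rfl
      obtain ⟨a, ha, hna⟩ := hcon
      have : C = K := AddSubgroup.eq_of_le_of_card_ge inf_le_left (by rw [hj, hk])
      exact hna ((hmem a).1 (by rw [this]; exact ha)).2
    have := hC.comm_of_ne_six hj hj6 f ((hmem f).2 ⟨hf, hzf⟩) s ((hmem s).2 ⟨hsK, hzs⟩)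
    rw [this.eq] at hfs
    exact hs0 (left_eq_add.1 hfs)
  obtain ⟨q, hq, hqd⟩ := Nat.exists_prime_and_dvd (n := orderOf z) (fun e => hz1 (orderOf_eq_one_iff.1 e))
  obtain ⟨o, ho⟩ := hqd
  have hopos : orderOf z ≠ 0 := (h.orderOf_odd hzK hz0).pos.ne'
  set w := z ^ o with hwdef
  have hwK : w ∈ K := h.pow_mem hzK o
  have hword : orderOf w = q := by
    have ho0 : o ≠ 0 := fun e => hopos (by rw [ho, e, mul_zero])
    rw [hwdef, orderOf_pow' _ ho0, ho, Nat.gcd_eq_right (dvd_mul_left o q),
      Nat.mul_div_cancel _ (Nat.pos_of_ne_zero ho0)]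
  have hwc : ∀ a ∈ K, Commute w a := fun a ha => (hcent a ha).pow_left o
  -- `w` permutes `K` with only `0` fixed
  have hq63 : q ∣ 63 := by
    classical
    haveI := Fintype.ofFinite K
    haveI := Fact.mk hq
    let σ : Function.End K := fun a => ⟨w * a, h.mul_mem_of_commute hwK a.2 (hwc a a.2)⟩
    have hσn : ∀ (i : ℕ) (a : K), ((σ ^ i) a : R) = w ^ i * a := by
      intro i
      induction i with
      | zero => intro a; simp [Function.End.one_def]
      | succ i ih =>
        intro a
        rw [pow_succ', pow_succ', mul_assoc, ← ih a]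
        rfl
    have hσ : σ ^ q ^ 1 = 1 := funext fun a => Subtype.ext (by
      rw [pow_one, hσn, ← hword, pow_orderOf_eq_one, one_mul]; rfl)
    have hfix : ∀ a : K, a ∈ Function.fixedPoints σ ↔ a = 0 := by
      intro a
      constructor
      · intro e
        have e' : w * (a : R) = a := congrArg Subtype.val e
        by_contra ha
        have hu := h.isUnit a.2 (fun e => ha (Subtype.ext e))
        have : w = 1 := hu.mul_right_cancel (e'.trans (one_mul _).symm)
        rw [this, orderOf_one] at hword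
        exact hq.ne_one hword.symm
      · rintro rfl
        exact Subtype.ext (mul_zero w)
    have hmod := Equiv.Perm.card_fixedPoints_modEq (p := q) (n := 1) hσ
    rw [← Nat.card_eq_fintype_card, hk, ← Nat.card_eq_fintype_card] at hmod
    have h1 : Nat.card (Function.fixedPoints σ) = 1 := by
      rw [Nat.card_eq_one_iff_unique]
      exact ⟨⟨fun a b => Subtype.ext (((hfix a).1 a.2).trans ((hfix b).1 b.2).symm)⟩,
        ⟨⟨0, (hfix 0).2 rfl⟩⟩⟩
    rw [h1] at hmod
    exact (Nat.modEq_iff_dvd' (by norm_num)).1 hmod.symm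
  have hq37 : q = 3 ∨ q = 7 := by
    rcases hq.dvd_mul.1 (show q ∣ 9 * 7 from hq63) with h9 | h7
    · exact Or.inl ((Nat.prime_dvd_prime_iff_eq hq Nat.prime_three).1
        (hq.dvd_of_dvd_pow (show q ∣ 3 ^ 2 from h9)))
    · exact Or.inr ((Nat.prime_dvd_prime_iff_eq hq (by norm_num)).1 h7)
  rcases hq37 with rfl | rfl
  · exact big _ (h.mul_mem_of_commute hwK hb (hwc b hb)) (by
      rw [(hwc b hb).orderOf_mul_eq_mul_orderOf_of_coprime (by rw [hword, hb7]; norm_num), hword, hb7])
  · exact big _ (h.mul_mem_of_commute hwK hf (hwc f hf)) (by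
      rw [(hwc f hf).orderOf_mul_eq_mul_orderOf_of_coprime (by rw [hword, hf3]; norm_num), hword, hf3])

/-- A finite Jordan division algebra in characteristic two is a field. -/
theorem exists_field [Finite R] [Nontrivial R] {K : AddSubgroup R} (h : JSub K) :
    ∃ (F : Type) (_ : Field F) (_ : Fintype F) (φ : F →+* R),
      Fintype.card F = Nat.card K ∧ Set.range φ = K := by
  classical
  obtain ⟨k, hk⟩ := h.card_eq_two_pow
  have hk0 : k ≠ 0 := by
    rintro rfl
    have := h.one_lt_card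
    simp [hk] at this
  let S : Subring R :=
    { K with
      one_mem' := h.one
      mul_mem' := fun {a b} ha hb => h.mul_mem_of_commute ha hb (h.comm a ha b hb) }
  have hfield : IsField S :=
    { exists_pair_ne := ⟨0, 1, fun e => zero_ne_one (congrArg Subtype.val e)⟩
      mul_comm := fun a b => Subtype.ext (h.comm a a.2 b b.2)
      mul_inv_cancel := fun {a} ha => by
        obtain ⟨c, hc, h1, -⟩ := h.inv (a : R) a.2 (fun e => ha (Subtype.ext e))
        exact ⟨⟨c, hc⟩, Subtype.ext h1⟩ }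
  letI : Field S := hfield.toField
  haveI := Fintype.ofFinite S
  haveI := Fact.mk Nat.prime_two
  have hcard : Fintype.card S = 2 ^ k := by
    rw [← Nat.card_eq_fintype_card]; exact hk
  haveI : Fintype (GaloisField 2 k) := Fintype.ofFinite _
  have hcard2 : Fintype.card (GaloisField 2 k) = 2 ^ k := by
    rw [← Nat.card_eq_fintype_card]; exact GaloisField.card 2 k hk0
  let e : GaloisField 2 k ≃+* S := FiniteField.ringEquivOfCardEq (hcard2.trans hcard.symm)
  refine ⟨GaloisField 2 k, inferInstance, inferInstance, S.subtype.comp e.toRingHom,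
    hcard2.trans hk.symm, ?_⟩
  rw [RingHom.coe_comp, Set.range_comp, RingEquiv.toRingHom_eq_coe, RingEquiv.coe_toRingHom,
    e.surjective.range_eq, Set.image_univ]
  exact Subtype.range_coe

end CfsgLib.JordanField
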