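import Cfsg.Agent.Comp.PComponent
import Cfsg.Agent.Coprime.Sylow
import Cfsg.Agent.Solvable.Basics
import Cfsg.Prelude.Def_ClassificationStages

/-!
The `p`-layer of the centralizer in a `p`-component `K` of a `p`-element acting trivially on
`K / O_{p'}(K)` covers `K` modulo `O_{p'}(K)`.
-/

set_option autoImplicit false
set_option linter.unusedSectionVars false

namespace CfsgLib.LayerCover

open Subgroup

variable {X : Type*} [Group X] [Finite X] {p : ℕ} [Fact p.Prime]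

/-- The elements of `K` fixed by a `p`-element acting trivially on `K / O_{p'}(K)` cover it. -/
theorem le_inf_centralizer_sup {K : Subgroup X} {y : X} {k : ℕ} (hy : y ^ p ^ k = 1)
    (hyK : ∀ x ∈ K, y * x * y⁻¹ * x⁻¹ ∈ ((Cfsg.pPrimeCore p ↥K).map K.subtype : Subgroup X)) :
    K ≤ (K ⊓ centralizer {y}) ⊔ (Cfsg.pPrimeCore p ↥K).map K.subtype := by
  set O := (Cfsg.pPrimeCore p ↥K).map K.subtype
  have hOK : O ≤ K := map_subtype_le _
  have hcopO : (Nat.card O).Coprime p := by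
    rw [card_map_of_injective K.subtype_injective]
    exact CfsgLib.Solvable.coprime_card_pPrimeCore p
  have hKO : K ≤ normalizer (O : Set X) := by
    intro g hg
    refine mem_normalizer_iff.2 fun x => ⟨?_, fun hx => ?_⟩
    · rintro ⟨w, hw, rfl⟩
      exact ⟨_, (CfsgLib.Solvable.pPrimeCore_spec (G := K) p).1.conj_mem w hw ⟨g, hg⟩, rfl⟩
    · obtain ⟨w, hw, e⟩ := hx
      refine ⟨_, (CfsgLib.Solvable.pPrimeCore_spec (G := K) p).1.conj_mem w hw ⟨g⁻¹, inv_mem hg⟩, ?_⟩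
      have e' : (w : X) = g * x * g⁻¹ := e
      show g⁻¹ * (w : X) * g⁻¹⁻¹ = x
      rw [e']; group
  have hyn : zpowers y ≤ normalizer (O : Set X) := by
    refine zpowers_le.2 ?_
    refine mem_normalizer_iff_map_conj_eq.2 (eq_of_le_of_card_ge ?_ ?_)
    · rintro _ ⟨x, hx, rfl⟩
      have h := mul_mem (hyK x (hOK hx)) hx
      simpa using h
    · exact (card_map_of_injective (MulAut.conj y).injective).ge
  have hcop : (Nat.card (zpowers y)).Coprime (Nat.card O) := by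
    rw [Nat.card_zpowers]
    exact (hcopO.pow_right k).symm.coprime_dvd_left (orderOf_dvd_of_pow_eq_one hy)
  intro g hg
  have hgen : ∀ i : ℕ, g⁻¹ * (y ^ i * g * (y ^ i)⁻¹) ∈ O := by
    intro i
    induction i with
    | zero => simp
    | succ i ih =>
      set d := g⁻¹ * (y ^ i * g * (y ^ i)⁻¹) with hd
      have hyd : y * d * y⁻¹ ∈ O := (mem_normalizer_iff.1 (hyn (mem_zpowers y)) d).1 ih
      have h1 : g⁻¹ * (y * g * y⁻¹ * g⁻¹) * g⁻¹⁻¹ ∈ O :=
        (mem_normalizer_iff.1 (hKO (inv_mem hg)) _).1 (hyK g hg)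
      have h2 := mul_mem h1 hyd
      have e : g⁻¹ * (y ^ (i + 1) * g * (y ^ (i + 1))⁻¹) =
          (g⁻¹ * (y * g * y⁻¹ * g⁻¹) * g⁻¹⁻¹) * (y * d * y⁻¹) := by
        rw [hd, pow_succ']; group
      rw [e]; exact h2
  obtain ⟨c, hc, hcO⟩ := CfsgLib.Coprime.exists_commute_mem_coset (zpowers y) O hyn hcop g
    (fun z hz => by
      obtain ⟨i, rfl⟩ := mem_powers_iff_mem_zpowers.2 hz
      exact hgen i)
  have hcK : c ∈ K := by
    have := mul_mem hg (hOK hcO)
    rwa [mul_inv_cancel_left] at this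
  have hcC : c ∈ K ⊓ centralizer {y} :=
    mem_inf.2 ⟨hcK, mem_centralizer_singleton_iff.2 (hc y (mem_zpowers y)).symm⟩
  have := mul_mem (mem_sup_left (T := O) hcC) (mem_sup_right (S := K ⊓ centralizer {y}) (inv_mem hcO))
  simpa [mul_assoc] using this

/-- The `p`-layer of `C_K(y)` covers `K` modulo `O_{p'}(K)`. -/
theorem le_pLayerOf_sup {K : Subgroup X} (hK : Cfsg.IsPComponent p K) {y : X} {k : ℕ}
    (hy : y ^ p ^ k = 1)
    (hyK : ∀ x ∈ K, y * x * y⁻¹ * x⁻¹ ∈ ((Cfsg.pPrimeCore p ↥K).map K.subtype : Subgroup X)) :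
    K ≤ Cfsg.pLayerOf p (K ⊓ centralizer {y}) ⊔ (Cfsg.pPrimeCore p ↥K).map K.subtype := by
  have hcover := le_inf_centralizer_sup hy hyK
  set O := (Cfsg.pPrimeCore p ↥K).map K.subtype
  set C := K ⊓ centralizer ({y} : Set X)
  have hQ := CfsgLib.PComp.isQuasisimple_quotient p hK
  set g : C →* ↥K ⧸ Cfsg.pPrimeCore p ↥K :=
    (QuotientGroup.mk' _).comp (inclusion (inf_le_left : C ≤ K)) with hg
  have hgsurj : Function.Surjective g := by
    intro q
    obtain ⟨x, rfl⟩ := QuotientGroup.mk'_surjective _ q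
    have hn : C ≤ normalizer (O : Set X) := by
      intro w hw
      refine mem_normalizer_iff_map_conj_eq.2 (eq_of_le_of_card_ge ?_ ?_)
      · rintro _ ⟨_, ⟨z, hz, rfl⟩, rfl⟩
        exact ⟨_, (CfsgLib.Solvable.pPrimeCore_spec (G := K) p).1.conj_mem z hz ⟨w, hw.1⟩, rfl⟩
      · exact (card_map_of_injective (MulAut.conj w).injective).ge
    obtain ⟨c, hc, o, ho, he⟩ := (CfsgLib.Solvable.mem_sup_of_le_normalizer hn).1 (hcover x.2)
    refine ⟨⟨c, hc⟩, ?_⟩
    obtain ⟨o', ho', rfl⟩ := ho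
    show QuotientGroup.mk' _ (inclusion _ ⟨c, hc⟩) = QuotientGroup.mk' _ x
    have : x = inclusion (inf_le_left : C ≤ K) ⟨c, hc⟩ * o' := Subtype.ext he.symm
    rw [this, map_mul, show QuotientGroup.mk' _ o' = 1 from (QuotientGroup.eq_one_iff _).2 ho',
      mul_one]
  have hker : g.ker = Cfsg.pPrimeCore p ↥C := by
    refine le_antisymm (CfsgLib.Solvable.le_pPrimeCore p g.normal_ker ?_) ?_
    · refine (CfsgLib.Solvable.coprime_card_pPrimeCore (G := K) p).coprime_dvd_left ?_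
      rw [← card_map_of_injective (f := inclusion (inf_le_left : C ≤ K)) (inclusion_injective _)]
      refine card_dvd_of_le ?_
      rintro _ ⟨w, hw, rfl⟩
      exact (QuotientGroup.eq_one_iff _).1 hw
    · rw [← Subgroup.map_eq_bot_iff]
      refine le_bot_iff.1 ?_
      rw [← CfsgLib.Fitting.pPrimeCore_quotient_eq_bot (G := K) p]
      exact CfsgLib.Solvable.le_pPrimeCore p
        ((CfsgLib.Solvable.pPrimeCore_spec p).1.map g hgsurj)
        ((CfsgLib.Solvable.coprime_card_pPrimeCore p).coprime_dvd_left (card_map_dvd _ _))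
  have hQC : Cfsg.IsQuasisimple (↥C ⧸ Cfsg.pPrimeCore p ↥C) :=
    CfsgLib.Comp.isQuasisimple_of_equiv ((QuotientGroup.quotientMulEquivOfEq hker.symm).trans
      (QuotientGroup.quotientKerEquivOfSurjective g hgsurj)).symm hQ
  have htop : Cfsg.IsComponent (⊤ : Subgroup (↥C ⧸ Cfsg.pPrimeCore p ↥C)) :=
    ⟨IsSubnormal.top, CfsgLib.Comp.isQuasisimple_of_equiv topEquiv.symm hQC⟩
  have hC : C ≤ Cfsg.pLayerOf p C ⊔ O := by
    intro c hc
    have h1 : QuotientGroup.mk' (Cfsg.pPrimeCore p ↥C) ⟨c, hc⟩ ∈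
        (Cfsg.pLayer p ↥C).map (QuotientGroup.mk' (Cfsg.pPrimeCore p ↥C)) := by
      rw [CfsgLib.PComp.map_pLayer]
      exact CfsgLib.Comp.component_le_layer htop (mem_top _)
    obtain ⟨l, hl, hle⟩ := h1
    have h2 : l⁻¹ * ⟨c, hc⟩ ∈ g.ker := by
      rw [hker]; exact QuotientGroup.eq.1 hle
    have h3 : (l : X)⁻¹ * c ∈ O := ⟨_, (QuotientGroup.eq_one_iff _).1 h2, rfl⟩
    have := mul_mem (mem_sup_left (T := O) (show (l : X) ∈ Cfsg.pLayerOf p C from ⟨l, hl, rfl⟩))
      (mem_sup_right h3)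
    simpa using this
  exact hcover.trans (sup_le hC le_sup_right)

end CfsgLib.LayerCover
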