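import Cfsg.Agent.KGroup.BGCField
import Mathlib.RingTheory.Norm.Transitivity

/-!
# Pairs of elements of norm one with sum two
-/

set_option autoImplicit false

namespace CfsgLib.BGC

open Polynomial

variable {p : ℕ} [Fact p.Prime] {F : Type*} [Field F] [Fintype F] [Algebra (ZMod p) F]

/-- Monic cubics with value `-1` at `0` and `1` at `2`. -/
noncomputable def pairCubic (b : ZMod p) : (ZMod p)[X] := X ^ 3 + C b * X ^ 2 - C (3 + 2 * b) * X - 1

theorem norm_root_pairCubic (hF : Module.finrank (ZMod p) F = 3) {b : ZMod p} (hb : Irreducible (pairCubic b))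
    {r : F} (hr : aeval r (pairCubic b) = 0) : Algebra.norm (ZMod p) r = 1 := by
  have hmon : (pairCubic b).Monic := by unfold pairCubic; monicity!
  have hdeg : (pairCubic b).natDegree = 3 := by unfold pairCubic; compute_degree!
  have hmin := minpoly.eq_of_irreducible_of_monic hb hr hmon
  have hint : IsIntegral (ZMod p) r := ⟨pairCubic b, hmon, hr⟩
  have hfr : Module.finrank (ZMod p) (IntermediateField.adjoin (ZMod p) ({r} : Set F)) = 3 := by
    rw [IntermediateField.adjoin.finrank hint, ← hmin, hdeg]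
  have htop : Module.finrank (IntermediateField.adjoin (ZMod p) ({r} : Set F)) F = 1 := by
    have := Module.finrank_mul_finrank (ZMod p) (IntermediateField.adjoin (ZMod p) ({r} : Set F)) F
    rw [hfr, hF] at this
    omega
  rw [Algebra.norm_eq_norm_adjoin, htop, pow_one, ← IntermediateField.adjoin.powerBasis_gen hint,
    Algebra.PowerBasis.norm_gen_eq_coeff_zero_minpoly, IntermediateField.adjoin.powerBasis_gen,
    IntermediateField.minpoly_gen, IntermediateField.adjoin.powerBasis_dim, ← hmin, hdeg]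
  simp [pairCubic, coeff_X_pow]
  norm_num

theorem exists_pair_three (hp2 : p ≠ 2) (hQ : Fintype.card F = p ^ 3) :
    ∃ a : F, a ≠ 1 ∧ Algebra.norm (ZMod p) a = 1 ∧ Algebra.norm (ZMod p) (2 - a) = 1 := by
  classical
  have hp := (Fact.out : p.Prime)
  have hF : Module.finrank (ZMod p) F = 3 := by
    have h := Module.card_eq_pow_finrank (K := ZMod p) (V := F)
    rw [hQ, ZMod.card] at h
    exact (Nat.pow_right_injective hp.two_le h).symm
  have h2 : (2 : ZMod p) ≠ 0 := by
    intro h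
    rw [show (2 : ZMod p) = ((2 : ℕ) : ZMod p) by norm_num, ZMod.natCast_eq_zero_iff] at h
    exact hp2 ((Nat.prime_dvd_prime_iff_eq hp Nat.prime_two).1 h)
  obtain ⟨b, hb⟩ : ∃ b : ZMod p, ∀ x : ZMod p, x ≠ 0 → x ≠ 2 → b * (x ^ 2 - 2 * x) ≠ -(x ^ 3) + 3 * x + 1 := by
    by_contra! h
    choose g hg0 hg2 hg using h
    have hinj : Function.Injective g := by
      intro b c he
      have hh : b * (g b ^ 2 - 2 * g b) = c * (g b ^ 2 - 2 * g b) := by rw [hg b, he, hg c]
      refine mul_right_cancel₀ ?_ hh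
      rw [show g b ^ 2 - 2 * g b = g b * (g b - 2) by ring]
      exact mul_ne_zero (hg0 b) (sub_ne_zero.2 (hg2 b))
    obtain ⟨x, hx⟩ := (Finite.injective_iff_surjective.1 hinj) 0
    exact hg0 x hx
  have hirr : ∀ c : ZMod p, (∀ x, (pairCubic c).eval x ≠ 0) → Irreducible (pairCubic c) := by
    intro c hc
    have hmon : (pairCubic c).Monic := by unfold pairCubic; monicity!
    have hdeg : (pairCubic c).natDegree = 3 := by unfold pairCubic; compute_degree!
    rw [hmon.irreducible_iff_roots_eq_zero_of_degree_le_three (by omega) (by omega)]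
    exact Multiset.eq_zero_of_forall_notMem fun x hx => hc x ((mem_roots hmon.ne_zero).1 hx)
  have hnr : ∀ x, (pairCubic b).eval x ≠ 0 := by
    intro x hx
    simp [pairCubic] at hx
    by_cases h0 : x = 0
    · subst h0; simp at hx
    by_cases h2' : x = 2
    · subst h2'
      exact one_ne_zero (α := ZMod p) (by linear_combination hx)
    exact hb x h0 h2' (by linear_combination hx)
  have hb' := hirr b hnr
  have hnr' : ∀ x, (pairCubic (-(b + 6))).eval x ≠ 0 := by
    intro x hx
    refine hnr (2 - x) ?_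
    simp [pairCubic] at hx ⊢
    linear_combination -hx
  have hmon : (pairCubic b).Monic := by unfold pairCubic; monicity!
  haveI : Fact (Irreducible (pairCubic b)) := ⟨hb'⟩
  haveI : Module.Finite (ZMod p) (AdjoinRoot (pairCubic b)) := hmon.finite_adjoinRoot
  have hK : Module.finrank (ZMod p) (AdjoinRoot (pairCubic b)) = 3 := by
    rw [(AdjoinRoot.powerBasis hmon.ne_zero).finrank, AdjoinRoot.powerBasis_dim]
    unfold pairCubic; compute_degree!
  obtain ⟨φ⟩ := FiniteField.nonempty_algHom_of_finrank_dvd (F := ZMod p)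
    (K := AdjoinRoot (pairCubic b)) (L := F) (by rw [hF, hK])
  have hr : aeval (φ (AdjoinRoot.root (pairCubic b))) (pairCubic b) = 0 := by
    rw [aeval_algHom_apply, AdjoinRoot.aeval_eq, AdjoinRoot.mk_self, map_zero]
  generalize φ (AdjoinRoot.root (pairCubic b)) = r at hr
  refine ⟨r, ?_, norm_root_pairCubic hF hb' hr, norm_root_pairCubic hF (hirr _ hnr') ?_⟩
  · rintro rfl
    refine hnr 1 ((algebraMap (ZMod p) F).injective ?_)
    rw [map_zero, ← aeval_algebraMap_apply_eq_algebraMap_eval, map_one, hr]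
  · simp [pairCubic, map_ofNat] at hr ⊢
    linear_combination -hr

/-- At least two elements `a` with `a` and `2 - a` of norm one. -/
theorem two_le_ncard_pair {q : ℕ} (hp2 : p ≠ 2) (hq : q.Prime) (hq2 : q ≠ 2) (hQ : Fintype.card F = p ^ q) :
    2 ≤ Set.ncard {a : F | Algebra.norm (ZMod p) a = 1 ∧ Algebra.norm (ZMod p) (2 - a) = 1} := by
  classical
  have hp := (Fact.out : p.Prime)
  by_cases hq3 : q = 3
  · subst hq3
    obtain ⟨a, ha1, ha, ha'⟩ := exists_pair_three hp2 hQ
    rw [show (2 : ℕ) = Set.ncard ({1, a} : Set F) by rw [Set.ncard_pair (Ne.symm ha1)]]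
    refine Set.ncard_le_ncard ?_ (Set.toFinite _)
    intro x hx
    rcases hx with rfl | rfl
    · exact ⟨map_one _, by rw [show (2 : F) - 1 = 1 by norm_num, map_one]⟩
    · exact ⟨ha, ha'⟩
  have hq5 : 5 ≤ q := by
    have h4 : q ≠ 4 := fun h => by rw [h] at hq; norm_num at hq
    have := hq.two_le
    omega
  set n := (p ^ q - 1) / (p - 1)
  have hdvd : p - 1 ∣ p ^ q - 1 := Nat.sub_one_dvd_pow_sub_one p q
  have hn : n * (p - 1) + 1 = p ^ q := by
    rw [Nat.div_mul_cancel hdvd, Nat.sub_add_cancel (Nat.one_le_pow _ _ hp.pos)]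
  obtain ⟨ψ, hψ⟩ : ∃ ψ : AddChar F ℂ, ψ.IsPrimitive :=
    ⟨_, AddChar.FiniteField.primitiveChar_to_Complex_isPrimitive F⟩
  have hge := solSet_card_ge (p := p) (q := q) (n := n) hn hQ hψ hq.ne_zero (one_ne_zero (α := F))
    one_ne_zero (c := 2) (by
      intro h
      haveI : CharP F p := charP_of_injective_algebraMap (algebraMap (ZMod p) F).injective p
      rw [show (2 : F) = ((2 : ℕ) : F) by norm_num, CharP.cast_eq_zero_iff F p] at h
      exact hp2 ((Nat.prime_dvd_prime_iff_eq hp Nat.prime_two).1 h))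
  have hnorm : ∀ x : F, Algebra.norm (ZMod p) x = 1 ↔ x ^ n = 1 := by
    intro x
    rw [← (algebraMap (ZMod p) F).injective.eq_iff, map_one, FiniteField.algebraMap_norm_eq_pow,
      Nat.card_eq_fintype_card, Nat.card_eq_fintype_card, hQ, ZMod.card]
  have hinj : (solSet F n (1 : F) 1 2).card ≤
      Set.ncard {a : F | Algebra.norm (ZMod p) a = 1 ∧ Algebra.norm (ZMod p) (2 - a) = 1} := by
    rw [← Set.ncard_coe_finset]
    refine Set.ncard_le_ncard_of_injOn Prod.fst ?_ ?_ (Set.toFinite _)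
    · intro w hw
      simp only [solSet, Finset.coe_filter, Finset.mem_product, mem_normOne, one_mul, Set.mem_setOf_eq] at hw
      obtain ⟨⟨h1, h2⟩, h3⟩ := hw
      refine ⟨(hnorm _).2 h1, (hnorm _).2 ?_⟩
      rw [← h3, add_sub_cancel_left]
      exact h2
    · intro w hw v hv he
      simp only [solSet, Finset.coe_filter, one_mul, Set.mem_setOf_eq] at hw hv
      exact Prod.ext he (add_left_cancel (a := w.1) (hw.2.trans (by rw [he]; exact hv.2.symm)))
  refine le_trans ?_ hinj
  by_contra! hlt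
  set k := (solSet F n (1 : F) 1 2).card
  have hk : (k : ℝ) ≤ 1 := by exact_mod_cast Nat.lt_succ_iff.1 hlt
  set Q : ℝ := (Fintype.card F : ℝ) with hQdef
  have hQ0 : 0 ≤ Q := Nat.cast_nonneg _
  have hS : 0 ≤ Real.sqrt Q := Real.sqrt_nonneg _
  have hS2 : Real.sqrt Q ^ 2 = Q := Real.sq_sqrt hQ0
  have hnlow : p ^ (q - 1) ≤ n := by
    rw [n_eq hn]
    exact Finset.single_le_sum (f := fun i => p ^ i) (fun i _ => Nat.zero_le _) (Finset.mem_range.2 (by omega))
  set x : ℝ := (p : ℝ) ^ (q - 2) with hx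
  have hx1 : (p : ℝ) ^ (q - 1) ≤ (n : ℝ) := by exact_mod_cast hnlow
  have hQx : Q = (p : ℝ) ^ 2 * x := by
    rw [hQdef, hQ, hx, ← pow_add, Nat.add_sub_cancel' (by omega)]
    push_cast; ring
  have hpow : ((p : ℝ) ^ (q - 1)) ^ 2 = Q * x := by
    rw [hQx, hx, ← pow_mul, ← pow_add, ← pow_add]
    congr 1; omega
  have hp3 : (3 : ℝ) ≤ p := by
    have := hp.two_le
    exact_mod_cast (show 3 ≤ p by omega)
  have hx3 : 3 * (p : ℝ) ^ 2 ≤ x := by
    calc 3 * (p : ℝ) ^ 2 ≤ p * (p : ℝ) ^ 2 := by gcongr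
      _ = (p : ℝ) ^ 3 := by ring
      _ ≤ x := pow_le_pow_right₀ (by linarith) (by omega)
  have hQpos : 0 < Q := by rw [hQdef]; exact_mod_cast Fintype.card_pos
  have h1 : Q * x ≤ Q * (1 + Real.sqrt Q) := by
    have : ((p : ℝ) ^ (q - 1)) ^ 2 ≤ (n : ℝ) ^ 2 := pow_le_pow_left₀ (by positivity) hx1 2
    have := mul_le_of_le_one_right hQ0 hk
    nlinarith
  have h2 : x - 1 ≤ Real.sqrt Q := by linarith [le_of_mul_le_mul_left h1 hQpos]
  have hx0 : (27 : ℝ) ≤ x := by nlinarith
  have h4 := mul_self_le_mul_self (by linarith : (0 : ℝ) ≤ x - 1) h2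
  have h5 := mul_le_mul_of_nonneg_left hx3 (by linarith : (0 : ℝ) ≤ x)
  have h6 : (27 : ℝ) * x ≤ x * x := mul_le_mul_of_nonneg_right hx0 (by linarith)
  nlinarith

end CfsgLib.BGC
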