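import Cfsg.Agent.KGroup.Symplectic

/-!
An involution `z` whose `Q = F*(C(z))` is of symplectic type with exponent four: conjugates of `z`
inside `Q`.
-/

set_option autoImplicit false
set_option linter.style.haveILetI false
set_option linter.unusedSectionVars false

namespace CfsgLib.Symp

open Subgroup

variable {G : Type*} [Group G]

/-- The data carried by `Q = F*(C(z))`. -/
structure Data (z : G) (Q : Subgroup G) : Prop where
  ne_one : z ≠ 1
  sq : z * z = 1
  mem : z ∈ Q
  le_cent : ∀ x ∈ Q, x * z = z * x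
  normal : ∀ c : G, c * z = z * c → ∀ x ∈ Q, c * x * c⁻¹ ∈ Q
  comm : ∀ x ∈ Q, ∀ y ∈ Q, x * y * x⁻¹ * y⁻¹ = 1 ∨ x * y * x⁻¹ * y⁻¹ = z
  square : ∀ x ∈ Q, x * x = 1 ∨ x * x = z
  center_invol : ∀ x ∈ Q, x * x = 1 → (∀ y ∈ Q, x * y = y * x) → x = 1 ∨ x = z
  self_cent : ∀ c : G, c * z = z * c → (∀ y ∈ Q, c * y = y * c) → c ∈ Q

theorem Data.conj {z : G} {Q : Subgroup G} (h : Data z Q) (g : G) :
    Data (g * z * g⁻¹) (Q.map (MulAut.conj g).toMonoidHom) := by
  have hback : ∀ c : G, c * (g * z * g⁻¹) = (g * z * g⁻¹) * c →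
      (g⁻¹ * c * g) * z = z * (g⁻¹ * c * g) := fun c hc => by
    calc (g⁻¹ * c * g) * z = g⁻¹ * (c * (g * z * g⁻¹)) * g := by group
      _ = g⁻¹ * ((g * z * g⁻¹) * c) * g := by rw [hc]
      _ = z * (g⁻¹ * c * g) := by group
  refine ⟨fun e => h.ne_one (conj_eq_one_iff.1 e), ?_, ⟨z, h.mem, rfl⟩, ?_, ?_, ?_, ?_, ?_, ?_⟩
  · calc g * z * g⁻¹ * (g * z * g⁻¹) = g * (z * z) * g⁻¹ := by group
      _ = 1 := by rw [h.sq, mul_one, mul_inv_cancel]
  · rintro _ ⟨x, hx, rfl⟩
    simp only [MulEquiv.coe_toMonoidHom, MulAut.conj_apply]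
    calc g * x * g⁻¹ * (g * z * g⁻¹) = g * (x * z) * g⁻¹ := by group
      _ = g * (z * x) * g⁻¹ := by rw [h.le_cent x hx]
      _ = _ := by group
  · rintro c hc _ ⟨x, hx, rfl⟩
    exact ⟨_, h.normal _ (hback c hc) x hx, by simp [mul_assoc]⟩
  · rintro _ ⟨x, hx, rfl⟩ _ ⟨y, hy, rfl⟩
    simp only [MulEquiv.coe_toMonoidHom, MulAut.conj_apply]
    have e : g * x * g⁻¹ * (g * y * g⁻¹) * (g * x * g⁻¹)⁻¹ * (g * y * g⁻¹)⁻¹
        = g * (x * y * x⁻¹ * y⁻¹) * g⁻¹ := by group
    rcases h.comm x hx y hy with h' | h' <;> rw [e, h'] <;> simp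
  · rintro _ ⟨x, hx, rfl⟩
    simp only [MulEquiv.coe_toMonoidHom, MulAut.conj_apply]
    have e : g * x * g⁻¹ * (g * x * g⁻¹) = g * (x * x) * g⁻¹ := by group
    rcases h.square x hx with h' | h' <;> rw [e, h'] <;> simp
  · rintro _ ⟨x, hx, rfl⟩ h2 hc
    simp only [MulEquiv.coe_toMonoidHom, MulAut.conj_apply] at h2 hc ⊢
    rcases h.center_invol x hx (by
        calc x * x = g⁻¹ * (g * x * g⁻¹ * (g * x * g⁻¹)) * g := by group
          _ = 1 := by rw [h2, mul_one, inv_mul_cancel])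
        (fun y hy => by
          have := hc (g * y * g⁻¹) ⟨y, hy, rfl⟩
          calc x * y = g⁻¹ * (g * x * g⁻¹ * (g * y * g⁻¹)) * g := by group
            _ = g⁻¹ * (g * y * g⁻¹ * (g * x * g⁻¹)) * g := by rw [this]
            _ = y * x := by group) with h' | h' <;> rw [h'] <;> simp
  · intro c hc hy
    refine ⟨g⁻¹ * c * g, h.self_cent _ (hback c hc) fun y hy' => ?_, by simp [mul_assoc]⟩
    have := hy (g * y * g⁻¹) ⟨y, hy', rfl⟩
    calc g⁻¹ * c * g * y = g⁻¹ * (c * (g * y * g⁻¹)) * g := by group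
      _ = g⁻¹ * (g * y * g⁻¹ * c) * g := by rw [this]
      _ = y * (g⁻¹ * c * g) := by group

variable {z : G} {Q : Subgroup G}

theorem Data.conj_eq (h : Data z Q) {x y : G} (hx : x ∈ Q) (hy : y ∈ Q) :
    x * y * x⁻¹ = y ∨ x * y * x⁻¹ = z * y := by
  rcases h.comm x hx y hy with e | e
  · exact Or.inl (mul_inv_eq_one.1 e)
  · exact Or.inr (mul_inv_eq_iff_eq_mul.1 e)

theorem Data.exists_swap (h : Data z Q) {y : G} (hy : y ∈ Q) (hy2 : y * y = 1) (hy1 : y ≠ 1)
    (hyz : y ≠ z) : ∃ q ∈ Q, q * y * q⁻¹ = z * y := by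
  by_contra hno
  push Not at hno
  refine (h.center_invol y hy hy2 fun q hq => ?_).elim hy1 hyz
  exact (mul_inv_eq_iff_eq_mul.1 ((h.conj_eq hq hy).resolve_right (hno q hq))).symm

theorem Data.map_conj_eq (h : Data z Q) {a b : G} (hab : a * z * a⁻¹ = b * z * b⁻¹) :
    Q.map (MulAut.conj a).toMonoidHom = Q.map (MulAut.conj b).toMonoidHom := by
  suffices ∀ a b : G, a * z * a⁻¹ = b * z * b⁻¹ →
      Q.map (MulAut.conj a).toMonoidHom ≤ Q.map (MulAut.conj b).toMonoidHom from
    le_antisymm (this a b hab) (this b a hab.symm)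
  rintro a b hab _ ⟨x, hx, rfl⟩
  refine ⟨(b⁻¹ * a) * x * (b⁻¹ * a)⁻¹, h.normal _ ?_ x hx, by simp [mul_assoc]⟩
  calc b⁻¹ * a * z = b⁻¹ * (a * z * a⁻¹) * a := by group
    _ = b⁻¹ * (b * z * b⁻¹) * a := by rw [hab]
    _ = z * (b⁻¹ * a) := by group

/-- If an element of the other group moves `z` to `z * z'`, then `z` lies in that group. -/
theorem Data.mem_of_move (h : Data z Q) {g z' : G} (hg : g * z * g⁻¹ = z') (hz'Q : z' ∈ Q)
    (hne : z' ≠ z) {x : G} (hxz' : x * z' * x⁻¹ = z') (hx : x * z * x⁻¹ = z * z') :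
    z ∈ Q.map (MulAut.conj g).toMonoidHom := by
  have hz'2 : z' * z' = 1 := by
    rw [← hg, show g * z * g⁻¹ * (g * z * g⁻¹) = g * (z * z) * g⁻¹ by group, h.sq, mul_one,
      mul_inv_cancel]
  have hz'1 : z' ≠ 1 := fun e => h.ne_one (conj_eq_one_iff.1 (hg.trans e))
  obtain ⟨q, hq, hqz'⟩ := h.exists_swap hz'Q hz'2 hz'1 hne
  have hqz : q * z * q⁻¹ = z := by rw [h.le_cent q hq, mul_inv_cancel_right]
  have h1 : (q * x) * z * (q * x)⁻¹ = z' := by
    calc (q * x) * z * (q * x)⁻¹ = q * (x * z * x⁻¹) * q⁻¹ := by group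
      _ = (q * z * q⁻¹) * (q * z' * q⁻¹) := by rw [hx]; group
      _ = z' := by rw [hqz, hqz', ← mul_assoc, h.sq, one_mul]
  have h2 : z * z' ∈ Q.map (MulAut.conj g).toMonoidHom := by
    rw [h.map_conj_eq (hg.trans h1.symm)]
    refine ⟨z', hz'Q, ?_⟩
    simp only [MulEquiv.coe_toMonoidHom, MulAut.conj_apply]
    calc q * x * z' * (q * x)⁻¹ = q * (x * z' * x⁻¹) * q⁻¹ := by group
      _ = z * z' := by rw [hxz', hqz']
  have h3 : z' ∈ Q.map (MulAut.conj g).toMonoidHom := ⟨z, h.mem, hg⟩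
  have := mul_mem h2 (inv_mem h3)
  simpa using this

section

variable [Finite G] {g : G}

/-- The main step: a conjugate of `z` inside `Q` has `z` inside its own group. -/
theorem Data.mem_map_conj (h : Data z Q) (hne : g * z * g⁻¹ ≠ z) (hin : g * z * g⁻¹ ∈ Q) :
    z ∈ Q.map (MulAut.conj g).toMonoidHom := by
  obtain ⟨z', hz'⟩ : ∃ z', z' = g * z * g⁻¹ := ⟨_, rfl⟩
  have h' := h.conj g
  rw [← hz'] at hne hin h'
  obtain ⟨Q', hQ'⟩ : ∃ Q', Q' = Q.map (MulAut.conj g).toMonoidHom := ⟨_, rfl⟩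
  rw [← hQ'] at h' ⊢
  by_contra hzQ'
  have hzz' : z * z' = z' * z := (h.le_cent z' hin).symm
  have hzi : z⁻¹ = z := inv_eq_of_mul_eq_one_right h.sq
  have hzc : z * z' = z' * z := hzz'
  -- the map `f`
  obtain ⟨f, hf⟩ : ∃ f : G → G, ∀ x, f x = z * x * z⁻¹ * x⁻¹ := ⟨_, fun _ => rfl⟩
  have hfQ : ∀ x ∈ Q', f x ∈ Q' := fun x hx => by
    rw [hf]; exact mul_mem (h'.normal z hzc x hx) (inv_mem hx)
  have hfinv : ∀ x, z * f x * z⁻¹ = (f x)⁻¹ := fun x => by
    rw [hf, hzi]
    calc z * (z * x * z * x⁻¹) * z = (z * z) * (x * z⁻¹ * x⁻¹ * z) := by rw [hzi]; group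
      _ = (z * x * z * x⁻¹)⁻¹ := by rw [h.sq]; simp [hzi, mul_assoc]
  -- modulo `z'`, only fixed elements are fixed
  have hP : ∀ x ∈ Q', f x = 1 ∨ f x = z' → z * x = x * z := by
    intro x hx hcase
    rw [hf] at hcase
    rcases hcase with e | e
    · exact mul_inv_eq_iff_eq_mul.1 (mul_inv_eq_one.1 e)
    exfalso
    apply hzQ'
    rw [hQ']
    have hxz : x * z' * x⁻¹ = z' := by rw [h'.le_cent x hx, mul_inv_cancel_right]
    refine h.mem_of_move hz'.symm hin hne hxz ?_
    have h1 : z * x * z⁻¹ = z' * x := mul_inv_eq_iff_eq_mul.1 e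
    calc x * z * x⁻¹ = z'⁻¹ * (z' * x) * z * x⁻¹ := by group
      _ = z'⁻¹ * (z * x * z⁻¹) * z * x⁻¹ := by rw [h1]
      _ = z'⁻¹ * z := by group
      _ = z * z' := by rw [inv_eq_of_mul_eq_one_right h'.sq, hzz']
  have hz'c : ∀ v, (v = 1 ∨ v = z') → ∀ y ∈ Q', v * y = y * v := by
    rintro v (rfl | rfl) y hy
    · simp
    · exact (h'.le_cent y hy).symm
  -- the form is invariant
  have hinv : ∀ a ∈ Q', ∀ b ∈ Q',
      (z * a * z⁻¹) * (z * b * z⁻¹) * (z * a * z⁻¹)⁻¹ * (z * b * z⁻¹)⁻¹ = a * b * a⁻¹ * b⁻¹ := by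
    intro a ha b hb
    have e : (z * a * z⁻¹) * (z * b * z⁻¹) * (z * a * z⁻¹)⁻¹ * (z * b * z⁻¹)⁻¹
        = z * (a * b * a⁻¹ * b⁻¹) * z⁻¹ := by group
    rw [e]
    rcases h'.comm a ha b hb with e' | e' <;> rw [e']
    · simp
    · rw [hzz', mul_inv_cancel_right]
  -- commutator values are involutions
  have hff : ∀ x ∈ Q', z * f x = f x * z ∧ f x * f x = 1 := by
    intro x hx
    have hmem : f (f x) = 1 ∨ f (f x) = z' := by
      have : f (f x) = (f x * f x)⁻¹ := by
        rw [hf (f x), hfinv, mul_inv_rev]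
      rw [this]
      rcases h'.square _ (hfQ x hx) with e | e <;> rw [e]
      · exact Or.inl inv_one
      · exact Or.inr (inv_eq_of_mul_eq_one_right h'.sq)
    have hcm := hP _ (hfQ x hx) hmem
    refine ⟨hcm, ?_⟩
    have h1 := hfinv x
    rw [hcm, mul_inv_cancel_right] at h1
    calc f x * f x = f x * (f x)⁻¹ := by rw [← h1]
      _ = 1 := mul_inv_cancel _
  -- anything commuting with all fixed points is fixed
  have hCP : ∀ u ∈ Q', (∀ w ∈ Q', z * w = w * z → u * w = w * u) → z * u = u * z := by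
    intro u hu hcomm
    obtain ⟨v, hv⟩ : ∃ v, v = u⁻¹ * (z * u * z⁻¹) := ⟨_, rfl⟩
    have hvc : ∀ x ∈ Q', v * x = x * v := by
      intro x hx
      have hfx := hfQ x hx
      have h2 : u * f x = f x * u := hcomm _ hfx (hff x hx).1
      have h5 : u * (z * x * z⁻¹) * u⁻¹ * (z * x * z⁻¹)⁻¹ = u * x * u⁻¹ * x⁻¹ := by
        have h4 : z * x * z⁻¹ = f x * x := by rw [hf]; group
        rw [h4]
        calc u * (f x * x) * u⁻¹ * (f x * x)⁻¹ = (u * f x) * x * u⁻¹ * x⁻¹ * (f x)⁻¹ := by group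
          _ = f x * (u * x * u⁻¹ * x⁻¹) * (f x)⁻¹ := by rw [h2]; group
          _ = u * x * u⁻¹ * x⁻¹ := by
              rw [← hz'c _ (h'.comm u hu x hx) (f x) hfx, mul_inv_cancel_right]
      have h7 := (hinv u hu _ (h'.normal z hzc x hx)).trans h5
      have hxx : z * (z * x * z⁻¹) * z⁻¹ = x := by
        calc z * (z * x * z⁻¹) * z⁻¹ = (z * z) * x * (z * z)⁻¹ := by group
          _ = x := by rw [h.sq]; simp
      rw [hxx] at h7
      have h8 : (z * u * z⁻¹) * x * (z * u * z⁻¹)⁻¹ = u * x * u⁻¹ := mul_right_cancel h7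
      rw [hv]
      calc u⁻¹ * (z * u * z⁻¹) * x
          = u⁻¹ * ((z * u * z⁻¹) * x * (z * u * z⁻¹)⁻¹) * (z * u * z⁻¹) := by group
        _ = x * (u⁻¹ * (z * u * z⁻¹)) := by rw [h8]; group
    have hfu : f u = v := by
      calc f u = u * v * u⁻¹ := by rw [hf, hv]; group
        _ = v := by rw [← hvc u hu, mul_inv_cancel_right]
    exact hP u hu (h'.center_invol _ (hfQ u hu) (hff u hu).2 (hfu ▸ hvc))
  have hz'1 : z' ≠ 1 := h'.ne_one
  have hz'2 : z' * z' = 1 := h'.sq
  obtain ⟨q, hq, hqz'⟩ := h.exists_swap hin hz'2 hz'1 hne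
  have hQ₀ : ∀ y ∈ Q, y * z' = z' * y ∨ (q⁻¹ * y) * z' = z' * (q⁻¹ * y) := by
    intro y hy
    rcases h.conj_eq hy hin with e | e
    · exact Or.inl (mul_inv_eq_iff_eq_mul.1 e)
    · refine Or.inr (mul_inv_eq_iff_eq_mul.1 ?_)
      calc q⁻¹ * y * z' * (q⁻¹ * y)⁻¹ = q⁻¹ * (y * z' * y⁻¹) * q := by group
        _ = q⁻¹ * (q * z' * q⁻¹) * q := by rw [e, hqz']
        _ = z' := by group
  -- elements centralizing the centralizer of `z'`
  have hfour : ∀ e ∈ Q, e * e = 1 → e * z' = z' * e →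
      (∀ b ∈ Q, b * z' = z' * b → e * b = b * e) → e = 1 ∨ e = z ∨ e = z' ∨ e = z * z' := by
    intro e he he2 hez' hcomm
    have hall : ∀ w ∈ Q, w * w = 1 → (∀ b ∈ Q, b * z' = z' * b → w * b = b * w) →
        w * q = q * w → w = 1 ∨ w = z := by
      intro w hw hw2 hwc hwq
      refine h.center_invol w hw hw2 fun y hy => ?_
      rcases hQ₀ y hy with c | c
      · exact hwc y hy c
      · calc w * y = (w * q) * (q⁻¹ * y) := by group
          _ = q * (w * (q⁻¹ * y)) := by rw [hwq, mul_assoc]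
          _ = y * w := by rw [hwc _ (mul_mem (inv_mem hq) hy) c]; group
    rcases h.conj_eq hq he with c | c
    · rcases hall e he he2 hcomm (mul_inv_eq_iff_eq_mul.1 c).symm with d | d
      · exact Or.inl d
      · exact Or.inr (Or.inl d)
    · have h1 : q * (e * z') * q⁻¹ = e * z' := by
        calc q * (e * z') * q⁻¹ = (q * e * q⁻¹) * (q * z' * q⁻¹) := by group
          _ = z * (e * z) * z' := by rw [c, hqz']; group
          _ = e * z' := by rw [h.le_cent e he, ← mul_assoc z, h.sq, one_mul]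
      rcases hall (e * z') (mul_mem he hin) (by
          calc e * z' * (e * z') = e * (z' * e) * z' := by group
            _ = (e * e) * (z' * z') := by rw [← hez']; group
            _ = 1 := by rw [he2, hz'2, one_mul])
        (fun b hb hbz' => by
          calc e * z' * b = e * (b * z') := by rw [mul_assoc, hbz']
            _ = b * (e * z') := by rw [← mul_assoc, hcomm b hb hbz', mul_assoc])
        (mul_inv_eq_iff_eq_mul.1 h1).symm with d | d
      · refine Or.inr (Or.inr (Or.inl ?_))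
        calc e = e * z' * z' := by rw [mul_assoc, hz'2, mul_one]
          _ = z' := by rw [d, one_mul]
      · refine Or.inr (Or.inr (Or.inr ?_))
        calc e = e * z' * z' := by rw [mul_assoc, hz'2, mul_one]
          _ = z * z' := by rw [d]
  have hz'Q' : z' ∈ Q' := h'.mem
  -- the intersection of the two groups
  have hE : ∀ e ∈ Q, e ∈ Q' → e = 1 ∨ e = z' := by
    intro e he he'
    have he2 : e * e = 1 := (h.square e he).resolve_right fun d => hzQ' (d ▸ mul_mem he' he')
    have hc : ∀ b ∈ Q, b * z' = z' * b → e * b = b * e := by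
      intro b hb hbz'
      refine mul_inv_eq_iff_eq_mul.1 (mul_inv_eq_one.1 ((h.comm e he b hb).resolve_right fun d => hzQ' ?_))
      rw [← d]
      have : b * e⁻¹ * b⁻¹ ∈ Q' := h'.normal b hbz' _ (inv_mem he')
      simpa [mul_assoc] using mul_mem he' this
    rcases hfour e he he2 (h'.le_cent e he') hc with d | d | d | d
    · exact Or.inl d
    · exact absurd (d ▸ he') hzQ'
    · exact Or.inr d
    · exact absurd (by simpa [d] using mul_mem he' (inv_mem hz'Q')) hzQ'
  have hfixall : ∀ x ∈ Q', z * x = x * z := by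
    by_cases hsq : ∃ a ∈ Q, a * z' = z' * a ∧ a * a = z
    · obtain ⟨a, ha, haz', haa⟩ := hsq
      have hfixP : ∀ w ∈ Q', z * w = w * z → a * w * a⁻¹ * w⁻¹ = 1 ∨ a * w * a⁻¹ * w⁻¹ = z' := by
        intro w hw hzw
        refine hE _ ?_ (mul_mem (h'.normal a haz' w hw) (inv_mem hw))
        have : w * a⁻¹ * w⁻¹ ∈ Q := h.normal w hzw.symm _ (inv_mem ha)
        simpa [mul_assoc] using mul_mem ha this
      intro x hx
      obtain ⟨u, hu⟩ : ∃ u, u = x⁻¹ * (a * x * a⁻¹) := ⟨_, rfl⟩
      have huQ : u ∈ Q' := hu ▸ mul_mem (inv_mem hx) (h'.normal a haz' x hx)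
      have huP : z * u = u * z := by
        refine hCP u huQ fun w hw hzw => ?_
        have hεc := hz'c _ (hfixP w hw hzw)
        have haxa : a * x * a⁻¹ ∈ Q' := h'.normal a haz' x hx
        have h1 : (a * x * a⁻¹) * w * (a * x * a⁻¹)⁻¹ * w⁻¹ = x * w * x⁻¹ * w⁻¹ := by
          calc (a * x * a⁻¹) * w * (a * x * a⁻¹)⁻¹ * w⁻¹
              = (a * x * a⁻¹) * ((a * w * a⁻¹ * w⁻¹)⁻¹ * (a * w * a⁻¹)) * (a * x * a⁻¹)⁻¹ * w⁻¹ := by group
            _ = ((a * w * a⁻¹ * w⁻¹)⁻¹ * (a * x * a⁻¹)) * (a * w * a⁻¹) * (a * x * a⁻¹)⁻¹ * w⁻¹ := by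
                rw [← mul_assoc (a * x * a⁻¹), ← ((show Commute (a * w * a⁻¹ * w⁻¹) (a * x * a⁻¹) from hεc _ haxa).inv_left).eq]
            _ = (a * w * a⁻¹ * w⁻¹)⁻¹ * ((a * x * a⁻¹) * (a * w * a⁻¹) * (a * x * a⁻¹)⁻¹ * (a * w * a⁻¹)⁻¹) * (a * w * a⁻¹ * w⁻¹) := by group
            _ = (a * x * a⁻¹) * (a * w * a⁻¹) * (a * x * a⁻¹)⁻¹ * (a * w * a⁻¹)⁻¹ := by
                have hy : a * w * a⁻¹ ∈ Q' := h'.normal a haz' w hw
                rw [mul_assoc, ← hεc _ (mul_mem (mul_mem (mul_mem haxa hy) (inv_mem haxa)) (inv_mem hy)),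
                  inv_mul_cancel_left]
            _ = a * (x * w * x⁻¹ * w⁻¹) * a⁻¹ := by group
            _ = x * w * x⁻¹ * w⁻¹ := by
                rcases h'.comm x hx w hw with e | e <;> rw [e]
                · simp
                · rw [haz', mul_inv_cancel_right]
        have h2 : (a * x * a⁻¹) * w * (a * x * a⁻¹)⁻¹ = x * w * x⁻¹ := mul_right_cancel h1
        rw [hu]
        calc x⁻¹ * (a * x * a⁻¹) * w
            = x⁻¹ * ((a * x * a⁻¹) * w * (a * x * a⁻¹)⁻¹) * (a * x * a⁻¹) := by group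
          _ = w * (x⁻¹ * (a * x * a⁻¹)) := by rw [h2]; group
      refine hP x hx ?_
      obtain ⟨ε, hε⟩ : ∃ ε, ε = a * u * a⁻¹ * u⁻¹ := ⟨_, rfl⟩
      have hε' : ε = 1 ∨ ε = z' := hε ▸ hfixP u huQ huP
      have h3 : z * x * z⁻¹ = (ε * (u * u)) * x := by
        have huu := hz'c _ (h'.square u huQ)
        calc z * x * z⁻¹ = a * (a * x * a⁻¹) * a⁻¹ := by rw [← haa]; group
          _ = (a * x * a⁻¹) * (a * u * a⁻¹) := by rw [hu]; group
          _ = (x * u) * (ε * u) := by rw [hε, hu]; group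
          _ = x * (ε * (u * u)) := by
              rw [mul_assoc x, ← mul_assoc u ε, ← hz'c ε hε' u huQ, mul_assoc ε]
          _ = (ε * (u * u)) * x := by
              rw [← mul_assoc x, ← hz'c ε hε' x hx, mul_assoc, ← huu x hx, ← mul_assoc]
      have h4 : f x = ε * (u * u) := by rw [hf, h3, mul_inv_cancel_right]
      rw [h4]
      rcases hε' with e | e <;> rcases h'.square u huQ with d | d <;> rw [e, d] <;> simp [hz'2]
    · push Not at hsq
      -- `Q` has order at most eight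
      have hone : ∀ a ∈ Q, a * z' = z' * a → a * a = 1 := fun a ha haz' =>
        (h.square a ha).resolve_right (hsq a ha haz')
      have hsmall : ∀ a ∈ Q, a * z' = z' * a → a = 1 ∨ a = z ∨ a = z' ∨ a = z * z' := by
        intro a ha haz'
        refine hfour a ha (hone a ha haz') haz' fun b hb hbz' => ?_
        have hab : (a * b) * (a * b) = 1 := hone _ (mul_mem ha hb) (by
          rw [mul_assoc, hbz', ← mul_assoc, haz', mul_assoc])
        calc a * b = (a * b)⁻¹ := (inv_eq_of_mul_eq_one_right hab).symm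
          _ = b⁻¹ * a⁻¹ := mul_inv_rev a b
          _ = b * a := by
              rw [inv_eq_of_mul_eq_one_right (hone a ha haz'),
                inv_eq_of_mul_eq_one_right (hone b hb hbz')]
      have hcard : Nat.card Q' ≤ 8 := by
        rw [hQ', card_map_of_injective (f := (MulAut.conj g).toMonoidHom) (MulAut.conj g).injective]
        classical
        let S : Finset G := {1, z, z', z * z', q, q * z, q * z', q * (z * z')}
        have hsub : (Q : Set G) ⊆ (S : Set G) := by
          intro y hy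
          rcases hQ₀ y hy with c | c
          · rcases hsmall y hy c with d | d | d | d <;> simp [S, d]
          · have hy' : y = q * (q⁻¹ * y) := (mul_inv_cancel_left q y).symm
            rcases hsmall _ (mul_mem (inv_mem hq) hy) c with d | d | d | d <;>
              (rw [hy', d]; simp [S])
        calc Nat.card Q = (Q : Set G).ncard := Nat.card_coe_set_eq _
          _ ≤ (S : Set G).ncard := Set.ncard_le_ncard hsub S.finite_toSet
          _ = S.card := Set.ncard_coe_finset S
          _ ≤ 8 := by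
              simp only [S]
              repeat (refine (Finset.card_insert_le _ _).trans (Nat.succ_le_succ ?_))
              simp
      intro x hx
      by_contra hxP
      have hh1 : f x ≠ 1 := fun e => hxP (hP x hx (Or.inl e))
      have hhz : f x ≠ z' := fun e => hxP (hP x hx (Or.inr e))
      obtain ⟨hhfix, hh2⟩ := hff x hx
      have hhQ := hfQ x hx
      have hxh : x * f x = f x * x := by
        have h1 : z * x * z⁻¹ = f x * x := by rw [hf]; group
        have h2 : z * (x * x) * z⁻¹ = x * x := by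
          rcases h'.square x hx with e | e <;> rw [e]
          · simp
          · rw [hzz', mul_inv_cancel_right]
        have h3 : f x * x * (f x * x) = x * x := by
          rw [← h1, ← h2]; group
        calc x * f x = (f x * f x) * (x * f x) * (x * x⁻¹) := by rw [hh2]; simp
          _ = f x * (f x * x * (f x * x)) * x⁻¹ := by group
          _ = f x * x := by rw [h3]; group
      set K := Q' ⊓ centralizer ({f x} : Set G) with hK
      have hmemK : ∀ y ∈ Q', y * f x = f x * y → y ∈ K := fun y hy e =>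
        mem_inf.2 ⟨hy, mem_centralizer_singleton_iff.2 e⟩
      have hz'h : z' * f x = f x * z' := (h'.le_cent _ hhQ).symm
      have hK5 : 5 ≤ Nat.card K := by
        classical
        let T : Finset G := {1, z', f x, f x * z', x}
        have hsub : (T : Set G) ⊆ (K : Set G) := by
          intro y hy
          simp only [T, Finset.coe_insert, Finset.coe_singleton, Set.mem_insert_iff,
            Set.mem_singleton_iff] at hy
          rcases hy with rfl | rfl | rfl | rfl | rfl
          · exact one_mem _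
          · exact hmemK _ hz'Q' hz'h
          · exact hmemK _ hhQ rfl
          · exact mul_mem (hmemK _ hhQ rfl) (hmemK _ hz'Q' hz'h)
          · exact hmemK _ hx hxh
        have hnotfix : ∀ w, z * w = w * z → w ≠ x := fun w hw e => hxP (e ▸ hw)
        have hT : T.card = 5 := by
          simp only [T]
          rw [Finset.card_insert_of_notMem, Finset.card_insert_of_notMem,
            Finset.card_insert_of_notMem, Finset.card_insert_of_notMem, Finset.card_singleton]
          · simpa using hnotfix _ ((show Commute z (f x) from hhfix).mul_right hzc)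
          · simp [hnotfix _ hhfix, hz'1]
          · simp [hnotfix _ hzc, Ne.symm hhz, hh1]
          · have h6 : (1 : G) ≠ x := hnotfix 1 (by simp)
            simp only [Finset.mem_insert, Finset.mem_singleton, not_or]
            refine ⟨Ne.symm hz'1, Ne.symm hh1, fun e => hhz ?_, h6⟩
            calc f x = f x * z' * z' := by rw [mul_assoc, hz'2, mul_one]
              _ = z' := by rw [← e, one_mul]
        calc 5 = (T : Set G).ncard := by rw [Set.ncard_coe_finset, hT]
          _ ≤ (K : Set G).ncard := Set.ncard_le_ncard hsub (Set.toFinite _)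
          _ = Nat.card K := (Nat.card_coe_set_eq _).symm
      have hKle : K ≤ Q' := inf_le_left
      obtain ⟨c, hc⟩ := card_dvd_of_le hKle
      have hKeq : K = Q' := by
        refine eq_of_le_of_card_ge hKle ?_
        rcases Nat.lt_or_ge c 2 with hc2 | hc2
        · interval_cases c
          · simp only [Nat.mul_zero] at hc
            exact absurd hc Nat.card_pos.ne'
          · rw [hc, mul_one]
        · have : Nat.card K * 2 ≤ Nat.card Q' := hc ▸ Nat.mul_le_mul_left _ hc2
          omega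
      rcases h'.center_invol _ hhQ hh2 (fun y hy =>
        (mem_centralizer_singleton_iff.1 (hKeq.symm ▸ hy : y ∈ K).2).symm) with e | e
      · exact hh1 e
      · exact hhz e
  exact hzQ' (h'.self_cent z hzc hfixall)

/-- The group generated by `Q` and its conjugate induces every automorphism of the four-group. -/
theorem Data.exists_map (h : Data z Q) (hne : g * z * g⁻¹ ≠ z) (hin : g * z * g⁻¹ ∈ Q)
    {u v : G} (hu : u ∈ closure ({z, g * z * g⁻¹} : Set G))
    (hv : v ∈ closure ({z, g * z * g⁻¹} : Set G)) (hu1 : u ≠ 1) (hv1 : v ≠ 1) (huv : u ≠ v) :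
    ∃ x ∈ Q ⊔ Q.map (MulAut.conj g).toMonoidHom, x * z * x⁻¹ = u ∧ x * (g * z * g⁻¹) * x⁻¹ = v := by
  have hzQ' := h.mem_map_conj hne hin
  obtain ⟨z', hz'⟩ : ∃ z', z' = g * z * g⁻¹ := ⟨_, rfl⟩
  have h' := h.conj g
  rw [← hz'] at hne hin hu hv h' ⊢
  have hzz' : z' * z = z * z' := h.le_cent z' hin
  have hmem : ∀ w ∈ closure ({z, z'} : Set G), w = 1 ∨ w = z ∨ w = z' ∨ w = z * z' := by
    intro w hw
    induction hw using closure_induction with
    | mem a ha => rcases ha with rfl | rfl <;> simp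
    | one => simp
    | mul a b _ _ iha ihb =>
      have e1 : z * (z * z') = z' := by rw [← mul_assoc, h.sq, one_mul]
      have e2 : z' * (z * z') = z := by rw [← hzz', ← mul_assoc, h'.sq, one_mul]
      have e3 : z * z' * z = z' := by rw [mul_assoc, hzz', e1]
      have e4 : z * z' * z' = z := by rw [mul_assoc, h'.sq, mul_one]
      have e5 : z * z' * (z * z') = 1 := by rw [← mul_assoc, e3, h'.sq]
      rcases iha with rfl | rfl | rfl | rfl <;> rcases ihb with rfl | rfl | rfl | rfl <;>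
        simp [h.sq, h'.sq, hzz', e1, e2, e3, e4, e5]
    | inv a _ iha =>
      have hi : z⁻¹ = z := inv_eq_of_mul_eq_one_right h.sq
      have hi' : z'⁻¹ = z' := inv_eq_of_mul_eq_one_right h'.sq
      rcases iha with rfl | rfl | rfl | rfl <;> simp [hi, hi', hzz']
  obtain ⟨q, hq, hqz'⟩ := h.exists_swap hin h'.sq h'.ne_one hne
  obtain ⟨r, hr, hrz⟩ := h'.exists_swap hzQ' h.sq h.ne_one (Ne.symm hne)
  rw [hzz'] at hrz
  have hqz : q * z * q⁻¹ = z := by rw [h.le_cent q hq, mul_inv_cancel_right]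
  have hrz' : r * z' * r⁻¹ = z' := by rw [h'.le_cent r hr, mul_inv_cancel_right]
  have hq' : q ∈ Q ⊔ Q.map (MulAut.conj g).toMonoidHom := mem_sup_left hq
  have hr' : r ∈ Q ⊔ Q.map (MulAut.conj g).toMonoidHom := mem_sup_right hr
  -- the effect of products on `z` and `z'`
  have hact : ∀ x y a b : G, y * a * y⁻¹ = b → (x * y) * a * (x * y)⁻¹ = x * b * x⁻¹ :=
    fun x y a b e => by rw [← e]; group
  have hqzz : q * (z * z') * q⁻¹ = z' := by
    calc q * (z * z') * q⁻¹ = (q * z * q⁻¹) * (q * z' * q⁻¹) := by group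
      _ = z' := by rw [hqz, hqz', ← mul_assoc, h.sq, one_mul]
  have hrzz : r * (z * z') * r⁻¹ = z := by
    calc r * (z * z') * r⁻¹ = (r * z * r⁻¹) * (r * z' * r⁻¹) := by group
      _ = z := by rw [hrz, hrz', mul_assoc, h'.sq, mul_one]
  rcases hmem u hu with rfl | rfl | rfl | rfl
  · exact absurd rfl hu1
  · rcases hmem v hv with rfl | rfl | rfl | rfl
    · exact absurd rfl hv1
    · exact absurd rfl huv
    · exact ⟨1, one_mem _, by simp, by simp⟩
    · exact ⟨q, hq', hqz, hqz'⟩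
  · rcases hmem v hv with rfl | rfl | rfl | rfl
    · exact absurd rfl hv1
    · refine ⟨q * (r * q), mul_mem hq' (mul_mem hr' hq'), ?_, ?_⟩
      · rw [hact q _ _ _ (hact r q _ _ hqz), hrz, hqzz]
      · rw [hact q _ _ _ (hact r q _ _ hqz'), hrzz, hqz]
    · exact absurd rfl huv
    · refine ⟨q * r, mul_mem hq' hr', ?_, ?_⟩
      · rw [hact q r _ _ hrz, hqzz]
      · rw [hact q r _ _ hrz', hqz']
  · rcases hmem v hv with rfl | rfl | rfl | rfl
    · exact absurd rfl hv1
    · refine ⟨r * q, mul_mem hr' hq', ?_, ?_⟩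
      · rw [hact r q _ _ hqz, hrz]
      · rw [hact r q _ _ hqz', hrzz]
    · exact ⟨r, hr', hrz, hrz'⟩
    · exact absurd rfl huv

end

end CfsgLib.Symp
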