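import Cfsg.Agent.KGroup.CharP

/-!
Elementary lemmas on trivial intersection subgroups of prime power order.
-/

set_option autoImplicit false
set_option linter.style.haveILetI false
set_option linter.unusedSectionVars false

namespace CfsgLib.TI

open Subgroup

variable {G : Type*} [Group G]

theorem conj_map_mem {H : Subgroup G} {g x : G} :
    x ∈ H.map (MulAut.conj g).toMonoidHom ↔ g⁻¹ * x * g ∈ H := by
  constructor
  · rintro ⟨h, hh, rfl⟩
    simpa [mul_assoc] using hh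
  · intro h
    exact ⟨g⁻¹ * x * g, h, by simp [mul_assoc]⟩

theorem map_conj_eq_of_mem_normalizer {H : Subgroup G} {g : G} (hg : g ∈ normalizer (H : Set G)) :
    H.map (MulAut.conj g).toMonoidHom = H :=
  mem_normalizer_iff_map_conj_eq.1 hg

theorem mem_normalizer_of_map_conj_eq {H : Subgroup G} {g : G}
    (hg : H.map (MulAut.conj g).toMonoidHom = H) : g ∈ normalizer (H : Set G) :=
  mem_normalizer_iff_map_conj_eq.2 hg

/-- Elements of subgroups normalizing each other and meeting trivially commute. -/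
theorem commute_of_normalize_of_inf {A B : Subgroup G} (hd : A ⊓ B = ⊥) {a b : G} (ha : a ∈ A)
    (hb : b ∈ B) (ha' : a ∈ normalizer (B : Set G)) (hb' : b ∈ normalizer (A : Set G)) :
    a * b = b * a := by
  have h1 : a * b * a⁻¹ * b⁻¹ ∈ A ⊓ B := by
    refine mem_inf.2 ⟨?_, mul_mem ((mem_normalizer_iff.1 ha' b).1 hb) (inv_mem hb)⟩
    have := mul_mem ha ((mem_normalizer_iff.1 hb' _).1 (inv_mem ha))
    simpa [mul_assoc] using this
  rw [hd, mem_bot] at h1
  calc a * b = a * b * a⁻¹ * b⁻¹ * (b * a) := by group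
    _ = b * a := by rw [h1, one_mul]

theorem commutator_eq_bot_of_normalize {A B : Subgroup G} (hd : A ⊓ B = ⊥)
    (hA : A ≤ normalizer (B : Set G)) (hB : B ≤ normalizer (A : Set G)) : ⁅A, B⁆ = ⊥ := by
  rw [commutator_eq_bot_iff_le_centralizer]
  exact fun a ha => mem_centralizer_iff.2 fun b hb =>
    (commute_of_normalize_of_inf hd ha hb (hA ha) (hB hb)).symm

/-- If `B` normalizes `A`, meets it trivially, is not smaller than `A`, and any two conjugates of
`B` under `A` are equal or meet trivially, then `A` and `B` commute elementwise. -/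
theorem commutator_eq_bot_of_ti [Finite G] {p : ℕ} [Fact p.Prime] {A B : Subgroup G}
    (hA : IsPGroup p A) (hB : IsPGroup p B)
    (hBti : ∀ a ∈ A, B.map (MulAut.conj a).toMonoidHom = B ∨
      B.map (MulAut.conj a).toMonoidHom ⊓ B = ⊥)
    (hle : Nat.card A ≤ Nat.card B) (hd : A ⊓ B = ⊥) (hN : B ≤ normalizer (A : Set G)) :
    ⁅A, B⁆ = ⊥ := by
  by_cases hAN : A ≤ normalizer (B : Set G)
  · exact commutator_eq_bot_of_normalize hd hAN hN
  exfalso
  set N₀ := A ⊓ normalizer (B : Set G) with hN₀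
  have hN₀lt : N₀ < A := lt_of_le_of_ne inf_le_left fun h => hAN (h ▸ inf_le_right)
  have hBN₀ : B ≤ normalizer (N₀ : Set G) := by
    intro b hb
    refine centralizer_le_normalizer _ ?_
    rw [mem_centralizer_iff]
    exact fun x hx => commute_of_normalize_of_inf hd hx.1 hb hx.2 (hN hb)
  set N := B ⊔ N₀ with hNdef
  have hNB : N ≤ normalizer (B : Set G) := sup_le le_normalizer inf_le_right
  have hNlt : N < B ⊔ A := by
    refine lt_of_le_of_ne (sup_le_sup_left inf_le_left B) fun h => hAN ?_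
    exact le_sup_right.trans (h ▸ hNB)
  obtain ⟨x, hx, hxN, hxn⟩ :=
    CharP.exists_mem_normalizer_notMem (hB.to_sup_of_normal_right' hA hN) hNlt
  obtain ⟨b, hb, a, ha, rfl⟩ := (CfsgLib.Solvable.mem_sup_of_le_normalizer hN).1 hx
  have haB : a ∉ normalizer (B : Set G) :=
    fun h => hxN (mul_mem (mem_sup_left hb) (mem_sup_right ⟨ha, h⟩))
  have han : a ∈ normalizer (N : Set G) := by
    have := mul_mem (inv_mem (le_normalizer (mem_sup_left (S := B) (T := N₀) hb))) hxn
    simpa using this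
  set B' := B.map (MulAut.conj a).toMonoidHom with hB'
  have hB'N : B' ≤ N := by
    intro y hy
    rw [conj_map_mem] at hy
    have := (mem_normalizer_iff.1 han _).1 (mem_sup_left (S := B) (T := N₀) hy)
    simpa [mul_assoc] using this
  have hdis : B' ⊓ B = ⊥ :=
    (hBti a ha).resolve_left fun h => haB (mem_normalizer_of_map_conj_eq h)
  have h1 : Nat.card ↥(B' ⊔ B) = Nat.card B * Nat.card B := by
    rw [CfsgLib.Solvable.card_sup_of_disjoint (hB'N.trans hNB) hdis, hB',
      Subgroup.card_map_of_injective (f := (MulAut.conj a).toMonoidHom) (MulAut.conj a).injective]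
  have h2 : Nat.card ↥(B' ⊔ B) ≤ Nat.card N :=
    Subgroup.card_le_of_le (sup_le hB'N le_sup_left)
  have h3 : Nat.card N ≤ Nat.card B * Nat.card N₀ :=
    Nat.le_of_dvd (Nat.mul_pos Nat.card_pos Nat.card_pos) (CfsgLib.Solvable.card_sup_dvd hBN₀)
  have h4 : Nat.card B ≤ Nat.card N₀ :=
    Nat.le_of_mul_le_mul_left (h1 ▸ h2.trans h3) Nat.card_pos
  have h5 := CfsgLib.Solvable.card_lt_of_lt hN₀lt
  omega

/-- A `2`-power automorphism of an abelian 2-subgroup fixing only the fixed points of its square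
acts trivially. -/
theorem fixes_of_fixes_sq [Finite G] {B : Subgroup G} (hB : IsPGroup 2 B)
    (hcomm : ∀ a ∈ B, ∀ b ∈ B, a * b = b * a) (φ : MulAut G) (hφB : ∀ b ∈ B, φ b ∈ B)
    (hφ : IsPGroup 2 (zpowers φ)) (hfix : ∀ b ∈ B, φ (φ b) = b → φ b = b) :
    ∀ b ∈ B, φ b = b := by
  haveI : Fact (Nat.Prime 2) := ⟨Nat.prime_two⟩
  set f : G → G := fun b => b⁻¹ * φ b with hf
  have hfB : ∀ b ∈ B, f b ∈ B := fun b hb => mul_mem (inv_mem hb) (hφB b hb)
  have hfmul : ∀ a ∈ B, ∀ b ∈ B, f (a * b) = f a * f b := by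
    intro a ha b hb
    calc f (a * b) = b⁻¹ * f a * φ b := by simp only [hf, map_mul]; group
      _ = f a * b⁻¹ * φ b := by rw [hcomm _ (inv_mem hb) _ (hfB a ha)]
      _ = f a * f b := by simp only [hf]; group
  let I : Subgroup G :=
    { carrier := f '' (B : Set G)
      one_mem' := ⟨1, one_mem _, by simp [hf]⟩
      mul_mem' := by
        rintro _ _ ⟨z, hz, rfl⟩ ⟨w, hw, rfl⟩
        exact ⟨z * w, mul_mem hz hw, hfmul z hz w hw⟩
      inv_mem' := by
        rintro _ ⟨z, hz, rfl⟩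
        refine ⟨z⁻¹, inv_mem hz, eq_inv_of_mul_eq_one_left ?_⟩
        rw [← hfmul _ (inv_mem hz) _ hz, inv_mul_cancel]
        simp [hf] }
  have hφI : ∀ i ∈ I, φ i ∈ I := by
    rintro _ ⟨z, hz, rfl⟩
    exact ⟨φ z, hφB z hz, by simp [hf, map_mul]⟩
  by_contra hne
  push_neg at hne
  obtain ⟨b₀, hb₀, hb₀'⟩ := hne
  have hI : I ≠ ⊥ := by
    intro h
    apply hb₀'
    have : f b₀ ∈ I := ⟨b₀, hb₀, rfl⟩
    rw [h, mem_bot, hf] at this
    exact (inv_mul_eq_one.1 this).symm
  have hImem : ∀ n : ℤ, ∀ i ∈ I, (φ ^ n) i ∈ I := by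
    have hnat : ∀ n : ℕ, ∀ i ∈ I, (φ ^ n) i ∈ I := by
      intro n
      induction n with
      | zero => simp
      | succ n ih =>
        intro i hi
        rw [pow_succ', MulAut.mul_apply]
        exact hφI _ (ih i hi)
    intro n i hi
    obtain ⟨k, hk⟩ := hφ ⟨φ, mem_zpowers φ⟩
    have hk' : φ ^ (2 ^ k : ℕ) = 1 := by simpa using congrArg Subtype.val hk
    obtain ⟨m, hm⟩ : ∃ m : ℕ, φ ^ n = φ ^ m :=
      ⟨(n % (2 ^ k : ℕ)).toNat, by
        rw [← zpow_natCast, Int.toNat_of_nonneg (Int.emod_nonneg _ (by positivity))]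
        conv_lhs => rw [← Int.emod_add_mul_ediv n (2 ^ k : ℕ)]
        rw [zpow_add, zpow_mul, zpow_natCast, hk', one_zpow, mul_one]⟩
    rw [hm]
    exact hnat m i hi
  letI act : MulAction (zpowers φ) I :=
    { smul := fun q i => ⟨(q : MulAut G) i, by
        obtain ⟨n, hn⟩ := mem_zpowers_iff.1 q.2
        rw [← hn]
        exact hImem n i i.2⟩
      one_smul := fun i => Subtype.ext (show (1 : MulAut G) i = i from rfl)
      mul_smul := fun a b i => Subtype.ext rfl }
  haveI := (nontrivial_iff_ne_bot I).2 hI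
  have hIB : I ≤ B := by
    rintro _ ⟨z, hz, rfl⟩
    exact hfB z hz
  obtain ⟨k, hk, hcard⟩ := (hB.to_le hIB).nontrivial_iff_card.1 inferInstance
  obtain ⟨⟨c, hcI⟩, hc, hc1⟩ := hφ.exists_fixed_point_of_prime_dvd_card_of_fixed_point I
    (hcard ▸ dvd_pow_self 2 hk.ne') (a := (1 : I))
    (fun q => Subtype.ext (show (q : MulAut G) 1 = 1 from map_one _))
  have hcφ : φ c = c := congrArg Subtype.val (hc ⟨φ, mem_zpowers φ⟩)
  have hc1' : c ≠ 1 := fun h => hc1 (Subtype.ext h.symm)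
  obtain ⟨b, hb, rfl⟩ := hcI
  -- descend to a commutator of order two
  have hpow : ∀ m : ℕ, f (b ^ m) = f b ^ m := by
    intro m
    induction m with
    | zero => simp [hf]
    | succ m ih => rw [pow_succ, hfmul _ (pow_mem hb m) _ hb, ih, pow_succ]
  obtain ⟨l, hl⟩ := hB ⟨f b, hfB b hb⟩
  have hl' : f b ^ (2 ^ l) = 1 := by simpa using congrArg Subtype.val hl
  classical
  have hex : ∃ l, f b ^ (2 ^ l) = 1 := ⟨l, hl'⟩
  have hmin := Nat.find_spec hex
  have hpos : Nat.find hex ≠ 0 := by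
    intro h
    rw [h] at hmin
    simp only [pow_zero, pow_one] at hmin
    exact hc1' hmin
  obtain ⟨j, hj⟩ := Nat.exists_eq_succ_of_ne_zero hpos
  have hj1 : f b ^ (2 ^ j) ≠ 1 := Nat.find_min hex (by omega)
  rw [hj, Nat.succ_eq_add_one, pow_succ, pow_mul, sq] at hmin
  have hfixj : φ (f b ^ (2 ^ j)) = f b ^ (2 ^ j) := by rw [map_pow, hcφ]
  set b' := b ^ (2 ^ j) with hb'
  rw [← hpow, ← hb'] at hj1 hmin hfixj
  apply hj1
  have hφb' : φ b' = b' * f b' := by simp [hf]
  have : φ (φ b') = b' := by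
    rw [hφb', map_mul, hfixj, hφb', mul_assoc, hmin, mul_one]
  have h6 := hfix b' (pow_mem hb _) this
  change b'⁻¹ * φ b' = 1
  rw [h6, inv_mul_cancel]

theorem isPGroup_zpowers_map {G' : Type*} [Group G'] {p : ℕ} (f : G →* G') {x : G} {n : ℕ}
    (h : x ^ p ^ n = 1) : IsPGroup p (zpowers (f x)) := by
  rintro ⟨y, hy⟩
  obtain ⟨m, rfl⟩ := mem_zpowers_iff.1 hy
  refine ⟨n, Subtype.ext ?_⟩
  change (f x ^ m) ^ p ^ n = 1
  rw [← zpow_natCast, ← zpow_mul, mul_comm, zpow_mul, zpow_natCast, ← map_pow, h, map_one,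
    one_zpow]

/-- An abelian TI 2-subgroup `A` and a conjugate `B ≠ A`: `N_A(B)` is elementary abelian or `A`
and `B` commute. -/
theorem normalizer_inf_elementary_or_commute [Finite G] {A : Subgroup G} (hA : IsPGroup 2 A)
    (hAc : IsMulCommutative A)
    (hti : ∀ h : G, A.map (MulAut.conj h).toMonoidHom = A ∨
      A.map (MulAut.conj h).toMonoidHom ⊓ A = ⊥)
    {g : G} (hg : A.map (MulAut.conj g).toMonoidHom ≠ A) :
    (∀ x ∈ A ⊓ normalizer (A.map (MulAut.conj g).toMonoidHom : Set G), x ^ 2 = 1) ∨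
      ⁅A, A.map (MulAut.conj g).toMonoidHom⁆ = ⊥ := by
  haveI : Fact (Nat.Prime 2) := ⟨Nat.prime_two⟩
  refine or_iff_not_imp_left.2 fun hne => ?_
  push_neg at hne
  obtain ⟨x, hx, hx2⟩ := hne
  obtain ⟨hxA, hxN⟩ := mem_inf.1 hx
  set B := A.map (MulAut.conj g).toMonoidHom with hB
  have hd : B ⊓ A = ⊥ := (hti g).resolve_left hg
  have hBp : IsPGroup 2 B := hA.map _
  have hAc' : ∀ a ∈ A, ∀ b ∈ A, a * b = b * a := fun a ha b hb =>
    congrArg Subtype.val (hAc.is_comm.comm (⟨a, ha⟩ : A) ⟨b, hb⟩)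
  have hBc : ∀ a ∈ B, ∀ b ∈ B, a * b = b * a := by
    rintro _ ⟨a, ha, rfl⟩ _ ⟨b, hb, rfl⟩
    rw [← map_mul, hAc' a ha b hb, map_mul]
  have hnorm : ∀ b : G, ∀ w ∈ A, w ≠ 1 → b * w * b⁻¹ ∈ A → b ∈ normalizer (A : Set G) := by
    intro b w hw hw1 hbw
    refine mem_normalizer_of_map_conj_eq ((hti b).resolve_right fun h => hw1 ?_)
    have : b * w * b⁻¹ ∈ A.map (MulAut.conj b).toMonoidHom ⊓ A :=
      mem_inf.2 ⟨conj_map_mem.2 (by simpa [mul_assoc] using hw), hbw⟩
    rw [h, mem_bot, conj_eq_one_iff] at this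
    exact this
  obtain ⟨k, hk⟩ := hA ⟨x, hxA⟩
  have hk' : x ^ 2 ^ k = 1 := by simpa using congrArg Subtype.val hk
  have hfixed : ∀ b ∈ B, x * b * x⁻¹ = b := by
    refine fixes_of_fixes_sq hBp hBc (MulAut.conj x) (fun b hb => ?_)
      (isPGroup_zpowers_map MulAut.conj hk') fun b hb hbb => ?_
    · exact (mem_normalizer_iff.1 hxN b).1 hb
    · have hb2 : b * x ^ 2 * b⁻¹ = x ^ 2 := by
        simp only [MulAut.conj_apply] at hbb
        calc b * x ^ 2 * b⁻¹ = x * (x * b * x⁻¹) * x⁻¹ * x ^ 2 * b⁻¹ := by rw [hbb]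
          _ = x ^ 2 := by rw [sq]; group
      have hbA := hnorm b (x ^ 2) (pow_mem hxA 2) hx2 (by rw [hb2]; exact pow_mem hxA 2)
      have := commute_of_normalize_of_inf (inf_comm B A ▸ hd) hxA hb hxN hbA
      simp only [MulAut.conj_apply]
      rw [this, mul_inv_cancel_right]
  have hx1 : x ≠ 1 := fun h => hx2 (by rw [h, one_pow])
  have hBA : B ≤ normalizer (A : Set G) := by
    intro b hb
    refine hnorm b x hxA hx1 ?_
    have : b * x * b⁻¹ = x := by
      calc b * x * b⁻¹ = (x * b * x⁻¹) * x * b⁻¹ := by rw [hfixed b hb]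
        _ = x := by group
    rwa [this]
  refine commutator_eq_bot_of_ti hA hBp (fun a _ => ?_) ?_ (inf_comm B A ▸ hd) hBA
  · rcases hti (g⁻¹ * a * g) with h | h
    · left
      apply mem_normalizer_iff_map_conj_eq.1
      have h' := mem_normalizer_iff.1 (mem_normalizer_of_map_conj_eq h)
      rw [mem_normalizer_iff]
      intro y
      rw [hB, conj_map_mem, conj_map_mem, h' (g⁻¹ * y * g)]
      simp [mul_assoc]
    · right
      rw [eq_bot_iff]
      intro y hy
      obtain ⟨hy1, hy2⟩ := mem_inf.1 hy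
      rw [conj_map_mem, hB, conj_map_mem] at hy1
      rw [hB, conj_map_mem] at hy2
      have : g⁻¹ * y * g ∈ A.map (MulAut.conj (g⁻¹ * a * g)).toMonoidHom ⊓ A :=
        mem_inf.2 ⟨conj_map_mem.2 (by simpa [mul_assoc] using hy1), hy2⟩
      rw [h, mem_bot] at this
      rw [mem_bot]
      calc y = g * (g⁻¹ * y * g) * g⁻¹ := by group
        _ = 1 := by rw [this, mul_one, mul_inv_cancel]
  · rw [hB, Subgroup.card_map_of_injective (f := (MulAut.conj g).toMonoidHom) (MulAut.conj g).injective]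

end CfsgLib.TI
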