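import Cfsg.Prelude.Def_Local
import Cfsg.Prelude.Def_Transfer
import Cfsg.Agent.Comp.Basic
import Cfsg.Agent.Solvable.Basics
import Mathlib.GroupTheory.Nilpotent

/-!
A TI maximal abelian normal subgroup with a conjugate in the radical (Timmesfeld): the class two
structure of `P = C_Q(V)`.
-/

set_option autoImplicit false
set_option linter.style.haveILetI false
set_option linter.unusedSectionVars false

namespace CfsgLib.Timm

open Subgroup
open scoped commutatorElement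

variable {G : Type*} [Group G]

/-! ### Conjugates -/

/-- The conjugate `g U g⁻¹`. -/
abbrev cj (g : G) (U : Subgroup G) : Subgroup G := U.map (MulAut.conj g).toMonoidHom

theorem mem_cj {g : G} {U : Subgroup G} {x : G} : x ∈ cj g U ↔ g⁻¹ * x * g ∈ U := by
  constructor
  · rintro ⟨u, hu, rfl⟩
    simpa [mul_assoc] using hu
  · exact fun h => ⟨_, h, by simp [mul_assoc]⟩

theorem cj_mem {g : G} {U : Subgroup G} {x : G} (hx : x ∈ U) : g * x * g⁻¹ ∈ cj g U :=
  ⟨x, hx, by simp⟩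

theorem cj_cj (a b : G) (U : Subgroup G) : cj a (cj b U) = cj (a * b) U := by
  ext x; simp only [mem_cj, mul_inv_rev, mul_assoc]

theorem cj_one (U : Subgroup G) : cj 1 U = U := by ext x; simp [mem_cj]

theorem card_cj (a : G) (U : Subgroup G) : Nat.card (cj a U) = Nat.card U :=
  card_map_of_injective (MulAut.conj a).injective

theorem cj_eq_self_iff [Finite G] {a : G} {U : Subgroup G} :
    cj a U = U ↔ a ∈ normalizer (U : Set G) := by
  constructor
  · intro h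
    refine mem_normalizer_iff.2 fun x => ⟨fun hx => h ▸ cj_mem hx, fun hx => ?_⟩
    have := mem_cj.1 (h.symm ▸ hx)
    simpa [mul_assoc] using this
  · intro h
    refine eq_of_le_of_card_ge (fun x hx => ?_) (card_cj a U).ge
    have := mem_cj.1 hx
    simpa [mul_assoc] using (mem_normalizer_iff.1 h _).1 this

/-! ### Commutator identities -/

theorem conj_eq_comm_mul (a b : G) : a * b * a⁻¹ = ⁅a, b⁆ * b := by
  simp [commutatorElement_def, mul_assoc]

theorem comm_conj (x a b : G) : x * ⁅a, b⁆ * x⁻¹ = ⁅x * a * x⁻¹, x * b * x⁻¹⁆ := by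
  simp [commutatorElement_def, mul_assoc]

theorem comm_eq_one {a b : G} : ⁅a, b⁆ = 1 ↔ a * b = b * a :=
  commutatorElement_eq_one_iff_mul_comm

/-! ### The set-up -/

/-- `N(V)`. -/
abbrev Nm (V : Subgroup G) : Subgroup G := normalizer (V : Set G)

/-- `O_2(N(V))`. -/
abbrev QQ (V : Subgroup G) : Subgroup G := (Cfsg.pCore 2 ↥(Nm V)).map (Nm V).subtype

/-- `C_{O_2(N(V))}(V)`. -/
abbrev PP (V : Subgroup G) : Subgroup G := QQ V ⊓ centralizer (V : Set G)

/-- The hypotheses on `V`. -/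
structure Setup (V : Subgroup G) : Prop where
  elem : Cfsg.IsElementaryAbelian 2 V
  fit : (Cfsg.generalizedFittingSubgroup ↥(Nm V)).map (Nm V).subtype = QQ V
  maxab : ∀ A : Subgroup G, V ≤ A → A ≤ Nm V → IsMulCommutative A →
    (∀ m ∈ Nm V, ∀ a ∈ A, m * a * m⁻¹ ∈ A) → A = V
  ti : ∀ x : G, cj x V = V ∨ cj x V ⊓ V = ⊥

namespace Setup

variable [Finite G] {V : Subgroup G} (S : Setup V)
include S

theorem comm {a b : G} (ha : a ∈ V) (hb : b ∈ V) : a * b = b * a :=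
  congrArg Subtype.val (S.elem.1.is_comm.comm ⟨a, ha⟩ ⟨b, hb⟩)

theorem sq {a : G} (ha : a ∈ V) : a * a = 1 := by rw [← pow_two]; exact S.elem.2 a ha

theorem inv_eq {a : G} (ha : a ∈ V) : a⁻¹ = a := inv_eq_of_mul_eq_one_right (S.sq ha)

theorem le_normalizer : V ≤ Nm V := Subgroup.le_normalizer

theorem isPGroup_V : IsPGroup 2 V := fun a =>
  ⟨1, Subtype.ext (by rw [pow_one, Subgroup.coe_pow]; exact S.elem.2 _ a.2)⟩

omit S in
theorem mem_QQ {x : G} : x ∈ QQ V ↔ ∃ hx : x ∈ Nm V, (⟨x, hx⟩ : Nm V) ∈ Cfsg.pCore 2 ↥(Nm V) := by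
  constructor
  · rintro ⟨y, hy, rfl⟩; exact ⟨y.2, hy⟩
  · rintro ⟨hx, h⟩; exact ⟨_, h, rfl⟩

omit S in
theorem QQ_le : QQ V ≤ Nm V := map_subtype_le _

omit S in
theorem isPGroup_QQ : IsPGroup 2 (QQ V) :=
  haveI := Fact.mk Nat.prime_two
  (CfsgLib.Solvable.isPGroup_pCore (p := 2)).map _

omit S in
theorem QQ_conj {m q : G} (hm : m ∈ Nm V) (hq : q ∈ QQ V) : m * q * m⁻¹ ∈ QQ V := by
  haveI := Fact.mk Nat.prime_two
  obtain ⟨hq', h⟩ := mem_QQ.1 hq
  exact ⟨_, (CfsgLib.Solvable.pCore_normal (p := 2)).conj_mem _ h ⟨m, hm⟩, rfl⟩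

theorem V_le_QQ : V ≤ QQ V := by
  haveI := Fact.mk Nat.prime_two
  intro v hv
  refine mem_QQ.2 ⟨Subgroup.le_normalizer hv, ?_⟩
  exact CfsgLib.Solvable.le_pCore 2 (N := V.subgroupOf (Nm V))
    ((normal_subgroupOf_iff_le_normalizer Subgroup.le_normalizer).2 le_rfl)
    S.isPGroup_V.comap_subtype (mem_subgroupOf.2 hv)

omit S in
theorem PP_le_QQ : PP V ≤ QQ V := inf_le_left

omit S in
theorem PP_le : PP V ≤ Nm V := inf_le_left.trans QQ_le

omit S in
theorem commute_PP {p v : G} (hp : p ∈ PP V) (hv : v ∈ V) : p * v = v * p :=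
  (mem_centralizer_iff.1 hp.2 v hv).symm

theorem V_le_PP : V ≤ PP V :=
  le_inf S.V_le_QQ fun v hv => mem_centralizer_iff.2 fun w hw => S.comm hw hv

omit S in
theorem V_conj {m v : G} (hm : m ∈ Nm V) (hv : v ∈ V) : m * v * m⁻¹ ∈ V :=
  (mem_normalizer_iff.1 hm v).1 hv

omit S in
theorem PP_conj {m p : G} (hm : m ∈ Nm V) (hp : p ∈ PP V) : m * p * m⁻¹ ∈ PP V := by
  refine ⟨QQ_conj hm hp.1, mem_centralizer_iff.2 fun v hv => ?_⟩
  obtain ⟨w, hw, rfl⟩ : ∃ w ∈ V, m * w * m⁻¹ = v :=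
    ⟨m⁻¹ * v * m⁻¹⁻¹, V_conj (inv_mem hm) hv, by group⟩
  have := commute_PP hp hw
  calc m * w * m⁻¹ * (m * p * m⁻¹) = m * (w * p) * m⁻¹ := by group
    _ = m * (p * w) * m⁻¹ := by rw [this]
    _ = m * p * m⁻¹ * (m * w * m⁻¹) := by group

omit S in
theorem cj_PP_eq {m : G} (hm : m ∈ Nm V) : cj m (PP V) = PP V := by
  refine eq_of_le_of_card_ge (fun x hx => ?_) (card_cj m _).ge
  have := PP_conj hm (mem_cj.1 hx)
  simpa [mul_assoc] using this

omit S in
/-- Conjugates of `PP V` depend only on the conjugate of `V`. -/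
theorem cj_PP_congr {a b : G} (h : cj a V = cj b V) : cj a (PP V) = cj b (PP V) := by
  have h1 : a⁻¹ * b ∈ Nm V := by
    rw [← cj_eq_self_iff, ← cj_cj, ← h, cj_cj, inv_mul_cancel, cj_one]
  rw [show b = a * (a⁻¹ * b) by group, ← cj_cj, cj_PP_eq h1]

theorem cent_QQ {f : G} (hf : f ∈ Nm V) (hc : ∀ q ∈ QQ V, f * q = q * f) : f ∈ QQ V := by
  have hfit : Cfsg.generalizedFittingSubgroup ↥(Nm V) = Cfsg.pCore 2 ↥(Nm V) :=
    map_injective (Nm V).subtype_injective S.fit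
  refine mem_QQ.2 ⟨hf, ?_⟩
  rw [← hfit]
  refine CfsgLib.Comp.centralizer_Fstar_le (mem_centralizer_iff.2 fun q hq => ?_)
  rw [hfit] at hq
  exact Subtype.ext (hc q ⟨q, hq, rfl⟩).symm

/-! ### TI -/

theorem mem_Nm_of_ti {x a : G} (ha : a ∈ V) (ha1 : a ≠ 1) (hxa : x * a * x⁻¹ ∈ V) :
    x ∈ Nm V := by
  rw [← cj_eq_self_iff]
  refine (S.ti x).resolve_right fun h => ?_
  have : x * a * x⁻¹ ∈ cj x V ⊓ V := ⟨cj_mem ha, hxa⟩
  rw [h, mem_bot] at this
  exact ha1 (by simpa using this)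

theorem eq_of_mem {a b w : G} (hw : w ≠ 1) (ha : w ∈ cj a V) (hb : w ∈ cj b V) :
    cj a V = cj b V := by
  have h : a⁻¹ * b ∈ Nm V := by
    refine S.mem_Nm_of_ti (mem_cj.1 hb) (fun e => hw (by rw [show w = b * (b⁻¹ * w * b) * b⁻¹ by group, e]; group)) ?_
    have := mem_cj.1 ha
    simpa [mul_assoc] using this
  rw [show b = a * (a⁻¹ * b) by group, ← cj_cj, cj_eq_self_iff.2 h]

theorem eq_V_of_mem {a w : G} (hw : w ≠ 1) (ha : w ∈ cj a V) (hb : w ∈ V) : cj a V = V := by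
  rw [S.eq_of_mem (b := 1) hw ha (by rwa [cj_one]), cj_one]

theorem cj_sq {a x : G} (hx : x ∈ cj a V) : x * x = 1 := by
  have := S.sq (mem_cj.1 hx)
  calc x * x = a * ((a⁻¹ * x * a) * (a⁻¹ * x * a)) * a⁻¹ := by group
    _ = 1 := by rw [this]; group

theorem cj_comm {a x y : G} (hx : x ∈ cj a V) (hy : y ∈ cj a V) : x * y = y * x := by
  have := S.comm (mem_cj.1 hx) (mem_cj.1 hy)
  calc x * y = a * ((a⁻¹ * x * a) * (a⁻¹ * y * a)) * a⁻¹ := by group
    _ = a * ((a⁻¹ * y * a) * (a⁻¹ * x * a)) * a⁻¹ := by rw [this]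
    _ = y * x := by group

/-- A conjugate of `V` normalising `V` centralises it. -/
theorem conj_commute {a : G} (hU : cj a V ≤ Nm V) (hne : cj a V ≠ V) :
    ∀ u ∈ cj a V, ∀ v ∈ V, u * v = v * u := by
  by_contra hcon
  push Not at hcon
  obtain ⟨u0, hu0, v0, hv0, hne0⟩ := hcon
  have hdisj : ∀ w, w ∈ cj a V → w ∈ V → w = 1 := fun w h1 h2 => by
    by_contra hw; exact hne (S.eq_V_of_mem hw h1 h2)
  have hv1 : v0 ≠ 1 := fun h => hne0 (by rw [h]; simp)
  have hfix : ∀ u ∈ cj a V, u * v0 = v0 * u → u = 1 := by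
    intro u hu hc
    by_contra hu1
    have e : cj (v0 * a) V = cj a V := by
      refine S.eq_of_mem hu1 ?_ hu
      rw [← cj_cj, mem_cj, mul_assoc v0⁻¹, hc, inv_mul_cancel_left]
      exact hu
    have h1 : v0 * u0 * v0⁻¹ ∈ cj a V := by
      rw [← e, ← cj_cj]; exact cj_mem hu0
    have h2 : ⁅v0, u0⁆ ∈ cj a V := by
      rw [commutatorElement_def]; exact mul_mem h1 (inv_mem hu0)
    have h3 : ⁅v0, u0⁆ ∈ V := by
      rw [commutatorElement_def, mul_assoc v0, mul_assoc v0]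
      exact mul_mem hv0 (V_conj (hU hu0) (inv_mem hv0))
    exact hne0 (comm_eq_one.1 (hdisj _ h2 h3)).symm
  let c : cj a V → V := fun u => ⟨u.1 * v0 * u.1⁻¹ * v0, mul_mem (V_conj (hU u.2) hv0) hv0⟩
  have hinj : Function.Injective c := by
    intro u u' h
    have h' := congrArg Subtype.val h
    simp only [c, mul_left_inj] at h'
    have : u'.1⁻¹ * u.1 = 1 := hfix _ (mul_mem (inv_mem u'.2) u.2) (by
      calc u'.1⁻¹ * u.1 * v0 = u'.1⁻¹ * (u.1 * v0 * u.1⁻¹) * u.1 := by group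
        _ = v0 * (u'.1⁻¹ * u.1) := by rw [h']; group)
    exact Subtype.ext (inv_mul_eq_one.1 this).symm
  have hbij := (Nat.bijective_iff_injective_and_card c).2 ⟨hinj, card_cj a V⟩
  obtain ⟨u, hu⟩ := hbij.2 ⟨v0, hv0⟩
  have h4 : u.1 * v0 * u.1⁻¹ * v0 = v0 := congrArg Subtype.val hu
  have h5 : u.1 * v0 * u.1⁻¹ = 1 := mul_eq_right.1 h4
  exact hv1 (by simpa using h5)

/-! ### Class two -/

theorem center_PP {z : G} (hz : z ∈ PP V) (hc : ∀ p ∈ PP V, z * p = p * z) : z ∈ V := by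
  have hA := S.maxab (PP V ⊓ centralizer (PP V : Set G))
    (fun v hv => ⟨S.V_le_PP hv, mem_centralizer_iff.2 fun p hp => commute_PP hp hv⟩)
    (inf_le_left.trans PP_le)
    ⟨⟨fun x y => Subtype.ext (mem_centralizer_iff.1 y.2.2 x x.2.1)⟩⟩
    (fun m hm x hx => ⟨PP_conj hm hx.1, mem_centralizer_iff.2 fun p hp => by
      obtain ⟨q, hq, rfl⟩ : ∃ q ∈ PP V, m * q * m⁻¹ = p :=
        ⟨m⁻¹ * p * m⁻¹⁻¹, PP_conj (inv_mem hm) hp, by group⟩
      have := mem_centralizer_iff.1 hx.2 q hq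
      calc m * q * m⁻¹ * (m * x * m⁻¹) = m * (q * x) * m⁻¹ := by group
        _ = m * (x * q) * m⁻¹ := by rw [this]
        _ = m * x * m⁻¹ * (m * q * m⁻¹) := by group⟩)
  rw [← hA]
  exact ⟨hz, mem_centralizer_iff.2 fun p hp => (hc p hp).symm⟩

theorem comm_mem {p q : G} (hp : p ∈ PP V) (hq : q ∈ PP V) : ⁅p, q⁆ ∈ V := by
  -- the second centre modulo `V`
  let Z : Subgroup G :=
    { carrier := {x | x ∈ PP V ∧ ∀ y ∈ PP V, ⁅x, y⁆ ∈ V}
      one_mem' := ⟨one_mem _, fun y _ => by simp [commutatorElement_one_left]⟩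
      mul_mem' := by
        rintro x y ⟨hx, hx'⟩ ⟨hy, hy'⟩
        refine ⟨mul_mem hx hy, fun z hz => ?_⟩
        rw [commutatorElement_mul_left_eq_conj_mul]
        exact mul_mem (V_conj (PP_le hx) (hy' z hz)) (hx' z hz)
      inv_mem' := by
        rintro x ⟨hx, hx'⟩
        refine ⟨inv_mem hx, fun z hz => ?_⟩
        rw [commutatorElement_inv_left, ← commutatorElement_inv x z]
        have := V_conj (inv_mem (PP_le hx)) (inv_mem (hx' z hz))
        simpa using this }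
  have hZmem : ∀ x, x ∈ Z ↔ x ∈ PP V ∧ ∀ y ∈ PP V, ⁅x, y⁆ ∈ V := fun x => Iff.rfl
  have hVZ : V ≤ Z := fun v hv => ⟨S.V_le_PP hv, fun y hy => by
    rw [comm_eq_one.2 (commute_PP hy hv).symm]; exact one_mem V⟩
  -- `Z` centralises commutators
  have hZc : ∀ x ∈ Z, ⁅PP V, PP V⁆ ≤ centralizer ({x} : Set G) := by
    rintro x ⟨hx, hx'⟩
    refine commutator_le.2 fun a ha b hb => mem_centralizer_singleton_iff.2 ?_
    have hmul : ∀ r ∈ PP V, ∀ s ∈ PP V, ⁅x, r * s⁆ = ⁅x, r⁆ * ⁅x, s⁆ := by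
      intro r hr s hs
      rw [commutatorElement_mul_right_eq_mul_conj, mul_assoc (⁅x, r⁆) r]
      rw [commute_PP hr (hx' s hs)]
      group
    have hinv : ∀ r ∈ PP V, ⁅x, r⁻¹⁆ = (⁅x, r⁆)⁻¹ := fun r hr => by
      refine (inv_eq_of_mul_eq_one_right ?_).symm
      rw [← hmul r hr r⁻¹ (inv_mem hr), mul_inv_cancel, commutatorElement_one_right]
    have h1 : ⁅x, a * b * a⁻¹ * b⁻¹⁆ = 1 := by
      rw [hmul _ (mul_mem (mul_mem ha hb) (inv_mem ha)) _ (inv_mem hb),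
        hmul _ (mul_mem ha hb) _ (inv_mem ha), hmul a ha b hb, hinv a ha, hinv b hb,
        S.comm (hx' a ha) (hx' b hb)]
      group
    rw [commutatorElement_def]
    exact (comm_eq_one.1 h1).symm
  have hcomm_le : ⁅PP V, PP V⁆ ≤ PP V := commutator_le.2 fun a ha b hb => by
    rw [commutatorElement_def]
    exact mul_mem (mul_mem (mul_mem ha hb) (inv_mem ha)) (inv_mem hb)
  have hXinv : ∀ m ∈ Nm V, ∀ x ∈ ⁅PP V, PP V⁆ ⊓ Z, m * x * m⁻¹ ∈ ⁅PP V, PP V⁆ ⊓ Z := by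
    intro m hm x hx
    refine ⟨?_, PP_conj hm hx.2.1, fun y hy => ?_⟩
    · have : cj m ⁅PP V, PP V⁆ = ⁅PP V, PP V⁆ := by
        rw [cj, map_commutator]; exact (congrArg₂ _ (cj_PP_eq hm) (cj_PP_eq hm))
      rw [← this]; exact cj_mem hx.1
    · have h2 := hx.2.2 (m⁻¹ * y * m⁻¹⁻¹) (PP_conj (inv_mem hm) hy)
      have := V_conj hm h2
      rw [comm_conj] at this
      simpa [mul_assoc] using this
  have hA : closure ((V : Set G) ∪ (⁅PP V, PP V⁆ ⊓ Z : Subgroup G)) = V := by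
    refine S.maxab _ (fun v hv => subset_closure (Or.inl hv)) ?_ ?_ ?_
    · rw [closure_le]
      rintro x (hx | hx)
      · exact Subgroup.le_normalizer hx
      · exact PP_le hx.2.1
    · refine isMulCommutative_closure ?_
      rintro x (hx | hx) y (hy | hy)
      · exact S.comm hx hy
      · exact (commute_PP hy.2.1 hx).symm
      · exact commute_PP hx.2.1 hy
      · exact (mem_centralizer_singleton_iff.1 (hZc y hy.2 hx.1))
    · intro m hm x hx
      induction hx using closure_induction with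
      | mem x hx =>
        rcases hx with hx | hx
        · exact subset_closure (Or.inl (V_conj hm hx))
        · exact subset_closure (Or.inr (hXinv m hm x hx))
      | one => simp
      | mul x y _ _ hx hy =>
        rw [show m * (x * y) * m⁻¹ = (m * x * m⁻¹) * (m * y * m⁻¹) by group]
        exact mul_mem hx hy
      | inv x _ hx =>
        rw [show m * x⁻¹ * m⁻¹ = (m * x * m⁻¹)⁻¹ by group]
        exact inv_mem hx
  have hXV : ∀ x ∈ ⁅PP V, PP V⁆, (∀ y ∈ PP V, ⁅x, y⁆ ∈ V) → x ∈ V := fun x hx hx' => by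
    rw [← hA]; exact subset_closure (Or.inr ⟨hx, hcomm_le hx, hx'⟩)
  haveI := Fact.mk Nat.prime_two
  have hnil : Group.IsNilpotent (PP V) := ((isPGroup_QQ (V := V)).to_le inf_le_left).isNilpotent
  obtain ⟨n, hn⟩ := (isNilpotent_iff_lowerCentralSeries (PP V)).1 hnil
  have key : ∀ k, (PP V).lowerCentralSeries (k + 1) ≤ V → (PP V).lowerCentralSeries 1 ≤ V := by
    intro k
    induction k with
    | zero => exact id
    | succ k ih =>
      refine fun h => ih fun x hx => hXV x ?_ fun y hy => h ?_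
      · exact (Subgroup.lowerCentralSeries_antitone (PP V) (Nat.le_add_left 1 k)) hx
      · rw [Subgroup.lowerCentralSeries_succ (PP V) (k + 1)]
        exact commutator_mem_commutator hx hy
  refine key n ?_ (commutator_mem_commutator hp hq)
  exact ((Subgroup.lowerCentralSeries_antitone (PP V) (Nat.le_succ n)).trans hn.le).trans bot_le

/-! ### The bilinear form -/

theorem comm_mul_left {p q r : G} (hp : p ∈ PP V) (hq : q ∈ PP V) (hr : r ∈ PP V) :
    ⁅p * q, r⁆ = ⁅p, r⁆ * ⁅q, r⁆ := by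
  rw [commutatorElement_mul_left_eq_conj_mul, commute_PP hp (S.comm_mem hq hr),
    mul_inv_cancel_right, S.comm (S.comm_mem hp hr) (S.comm_mem hq hr)]

theorem comm_symm {p q : G} (hp : p ∈ PP V) (hq : q ∈ PP V) : ⁅p, q⁆ = ⁅q, p⁆ := by
  rw [← commutatorElement_inv q p, S.inv_eq (S.comm_mem hq hp)]

theorem comm_mul_right {p q r : G} (hp : p ∈ PP V) (hq : q ∈ PP V) (hr : r ∈ PP V) :
    ⁅p, q * r⁆ = ⁅p, q⁆ * ⁅p, r⁆ := by
  rw [S.comm_symm hp (mul_mem hq hr), S.comm_mul_left hq hr hp, S.comm_symm hq hp,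
    S.comm_symm hr hp]

theorem comm_inv_left {p r : G} (hp : p ∈ PP V) (hr : r ∈ PP V) : ⁅p⁻¹, r⁆ = ⁅p, r⁆ := by
  rw [← S.inv_eq (S.comm_mem hp hr)]
  refine (inv_eq_of_mul_eq_one_right ?_).symm
  rw [← S.comm_mul_left hp (inv_mem hp) hr, mul_inv_cancel, commutatorElement_one_left]

theorem comm_inv_right {p r : G} (hp : p ∈ PP V) (hr : r ∈ PP V) : ⁅p, r⁻¹⁆ = ⁅p, r⁆ := by
  rw [S.comm_symm hp (inv_mem hr), S.comm_inv_left hr hp, S.comm_symm hr hp]

theorem sq_mem {p : G} (hp : p ∈ PP V) : p * p ∈ V :=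
  S.center_PP (mul_mem hp hp) fun q hq => comm_eq_one.1 (by
    rw [S.comm_mul_left hp hp hq, S.sq (S.comm_mem hp hq)])

/-! ### The series lemma -/

theorem mem_PP_of {f : G} (hf : f ∈ Nm V) (hfV : ∀ v ∈ V, f * v = v * f)
    (hfP : ∀ p ∈ PP V, ⁅f, p⁆ ∈ V) : f ∈ PP V := by
  haveI := Fact.mk Nat.prime_two
  let T : Subgroup G :=
    { carrier := {x | x ∈ Nm V ∧ (∀ v ∈ V, x * v = v * x) ∧ ∀ p ∈ PP V, ⁅x, p⁆ ∈ V}
      one_mem' := ⟨one_mem _, by simp, fun p _ => by simp [commutatorElement_one_left]⟩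
      mul_mem' := by
        rintro x y ⟨hx, hxV, hxP⟩ ⟨hy, hyV, hyP⟩
        refine ⟨mul_mem hx hy, fun v hv => by rw [mul_assoc, hyV v hv, ← mul_assoc, hxV v hv, mul_assoc],
          fun p hp => ?_⟩
        rw [commutatorElement_mul_left_eq_conj_mul]
        exact mul_mem (V_conj hx (hyP p hp)) (hxP p hp)
      inv_mem' := by
        rintro x ⟨hx, hxV, hxP⟩
        refine ⟨inv_mem hx, fun v hv => ?_, fun p hp => ?_⟩
        · rw [inv_mul_eq_iff_eq_mul, ← mul_assoc, hxV v hv, mul_inv_cancel_right]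
        · rw [commutatorElement_inv_left, ← commutatorElement_inv x p]
          simpa using V_conj (inv_mem hx) (inv_mem (hxP p hp)) }
  have hTmem : ∀ x, x ∈ T ↔ x ∈ Nm V ∧ (∀ v ∈ V, x * v = v * x) ∧ ∀ p ∈ PP V, ⁅x, p⁆ ∈ V :=
    fun x => Iff.rfl
  have hodd : ∀ d ∈ T, Odd (orderOf d) → d = 1 := by
    rintro d ⟨hd, hdV, hdP⟩ hodd
    have fixes : ∀ x c : G, c ∈ V → d * x * d⁻¹ = c * x → c = 1 := by
      intro x c hc e
      have h : ∀ i : ℕ, d ^ i * x * (d ^ i)⁻¹ = c ^ i * x := by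
        intro i
        induction i with
        | zero => simp
        | succ i ih =>
          have hci : c ^ i ∈ V := pow_mem hc i
          rw [pow_succ' d, pow_succ c]
          calc d * d ^ i * x * (d * d ^ i)⁻¹ = d * (d ^ i * x * (d ^ i)⁻¹) * d⁻¹ := by group
            _ = (d * c ^ i) * x * d⁻¹ := by rw [ih]; group
            _ = c ^ i * (d * x * d⁻¹) := by rw [hdV _ hci]; group
            _ = c ^ i * c * x := by rw [e, mul_assoc]
      have hpow : c ^ orderOf d = 1 := by simpa [pow_orderOf_eq_one] using (h (orderOf d)).symm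
      have h2 : c ^ 2 = 1 := by rw [pow_two]; exact S.sq hc
      obtain ⟨k, hk⟩ := hodd
      rw [hk, pow_succ, pow_mul, h2, one_pow, one_mul] at hpow
      exact hpow
    have hdP' : ∀ p ∈ PP V, d * p * d⁻¹ = p := fun p hp => by
      rw [conj_eq_comm_mul, fixes p _ (hdP p hp) (conj_eq_comm_mul d p), one_mul]
    have hdQ : ∀ q ∈ QQ V, d * q = q * d := by
      intro q hq
      refine comm_eq_one.1 ?_
      have hc : ⁅d, q⁆ ∈ QQ V := by
        rw [commutatorElement_def]; exact mul_mem (QQ_conj hd hq) (inv_mem hq)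
      have hcP : ∀ p ∈ PP V, ⁅d, q⁆ * p = p * ⁅d, q⁆ := by
        intro p hp
        have h1 : q⁻¹ * p * q⁻¹⁻¹ ∈ PP V := PP_conj (inv_mem (QQ_le hq)) hp
        have h2 := hdP' _ h1
        have h3 : d⁻¹ * p * d = p := by
          conv_lhs => rw [← hdP' p hp]
          group
        refine mul_inv_eq_iff_eq_mul.1 ?_
        calc ⁅d, q⁆ * p * (⁅d, q⁆)⁻¹
            = d * q * d⁻¹ * (q⁻¹ * p * q⁻¹⁻¹) * d * q⁻¹ * d⁻¹ := by
              rw [commutatorElement_def]; group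
          _ = d * q * (d⁻¹ * (d * (q⁻¹ * p * q⁻¹⁻¹) * d⁻¹) * d) * q⁻¹ * d⁻¹ := by
              rw [h2]; group
          _ = d * p * d⁻¹ := by group
          _ = p := hdP' p hp
      have hcV : ⁅d, q⁆ ∈ V := S.center_PP
        ⟨hc, mem_centralizer_iff.2 fun v hv => (hcP v (S.V_le_PP hv)).symm⟩ hcP
      exact fixes q _ hcV (conj_eq_comm_mul d q)
    have hdmem := S.cent_QQ hd hdQ
    obtain ⟨i, hi⟩ := (isPGroup_QQ (V := V)) ⟨d, hdmem⟩
    have hi' : d ^ 2 ^ i = 1 := congrArg Subtype.val hi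
    obtain ⟨j, -, hj⟩ := (Nat.dvd_prime_pow Nat.prime_two).1 (orderOf_dvd_of_pow_eq_one hi')
    rcases j with _ | j
    · exact orderOf_eq_one_iff.1 hj
    · exfalso
      rw [hj] at hodd
      exact Nat.not_even_iff_odd.2 hodd ⟨2 ^ j, by rw [pow_succ]; ring⟩
  have hTN : T ≤ Nm V := fun x hx => hx.1
  have hTp : IsPGroup 2 T := by
    intro x
    obtain ⟨a, b, hb, hab⟩ := Nat.exists_eq_two_pow_mul_odd (orderOf_pos (x : G)).ne'
    refine ⟨a, Subtype.ext ?_⟩
    rw [Subgroup.coe_pow]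
    refine hodd _ (pow_mem x.2 _) ?_
    rw [orderOf_pow' _ (pow_ne_zero _ two_ne_zero), hab, Nat.gcd_eq_right (dvd_mul_right _ _),
      Nat.mul_div_cancel_left _ (pow_pos two_pos _)]
    exact hb
  have hTn : (T.subgroupOf (Nm V)).Normal := by
    refine ⟨fun x hx m => ?_⟩
    obtain ⟨h1, h2, h3⟩ := (hTmem _).1 (mem_subgroupOf.1 hx)
    refine mem_subgroupOf.2 ((hTmem _).2 ⟨(m * x * m⁻¹).2, fun v hv => ?_, fun p hp => ?_⟩)
    · obtain ⟨w, hw, rfl⟩ : ∃ w ∈ V, (m : G) * w * (m : G)⁻¹ = v :=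
        ⟨(m : G)⁻¹ * v * (m : G)⁻¹⁻¹, V_conj (inv_mem m.2) hv, by group⟩
      push_cast
      calc (m : G) * x * (m : G)⁻¹ * (m * w * (m : G)⁻¹) = m * (x * w) * (m : G)⁻¹ := by group
        _ = m * (w * x) * (m : G)⁻¹ := by rw [h2 w hw]
        _ = _ := by group
    · have := V_conj m.2 (h3 _ (PP_conj (inv_mem m.2) hp))
      rw [comm_conj] at this
      simpa [mul_assoc] using this
  refine ⟨mem_QQ.2 ⟨hf, CfsgLib.Solvable.le_pCore 2 hTn hTp.comap_subtype
    (mem_subgroupOf.2 ((hTmem f).2 ⟨hf, hfV, hfP⟩))⟩, mem_centralizer_iff.2 fun v hv => (hfV v hv).symm⟩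

theorem cent_PP {f : G} (hf : f ∈ Nm V) (hc : ∀ p ∈ PP V, f * p = p * f) : f ∈ V :=
  S.center_PP (S.mem_PP_of hf (fun v hv => hc v (S.V_le_PP hv))
    (fun p hp => by rw [comm_eq_one.2 (hc p hp)]; exact one_mem V)) hc

/-- Conjugates inside `O_2` centralise `V`. -/
theorem le_PP {a : G} (hQ : cj a V ≤ QQ V) (hne : cj a V ≠ V) : cj a V ≤ PP V := fun u hu =>
  ⟨hQ hu, mem_centralizer_iff.2 fun v hv => (S.conj_commute (hQ.trans QQ_le) hne u hu v hv).symm⟩

end Setup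

end CfsgLib.Timm
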