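import Cfsg.Agent.KGroup.TimmPair
import Cfsg.Agent.Solvable.PGroupBasic

/-!
Timmesfeld's TI subgroup: the symmetric facts, the conjugates in `W`, and `P = O_2(M)`.
-/

set_option autoImplicit false
set_option linter.style.haveILetI false
set_option linter.unusedSectionVars false

namespace CfsgLib.Timm

open Subgroup
open scoped commutatorElement

variable {G : Type*} [Group G] [Finite G] {V : Subgroup G} {g : G} {Y : Subgroup G}

theorem Setup.mem_W (S : Setup V) (hP : cj g V ≤ PP V) {x : G} :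
    x ∈ V ⊔ cj g V ↔ ∃ v ∈ V, ∃ w ∈ cj g V, x = v * w := by
  constructor
  · intro hx
    let W0 : Subgroup G :=
      { carrier := {x | ∃ v ∈ V, ∃ w ∈ cj g V, x = v * w}
        one_mem' := ⟨1, one_mem _, 1, one_mem _, (one_mul 1).symm⟩
        mul_mem' := by
          rintro _ _ ⟨v, hv, w, hw, rfl⟩ ⟨v', hv', w', hw', rfl⟩
          refine ⟨v * v', mul_mem hv hv', w * w', mul_mem hw hw', ?_⟩
          calc v * w * (v' * w') = v * (w * v') * w' := by group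
            _ = v * (v' * w) * w' := by rw [Setup.commute_PP (hP hw) hv']
            _ = _ := by group
        inv_mem' := by
          rintro _ ⟨v, hv, w, hw, rfl⟩
          exact ⟨v⁻¹, inv_mem hv, w⁻¹, inv_mem hw, by
            rw [mul_inv_rev, Setup.commute_PP (inv_mem (hP hw)) (inv_mem hv)]⟩ }
    exact (sup_le (fun v hv => ⟨v, hv, 1, one_mem _, (mul_one v).symm⟩)
      (fun w hw => ⟨1, one_mem _, w, hw, (one_mul w).symm⟩) : _ ≤ W0) hx
  · rintro ⟨v, hv, w, hw, rfl⟩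
    exact mul_mem (mem_sup_left hv) (mem_sup_right hw)

theorem Setup.le_normalizer_of_conj {U H : Subgroup G} (h : ∀ a ∈ H, ∀ x ∈ U, a * x * a⁻¹ ∈ U) :
    H ≤ normalizer (U : Set G) := fun a ha =>
  mem_normalizer_iff.2 fun x => ⟨h a ha x, fun hx => by
    have := h _ (inv_mem ha) _ hx
    simpa [mul_assoc] using this⟩

namespace Pair

variable (h : Pair V g Y)
include h

theorem R_mul_right {a b c : G} (ha : a ∈ cj g (PP V)) (hb : b ∈ cj g (PP V))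
    (hc : c ∈ cj g (PP V)) : ⁅a, b * c⁆ = ⁅a, b⁆ * ⁅a, c⁆ := by
  obtain ⟨a, ha, rfl⟩ := ha
  obtain ⟨b, hb, rfl⟩ := hb
  obtain ⟨c, hc, rfl⟩ := hc
  simp only [← map_mul, ← map_commutatorElement]
  rw [h.setup.comm_mul_right ha hb hc]

theorem PP_normalizes {p x : G} (hp : p ∈ PP V) (hx : x ∈ V ⊔ cj g V) :
    p * x * p⁻¹ ∈ V ⊔ cj g V := by
  obtain ⟨v, hv, w, hw, rfl⟩ := (h.setup.mem_W h.le).1 hx
  rw [conj_mul.symm, Setup.commute_PP hp hv, mul_inv_cancel_right, conj_eq_comm_mul]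
  exact mul_mem (mem_sup_left hv)
    (mul_mem (mem_sup_left (h.setup.comm_mem hp (h.le hw))) (mem_sup_right hw))

theorem exists_unique_conj {x : G} (hx : x ∈ V ⊔ cj g V) (hx1 : x ≠ 1) :
    ∃! U : Subgroup G, (∃ a : G, U = cj a V) ∧ U ≤ V ⊔ cj g V ∧ x ∈ U := by
  suffices h2 : ∃ U : Subgroup G, (∃ a : G, U = cj a V) ∧ U ≤ V ⊔ cj g V ∧ x ∈ U by
    obtain ⟨U, ⟨a, rfl⟩, hle, hxU⟩ := h2
    refine ⟨cj a V, ⟨⟨a, rfl⟩, hle, hxU⟩, ?_⟩
    rintro _ ⟨⟨b, rfl⟩, -, hb⟩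
    exact h.setup.eq_of_mem hx1 hb hxU
  obtain ⟨v, hv, w, hw, rfl⟩ := (h.setup.mem_W h.le).1 hx
  by_cases hw1 : w = 1
  · exact ⟨V, ⟨1, (cj_one V).symm⟩, le_sup_left, by rwa [hw1, mul_one]⟩
  obtain ⟨y, hy, e⟩ := h.exists_y hw hw1 hv
  refine ⟨cj (y * g) V, ⟨_, rfl⟩, ?_, ?_⟩
  · rw [← cj_cj]
    rintro _ ⟨u, hu, rfl⟩
    simpa using h.PP_normalizes (h.Y_le hy) (mem_sup_right hu)
  · rw [← cj_cj, ← e, ← conj_eq_comm_mul]
    exact cj_mem hw

theorem inv_le : cj g⁻¹ V ≤ PP V := by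
  intro x hx
  have h1 : g * x * g⁻¹ ∈ V := by simpa using mem_cj.1 hx
  have h2 := mem_cj.1 (h.V_le_R h1)
  simpa [mul_assoc] using h2

theorem inv_ne : cj g⁻¹ V ≠ V := by
  intro e
  apply h.ne
  rw [cj_eq_self_iff] at e ⊢
  simpa using inv_mem e

/-- `x ↦ [x, v]` maps `P^g` onto `V^g`. -/
theorem exists_x {v w : G} (hv : v ∈ V) (hv1 : v ≠ 1) (hw : w ∈ cj g V) :
    ∃ x ∈ cj g (PP V), ⁅x, v⁆ = w := by
  obtain ⟨Y', h'⟩ := h.setup.exists_pair (h.inv_le.trans Setup.PP_le_QQ) h.inv_ne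
  have hv' : g⁻¹ * v * g⁻¹⁻¹ ∈ cj g⁻¹ V := cj_mem hv
  have hv1' : g⁻¹ * v * g⁻¹⁻¹ ≠ 1 := fun e => hv1 (by
    rw [show v = g * (g⁻¹ * v * g⁻¹⁻¹) * g⁻¹ by group, e]; group)
  obtain ⟨y, hy, e⟩ := h'.exists_y hv' hv1' (mem_cj.1 hw)
  refine ⟨g * y * g⁻¹, cj_mem (h'.Y_le hy), ?_⟩
  have e2 := congrArg (fun z => g * z * g⁻¹) e
  simp only [comm_conj] at e2
  simpa [mul_assoc] using e2

theorem R_normalizes {a x : G} (ha : a ∈ cj g (PP V)) (hx : x ∈ V ⊔ cj g V) :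
    a * x * a⁻¹ ∈ V ⊔ cj g V := by
  obtain ⟨v, hv, w, hw, rfl⟩ := (h.setup.mem_W h.le).1 hx
  rw [conj_mul.symm, R_commute ha hw, mul_inv_cancel_right, conj_eq_comm_mul]
  exact mul_mem (mul_mem (mem_sup_right (h.R_comm ha (h.V_le_R hv))) (mem_sup_left hv))
    (mem_sup_right hw)

theorem sup_le_normalizer :
    PP V ⊔ cj g (PP V) ≤ normalizer ((V ⊔ cj g V : Subgroup G) : Set G) :=
  sup_le (Setup.le_normalizer_of_conj fun _ ha _ hx => h.PP_normalizes ha hx)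
    (Setup.le_normalizer_of_conj fun _ ha _ hx => h.R_normalizes ha hx)

theorem PP_eq_QQ : PP V = QQ V := by
  haveI := Fact.mk Nat.prime_two
  refine le_antisymm inf_le_left fun q hq => ⟨hq, mem_centralizer_iff.2 fun v hv => ?_⟩
  by_cases hv1 : v = 1
  · simp [hv1]
  have hQne : QQ V ≠ ⊥ := fun e => h.setup.ne_bot h.ne (le_bot_iff.1 (e ▸ h.setup.V_le_QQ))
  haveI := (nontrivial_iff_ne_bot _).2 hQne
  haveI := IsPGroup.center_nontrivial (Setup.isPGroup_QQ (V := V))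
  obtain ⟨⟨⟨z, hzQ⟩, hzc⟩, hz1⟩ := exists_ne (1 : center (QQ V))
  have hz1' : z ≠ 1 := fun e => hz1 (Subtype.ext (Subtype.ext e))
  have hzall : ∀ r ∈ QQ V, r * z = z * r := fun r hr =>
    congrArg Subtype.val (mem_center_iff.1 hzc ⟨r, hr⟩)
  have hzP : z ∈ PP V :=
    ⟨hzQ, mem_centralizer_iff.2 fun u hu => hzall u (h.setup.V_le_QQ hu)⟩
  have hzV : z ∈ V := h.setup.center_PP hzP fun p hp => (hzall p (Setup.PP_le_QQ hp)).symm
  obtain ⟨w, hw, hw1⟩ := h.exists_ne_W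
  obtain ⟨x, hx, ex⟩ := h.exists_x hzV hz1' hw
  obtain ⟨y, hy, ey⟩ := h.exists_y hw hw1 (mul_mem hzV hv)
  obtain ⟨x', hx', ex'⟩ := h.exists_x hv hv1 hw
  have c1 : x * z * x⁻¹ = w * z := by rw [conj_eq_comm_mul, ex]
  have c2 : y * (w * z) * y⁻¹ = w * v := by
    rw [conj_mul.symm, Setup.commute_PP (h.Y_le hy) hzV, mul_inv_cancel_right, conj_eq_comm_mul, ey,
      ← h.commute_VW hv hw]
    calc z * v * w * z = z * v * (w * z) := by group
      _ = z * v * (z * w) := by rw [h.commute_VW hzV hw]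
      _ = z * (v * z) * w := by group
      _ = z * (z * v) * w := by rw [h.setup.comm hv hzV]
      _ = v * w := by rw [← mul_assoc z, h.setup.sq hzV, one_mul]
  have c3 : x' * v * x'⁻¹ = w * v := by rw [conj_eq_comm_mul, ex']
  have hm : x'⁻¹ * y * x * z * (x'⁻¹ * y * x)⁻¹ = v := by
    calc x'⁻¹ * y * x * z * (x'⁻¹ * y * x)⁻¹ = x'⁻¹ * (y * (x * z * x⁻¹) * y⁻¹) * x' := by group
      _ = x'⁻¹ * (x' * v * x'⁻¹) * x' := by rw [c1, c2, c3]
      _ = v := by group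
  have hN : x'⁻¹ * y * x ∈ Nm V := h.setup.mem_Nm_of_ti hzV hz1' (hm.symm ▸ hv)
  have h1 := hzall _ (Setup.QQ_conj (inv_mem hN) hq)
  rw [← hm]
  calc x'⁻¹ * y * x * z * (x'⁻¹ * y * x)⁻¹ * q
      = x'⁻¹ * y * x * (z * ((x'⁻¹ * y * x)⁻¹ * q * (x'⁻¹ * y * x)⁻¹⁻¹)) * (x'⁻¹ * y * x)⁻¹ := by
        group
    _ = x'⁻¹ * y * x * (((x'⁻¹ * y * x)⁻¹ * q * (x'⁻¹ * y * x)⁻¹⁻¹) * z) * (x'⁻¹ * y * x)⁻¹ := by
        rw [h1]
    _ = q * (x'⁻¹ * y * x * z * (x'⁻¹ * y * x)⁻¹) := by group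

theorem mem_map_QQ {S : Subgroup (QQ V)} {x : G} (hx : x ∈ QQ V) (h' : (⟨x, hx⟩ : QQ V) ∈ S) :
    x ∈ S.map (QQ V).subtype := ⟨_, h', rfl⟩

theorem center_eq : (center (QQ V)).map (QQ V).subtype = V := by
  refine le_antisymm ?_ fun v hv => h.mem_map_QQ (h.setup.V_le_QQ hv) ?_
  · rintro _ ⟨z, hz, rfl⟩
    exact h.setup.center_PP (h.PP_eq_QQ.ge z.2) fun p hp =>
      (congrArg Subtype.val (mem_center_iff.1 hz ⟨p, Setup.PP_le_QQ hp⟩)).symm
  · refine mem_center_iff.2 fun r => Subtype.ext ?_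
    exact Setup.commute_PP (h.PP_eq_QQ.ge r.2) hv

theorem commutator_eq : (commutator (QQ V)).map (QQ V).subtype = V := by
  rw [map_subtype_commutator]
  refine le_antisymm (commutator_le.2 fun a ha b hb =>
    h.setup.comm_mem (h.PP_eq_QQ.ge ha) (h.PP_eq_QQ.ge hb)) fun v hv => ?_
  obtain ⟨w, hw, hw1⟩ := h.exists_ne_W
  obtain ⟨y, hy, e⟩ := h.exists_y hw hw1 hv
  rw [← e]
  exact commutator_mem_commutator (Setup.PP_le_QQ (h.Y_le hy)) (Setup.PP_le_QQ (h.le hw))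

theorem frattini_eq : (frattini (QQ V)).map (QQ V).subtype = V := by
  haveI := Fact.mk Nat.prime_two
  refine le_antisymm ?_ ?_
  · have hn : (V.subgroupOf (QQ V)).Normal :=
      (normal_subgroupOf_iff_le_normalizer h.setup.V_le_QQ).2 Setup.QQ_le
    refine (map_mono (CfsgLib.PGroupBasic.frattini_le_of_elementary (p := 2) _ ?_ ?_)).trans
      (map_subgroupOf_eq_of_le h.setup.V_le_QQ).le
    · intro x hx
      rw [mem_subgroupOf]
      exact h.commutator_eq.le ⟨x, hx, rfl⟩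
    · intro x
      rw [mem_subgroupOf, pow_two, Subgroup.coe_mul]
      exact h.setup.sq_mem (h.PP_eq_QQ.ge x.2)
  · refine h.commutator_eq.ge.trans (map_mono ?_)
    exact (CfsgLib.PGroupBasic.commutator_pow_le_frattini (Setup.isPGroup_QQ (V := V))).1

end Pair

end CfsgLib.Timm
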