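import Cfsg.Agent.KGroup.TimmBasic

/-!
Timmesfeld's TI subgroup: the pair `V`, `V^g`, and the proof of `V ≤ P^g`.
-/

set_option autoImplicit false
set_option linter.style.haveILetI false
set_option linter.unusedSectionVars false

namespace CfsgLib.Timm

open Subgroup
open scoped commutatorElement

variable {G : Type*} [Group G] [Finite G] {V : Subgroup G}

/-- A conjugate of `V` inside `P` and a further one not commuting with it. -/
structure Pair (V : Subgroup G) (g : G) (Y : Subgroup G) : Prop where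
  setup : Setup V
  le : cj g V ≤ PP V
  ne : cj g V ≠ V
  conjY : ∃ m ∈ Nm V, Y = cj (m * g) V
  ncomm : ∃ y ∈ Y, ∃ w ∈ cj g V, y * w ≠ w * y

theorem Setup.ne_bot (S : Setup V) {g : G} (hne : cj g V ≠ V) : V ≠ ⊥ := by
  rintro rfl
  exact hne (Subgroup.map_bot _)

theorem Setup.exists_pair (S : Setup V) {g : G} (hQ : cj g V ≤ QQ V) (hne : cj g V ≠ V) :
    ∃ Y, Pair V g Y := by
  have hP := S.le_PP hQ hne
  by_contra hcon
  push Not at hcon
  have hc : ∀ m ∈ Nm V, ∀ y ∈ cj (m * g) V, ∀ w ∈ cj g V, y * w = w * y := fun m hm y hy w hw => by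
    by_contra h
    exact hcon _ ⟨S, hP, hne, ⟨m, hm, rfl⟩, y, hy, w, hw, h⟩
  set D : Set G := {x | x ∈ V ∨ ∃ m ∈ Nm V, x ∈ cj (m * g) V} with hD
  have hDP : ∀ x ∈ D, x ∈ PP V := by
    rintro x (hx | ⟨m, hm, hx⟩)
    · exact S.V_le_PP hx
    · rw [← cj_cj] at hx
      rw [← Setup.cj_PP_eq hm]
      exact map_mono hP hx
  have hA : closure D = V := by
    refine S.maxab _ (fun v hv => subset_closure (Or.inl hv)) ?_ ?_ ?_
    · exact (closure_le _).2 fun x hx => Setup.PP_le (hDP x hx)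
    · refine isMulCommutative_closure ?_
      intro x hx y hy
      rcases hx with hx | ⟨m, hm, hx⟩
      · exact (Setup.commute_PP (hDP y hy) hx).symm
      rcases hy with hy | ⟨m', hm', hy⟩
      · exact Setup.commute_PP (hDP x (Or.inr ⟨m, hm, hx⟩)) hy
      have h1 : m'⁻¹ * y * m' ∈ cj g V := mem_cj.1 (by rw [cj_cj]; exact hy)
      have h2 : m'⁻¹ * x * m' ∈ cj (m'⁻¹ * m * g) V := by
        rw [mem_cj] at hx ⊢
        simpa [mul_assoc] using hx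
      have := hc _ (mul_mem (inv_mem hm') hm) _ h2 _ h1
      calc x * y = m' * ((m'⁻¹ * x * m') * (m'⁻¹ * y * m')) * m'⁻¹ := by group
        _ = m' * ((m'⁻¹ * y * m') * (m'⁻¹ * x * m')) * m'⁻¹ := by rw [this]
        _ = y * x := by group
    · intro n hn x hx
      induction hx using closure_induction with
      | mem x hx =>
        rcases hx with hx | ⟨m, hm, hx⟩
        · exact subset_closure (Or.inl (Setup.V_conj hn hx))
        · refine subset_closure (Or.inr ⟨n * m, mul_mem hn hm, ?_⟩)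
          rw [mul_assoc n m g, ← cj_cj n]
          exact cj_mem hx
      | one => simp
      | mul x y _ _ hx hy =>
        rw [show n * (x * y) * n⁻¹ = (n * x * n⁻¹) * (n * y * n⁻¹) by group]
        exact mul_mem hx hy
      | inv x _ hx =>
        rw [show n * x⁻¹ * n⁻¹ = (n * x * n⁻¹)⁻¹ by group]
        exact inv_mem hx
  refine hne (eq_of_le_of_card_ge (fun x hx => ?_) (card_cj g V).ge)
  rw [← hA]
  exact subset_closure (Or.inr ⟨1, one_mem _, by rwa [one_mul]⟩)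

namespace Pair

variable {g : G} {Y : Subgroup G} (h : Pair V g Y)
include h

theorem Y_le : Y ≤ PP V := by
  obtain ⟨m, hm, rfl⟩ := h.conjY
  rw [← cj_cj, ← Setup.cj_PP_eq hm]
  exact map_mono h.le

theorem cj_conj : ∃ a, Y = cj a V := by
  obtain ⟨m, -, e⟩ := h.conjY; exact ⟨_, e⟩

theorem card_Y : Nat.card Y = Nat.card V := by
  obtain ⟨a, rfl⟩ := h.cj_conj; exact card_cj a V

theorem eq_one_of_mem {x : G} (hx : x ∈ cj g V) (hxV : x ∈ V) : x = 1 := by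
  by_contra h1; exact h.ne (h.setup.eq_V_of_mem h1 hx hxV)

theorem Y_ne : Y ≠ V := by
  obtain ⟨y, hy, w, hw, hne⟩ := h.ncomm
  rintro rfl
  exact hne (Setup.commute_PP (h.le hw) hy).symm

/-- A `p ∈ P` centralising one element of a conjugate of `V` in `P` centralises all. -/
theorem cent_one {a p w : G} (hT : cj a V ≤ PP V) (hne : cj a V ≠ V) (hp : p ∈ PP V)
    (hw : w ∈ cj a V) (hw1 : w ≠ 1) (hc : p * w = w * p) :
    ∀ t ∈ cj a V, p * t = t * p := by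
  intro t ht
  have e : cj (p * a) V = cj a V := h.setup.eq_of_mem hw1 (by
    rw [← cj_cj, mem_cj, mul_assoc p⁻¹, ← hc, inv_mul_cancel_left]; exact hw) hw
  have h1 : ⁅p, t⁆ ∈ cj a V := by
    rw [commutatorElement_def]
    exact mul_mem (by rw [← e, ← cj_cj]; exact cj_mem ht) (inv_mem ht)
  refine comm_eq_one.1 ?_
  by_contra h2
  exact hne (h.setup.eq_V_of_mem h2 h1 (h.setup.comm_mem hp (hT ht)))

theorem cent_W {p w : G} (hp : p ∈ PP V) (hw : w ∈ cj g V) (hw1 : w ≠ 1) (hc : p * w = w * p) :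
    ∀ t ∈ cj g V, p * t = t * p :=
  h.cent_one h.le h.ne hp hw hw1 hc

theorem cent_Y {p y : G} (hp : p ∈ PP V) (hy : y ∈ Y) (hy1 : y ≠ 1) (hc : p * y = y * p) :
    ∀ t ∈ Y, p * t = t * p := by
  obtain ⟨a, rfl⟩ := h.cj_conj
  exact h.cent_one h.Y_le h.Y_ne hp hy hy1 hc

theorem eq_one_of_commute {y w : G} (hy : y ∈ Y) (hw : w ∈ cj g V) (hw1 : w ≠ 1)
    (hc : y * w = w * y) : y = 1 := by
  by_contra hy1
  obtain ⟨y', hy', w', hw', hne⟩ := h.ncomm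
  have h1 := h.cent_W (h.Y_le hy) hw hw1 hc w' hw'
  exact hne (h.cent_Y (h.le hw') hy hy1 h1.symm y' hy').symm

/-- `y ↦ [y, w]` is onto `V`. -/
theorem exists_y {w v : G} (hw : w ∈ cj g V) (hw1 : w ≠ 1) (hv : v ∈ V) :
    ∃ y ∈ Y, ⁅y, w⁆ = v := by
  let f : Y → V := fun y => ⟨⁅(y : G), w⁆, h.setup.comm_mem (h.Y_le y.2) (h.le hw)⟩
  have hinj : Function.Injective f := by
    intro y y' e
    have e' : ⁅(y : G), w⁆ = ⁅(y' : G), w⁆ := congrArg Subtype.val e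
    have h1 : ⁅(y : G) * (y' : G)⁻¹, w⁆ = 1 := by
      rw [h.setup.comm_mul_left (h.Y_le y.2) (inv_mem (h.Y_le y'.2)) (h.le hw),
        h.setup.comm_inv_left (h.Y_le y'.2) (h.le hw), e',
        h.setup.sq (h.setup.comm_mem (h.Y_le y'.2) (h.le hw))]
    exact Subtype.ext (mul_inv_eq_one.1
      (h.eq_one_of_commute (mul_mem y.2 (inv_mem y'.2)) hw hw1 (comm_eq_one.1 h1)))
  obtain ⟨y, hy⟩ := ((Nat.bijective_iff_injective_and_card f).2 ⟨hinj, h.card_Y⟩).2 ⟨v, hv⟩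
  exact ⟨y, y.2, congrArg Subtype.val hy⟩

/-- `w ↦ [y, w]` is onto `V`. -/
theorem exists_w {y v : G} (hy : y ∈ Y) (hy1 : y ≠ 1) (hv : v ∈ V) :
    ∃ w ∈ cj g V, ⁅y, w⁆ = v := by
  let f : cj g V → V := fun w => ⟨⁅y, (w : G)⁆, h.setup.comm_mem (h.Y_le hy) (h.le w.2)⟩
  have hinj : Function.Injective f := by
    intro w w' e
    have e' : ⁅y, (w : G)⁆ = ⁅y, (w' : G)⁆ := congrArg Subtype.val e
    have h1 : ⁅y, (w : G) * (w' : G)⁻¹⁆ = 1 := by
      rw [h.setup.comm_mul_right (h.Y_le hy) (h.le w.2) (inv_mem (h.le w'.2)),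
        h.setup.comm_inv_right (h.Y_le hy) (h.le w'.2), e',
        h.setup.sq (h.setup.comm_mem (h.Y_le hy) (h.le w'.2))]
    by_contra hne
    have hne' : (w : G) * (w' : G)⁻¹ ≠ 1 := fun e => hne (Subtype.ext (mul_inv_eq_one.1 e))
    exact hy1 (h.eq_one_of_commute hy (mul_mem w.2 (inv_mem w'.2)) hne' (comm_eq_one.1 h1))
  obtain ⟨w, hw⟩ := ((Nat.bijective_iff_injective_and_card f).2 ⟨hinj, card_cj g V⟩).2 ⟨v, hv⟩
  exact ⟨w, w.2, congrArg Subtype.val hw⟩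

theorem exists_ne_W : ∃ w ∈ cj g V, w ≠ 1 := by
  obtain ⟨y, hy, w, hw, hne⟩ := h.ncomm
  exact ⟨w, hw, fun e => hne (by rw [e]; simp)⟩

theorem exists_ne_Y : ∃ y ∈ Y, y ≠ 1 := by
  obtain ⟨y, hy, w, hw, hne⟩ := h.ncomm
  exact ⟨y, hy, fun e => hne (by rw [e]; simp)⟩

/-- `P = Y C_P(V^g)`. -/
theorem decomp {p : G} (hp : p ∈ PP V) :
    ∃ y ∈ Y, ∃ p0 ∈ PP V, (∀ w ∈ cj g V, p0 * w = w * p0) ∧ p = y * p0 := by
  obtain ⟨w, hw, hw1⟩ := h.exists_ne_W
  obtain ⟨y, hy, e⟩ := h.exists_y hw hw1 (h.setup.comm_mem hp (h.le hw))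
  refine ⟨y, hy, y⁻¹ * p, mul_mem (inv_mem (h.Y_le hy)) hp,
    h.cent_W (mul_mem (inv_mem (h.Y_le hy)) hp) hw hw1 (comm_eq_one.1 ?_), by group⟩
  rw [h.setup.comm_mul_left (inv_mem (h.Y_le hy)) hp (h.le hw), h.setup.comm_inv_left (h.Y_le hy)
    (h.le hw), e, h.setup.sq (h.setup.comm_mem hp (h.le hw))]

/-! ### The conjugate `R = P^g` -/

theorem R_comm {a b : G} (ha : a ∈ cj g (PP V)) (hb : b ∈ cj g (PP V)) : ⁅a, b⁆ ∈ cj g V := by
  obtain ⟨p, hp, rfl⟩ := ha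
  obtain ⟨q, hq, rfl⟩ := hb
  exact ⟨⁅p, q⁆, h.setup.comm_mem hp hq, map_commutatorElement _ p q⟩

theorem R_sq {a : G} (ha : a ∈ cj g (PP V)) : a * a ∈ cj g V := by
  obtain ⟨p, hp, rfl⟩ := ha
  exact ⟨p * p, h.setup.sq_mem hp, map_mul _ _ _⟩

omit h in
theorem R_commute {a w : G} (ha : a ∈ cj g (PP V)) (hw : w ∈ cj g V) : a * w = w * a := by
  obtain ⟨p, hp, rfl⟩ := ha
  obtain ⟨v, hv, rfl⟩ := hw
  rw [← map_mul, ← map_mul, Setup.commute_PP hp hv]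

omit h in
theorem N_of_cent {a : G} (hc : ∀ w ∈ cj g V, a * w = w * a) : g⁻¹ * a * g ∈ Nm V := by
  refine mem_normalizer_iff.2 fun v => ⟨fun hv => ?_, fun hv => ?_⟩
  · have := hc _ (cj_mem (g := g) hv)
    have e : g⁻¹ * a * g * v * (g⁻¹ * a * g)⁻¹ = v := by
      calc g⁻¹ * a * g * v * (g⁻¹ * a * g)⁻¹ = g⁻¹ * (a * (g * v * g⁻¹)) * a⁻¹ * g := by group
        _ = v := by rw [this]; group
    rwa [e]
  · have := hc _ (cj_mem (g := g) hv)
    have e : g⁻¹ * a * g * v * (g⁻¹ * a * g)⁻¹ = v := by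
      have h2 : a * (g * v * g⁻¹) = a * (g * (g⁻¹ * a * g * v * (g⁻¹ * a * g)⁻¹) * g⁻¹) := by
        refine (mul_left_cancel_iff (a := a⁻¹)).1 ?_
        calc a⁻¹ * (a * (g * v * g⁻¹)) = a⁻¹ * ((g * (g⁻¹ * a * g * v * (g⁻¹ * a * g)⁻¹) * g⁻¹) * a) := by
              group
          _ = _ := by rw [← this]
      simpa using h2.symm
    rwa [e] at hv

omit h in
theorem R_conj {a x : G} (hc : ∀ w ∈ cj g V, a * w = w * a) (hx : x ∈ cj g (PP V)) :
    a * x * a⁻¹ ∈ cj g (PP V) := by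
  have := Setup.PP_conj (N_of_cent hc) (mem_cj.1 hx)
  rw [mem_cj]
  convert this using 1
  group

theorem R_cent {a : G} (hcW : ∀ w ∈ cj g V, a * w = w * a)
    (hc : ∀ x ∈ cj g (PP V), a * x = x * a) : a ∈ cj g V := by
  refine mem_cj.2 (h.setup.cent_PP (N_of_cent hcW) fun p hp => ?_)
  have := hc _ (cj_mem (g := g) hp)
  calc g⁻¹ * a * g * p = g⁻¹ * (a * (g * p * g⁻¹)) * g := by group
    _ = p * (g⁻¹ * a * g) := by rw [this]; group

theorem W_le_R : cj g V ≤ cj g (PP V) := map_mono h.setup.V_le_PP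

omit h in
theorem commute_VW (h : Pair V g Y) {v w : G} (hv : v ∈ V) (hw : w ∈ cj g V) : v * w = w * v :=
  (Setup.commute_PP (h.le hw) hv).symm

theorem lemA {x v : G} (hx : x ∈ cj g (PP V)) (hv : v ∈ V) (hf : ⁅v, x⁆ ∈ cj g V)
    (hf1 : ⁅v, x⁆ ≠ 1) : V ≤ cj g (PP V) := by
  have hxv : x * v * x⁻¹ = v * ⁅v, x⁆ := by
    simp only [commutatorElement_def, ← mul_assoc, h.setup.sq hv, one_mul, h.setup.inv_eq hv]
  have hv1 : v ≠ 1 := fun e => hf1 (by rw [e, commutatorElement_one_left])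
  obtain ⟨y, hy, e⟩ := h.exists_y hf hf1 hv
  have hy1 : y ≠ 1 := fun e' => hv1 (by rw [← e, e', commutatorElement_one_left])
  have hmem : y * ⁅v, x⁆ * y⁻¹ = v * ⁅v, x⁆ := by rw [conj_eq_comm_mul, e]
  have hne : v * ⁅v, x⁆ ≠ 1 := by
    rw [← hxv]; simpa using hv1
  have heq : cj x V = cj (y * g) V := by
    refine h.setup.eq_of_mem hne (hxv ▸ cj_mem hv) ?_
    rw [← cj_cj, ← hmem]; exact cj_mem hf
  have hR : cj (y⁻¹ * x) (PP V) = cj g (PP V) := Setup.cj_PP_congr (by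
    rw [← cj_cj, heq, cj_cj, inv_mul_cancel_left])
  have hyw : ∀ w ∈ cj g V, y⁻¹ * w * y⁻¹⁻¹ ∈ cj g (PP V) := by
    intro w hw
    have h1 : y⁻¹ * x * w * (y⁻¹ * x)⁻¹ ∈ cj g (PP V) := by
      rw [← hR]; exact cj_mem (h.le hw)
    rwa [show y⁻¹ * x * w * (y⁻¹ * x)⁻¹ = y⁻¹ * (x * w * x⁻¹) * y⁻¹⁻¹ by group,
      R_commute hx hw, mul_inv_cancel_right] at h1
  intro v' hv'
  obtain ⟨w, hw, e'⟩ := h.exists_w hy hy1 hv'
  rw [← e', ← h.setup.comm_inv_left (h.Y_le hy) (h.le hw), commutatorElement_def]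
  exact mul_mem (hyw w hw) (inv_mem (h.W_le_R hw))

theorem V_le_R : V ≤ cj g (PP V) := by
  by_contra hnot
  have hno : ∀ x ∈ cj g (PP V), ∀ v ∈ V, ⁅v, x⁆ ∈ cj g V → ⁅v, x⁆ = 1 := fun x hx v hv hf => by
    by_contra h1; exact hnot (h.lemA hx hv hf h1)
  have hVW : ∀ v ∈ V, ∀ w ∈ cj g V, v * w = w * v := fun v hv w hw => h.commute_VW hv hw
  have hVR : ∀ v ∈ V, v ∈ cj g (PP V) → v = 1 := fun v hv hvR =>
    h.eq_one_of_mem (h.R_cent (hVW v hv)
      fun x hx => comm_eq_one.1 (hno x hx v hv (h.R_comm hvR hx))) hv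
  -- the map `x ↦ [v, x]` takes values in `C_R(V)`
  have hfv : ∀ v ∈ V, ∀ x ∈ cj g (PP V),
      ⁅v, x⁆ ∈ cj g (PP V) ∧ ∀ v' ∈ V, ⁅v, x⁆ * v' = v' * ⁅v, x⁆ := by
    intro v hv x hx
    have hfR : ⁅v, x⁆ ∈ cj g (PP V) := by
      rw [commutatorElement_def]; exact mul_mem (R_conj (hVW v hv) hx) (inv_mem hx)
    refine ⟨hfR, ?_⟩
    by_cases hv1 : v = 1
    · simp [hv1, commutatorElement_one_left]
    have hinvf : v * ⁅v, x⁆ * v⁻¹ = (⁅v, x⁆)⁻¹ := by
      rw [commutatorElement_def]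
      simp only [mul_inv_rev, inv_inv, h.setup.inv_eq hv, ← mul_assoc, h.setup.sq hv, one_mul]
    have hvf : ⁅v, ⁅v, x⁆⁆ = (⁅v, x⁆ * ⁅v, x⁆)⁻¹ := by
      rw [commutatorElement_def v ⁅v, x⁆, hinvf, mul_inv_rev]
    have h1 := hno _ hfR v hv (by rw [hvf]; exact inv_mem (h.R_sq hfR))
    have hcv : ⁅v, x⁆ * v * (⁅v, x⁆)⁻¹ = v := by
      rw [← comm_eq_one.1 h1, mul_inv_cancel_right]
    have hN : ⁅v, x⁆ ∈ Nm V := h.setup.mem_Nm_of_ti hv hv1 (hcv.symm ▸ hv)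
    intro v' hv'
    refine comm_eq_one.1 (hVR _ ?_ ?_)
    · rw [commutatorElement_def _ v']
      exact mul_mem (Setup.V_conj hN hv') (inv_mem hv')
    · rw [commutatorElement_def _ v', mul_assoc, mul_assoc, ← mul_assoc v']
      exact mul_mem hfR (R_conj (hVW v' hv') (inv_mem hfR))
  -- bilinearity in `R`
  have hRmul : ∀ a ∈ cj g (PP V), ∀ b ∈ cj g (PP V), ∀ c ∈ cj g (PP V),
      ⁅a * b, c⁆ = ⁅a, c⁆ * ⁅b, c⁆ ∧ ⁅a, b * c⁆ = ⁅a, b⁆ * ⁅a, c⁆ := by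
    rintro _ ⟨a, ha, rfl⟩ _ ⟨b, hb, rfl⟩ _ ⟨c, hc, rfl⟩
    simp only [← map_mul, ← map_commutatorElement]
    exact ⟨by rw [h.setup.comm_mul_left ha hb hc], by rw [h.setup.comm_mul_right ha hb hc]⟩
  -- `C_R(C_R(V)) ≤ C_R(V)`
  have hCC : ∀ z ∈ cj g (PP V),
      (∀ r ∈ cj g (PP V), (∀ v ∈ V, r * v = v * r) → z * r = r * z) → ∀ v ∈ V, z * v = v * z := by
    intro z hz hzc v hv
    obtain ⟨hfz, hfz'⟩ := hfv v hv z hz
    have key : ∀ y ∈ cj g (PP V), ⁅⁅v, z⁆, ⁅v, y⁆⁆ * ⁅⁅v, z⁆, y⁆ = 1 := by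
      intro y hy
      obtain ⟨hfy, hfy'⟩ := hfv v hv y hy
      have e1 : v * ⁅z, y⁆ * v⁻¹ = ⁅z, y⁆ := by
        rw [hVW v hv _ (h.R_comm hz hy), mul_inv_cancel_right]
      rw [comm_conj, conj_eq_comm_mul v z, conj_eq_comm_mul v y,
        (hRmul _ hfz _ hz _ (mul_mem hfy hy)).1, (hRmul _ hfz _ hfy _ hy).2,
        (hRmul _ hz _ hfy _ hy).2, comm_eq_one.2 (hzc _ hfy hfy'), one_mul] at e1
      exact mul_eq_right.1 e1
    have h2 : ∀ r ∈ cj g (PP V), (∀ v' ∈ V, r * v' = v' * r) → ⁅⁅v, z⁆, r⁆ = 1 := by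
      intro r hr hr'
      have := key r hr
      rwa [comm_eq_one.2 (hr' v hv).symm, commutatorElement_one_right, one_mul] at this
    have h3 : ∀ y ∈ cj g (PP V), ⁅⁅v, z⁆, y⁆ = 1 := by
      intro y hy
      have := key y hy
      rwa [h2 _ (hfv v hv y hy).1 (hfv v hv y hy).2, one_mul] at this
    have h4 := hno z hz v hv
      (h.R_cent (fun w hw => R_commute hfz hw) fun y hy => comm_eq_one.1 (h3 y hy))
    exact (comm_eq_one.1 h4).symm
  -- `P ∩ R = V^g`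
  obtain ⟨y1, hy1, hy1ne⟩ := h.exists_ne_Y
  have hEc : ∀ e ∈ PP V ⊓ cj g (PP V), ∀ p ∈ PP V, (∀ w ∈ cj g V, p * w = w * p) → e * p = p * e := by
    intro e he p hp hpc
    refine comm_eq_one.1 (hVR _ (h.setup.comm_mem he.1 hp) ?_)
    rw [commutatorElement_def, mul_assoc, mul_assoc, ← mul_assoc p]
    exact mul_mem he.2 (R_conj hpc (inv_mem he.2))
  have hEy : ∀ e ∈ PP V ⊓ cj g (PP V), e * y1 = y1 * e → e = 1 := by
    intro e he hc
    refine hVR e (h.setup.center_PP he.1 fun p hp => ?_) he.2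
    obtain ⟨y, hy, p0, hp0, hp0', rfl⟩ := h.decomp hp
    rw [← mul_assoc, h.cent_Y he.1 hy1 hy1ne hc y hy, mul_assoc, hEc e he p0 hp0 hp0', ← mul_assoc]
  have hE : cj g V = PP V ⊓ cj g (PP V) := by
    refine eq_of_le_of_card_ge (le_inf h.le h.W_le_R) ?_
    rw [card_cj]
    refine Nat.card_le_card_of_injective
      (fun e : (PP V ⊓ cj g (PP V) : Subgroup G) =>
        (⟨⁅y1, (e : G)⁆, h.setup.comm_mem (h.Y_le hy1) e.2.1⟩ : V)) fun e e' he => ?_
    have he' : ⁅y1, (e : G)⁆ = ⁅y1, (e' : G)⁆ := congrArg Subtype.val he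
    refine Subtype.ext (mul_inv_eq_one.1 (hEy _ (mul_mem e.2 (inv_mem e'.2)) (comm_eq_one.1 ?_).symm))
    rw [h.setup.comm_mul_right (h.Y_le hy1) e.2.1 (inv_mem e'.2.1),
      h.setup.comm_inv_right (h.Y_le hy1) e'.2.1, he',
      h.setup.sq (h.setup.comm_mem (h.Y_le hy1) e'.2.1)]
  have hEmem : ∀ e, e ∈ PP V → e ∈ cj g (PP V) → e ∈ cj g V := fun e h1 h2 => by
    rw [hE]; exact ⟨h1, h2⟩
  -- `C_P(V^g)` has exponent two
  have hexp : ∀ p ∈ PP V, (∀ w ∈ cj g V, p * w = w * p) → p * p = 1 := by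
    intro p hp hpc
    have hp2c : ∀ w ∈ cj g V, p * p * w = w * (p * p) := fun w hw => by
      rw [mul_assoc, hpc w hw, ← mul_assoc, hpc w hw, mul_assoc]
    refine h.eq_one_of_mem (h.R_cent hp2c fun x hx => comm_eq_one.1 ?_) (h.setup.sq_mem hp)
    have huR : ⁅p, x⁆ ∈ cj g (PP V) := by
      rw [commutatorElement_def]; exact mul_mem (R_conj hpc hx) (inv_mem hx)
    have huR0 : ∀ v ∈ V, ⁅p, x⁆ * v = v * ⁅p, x⁆ := by
      refine hCC _ huR fun r hr hrV => comm_eq_one.1 ?_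
      have hrN : r ∈ Nm V := by
        refine mem_normalizer_iff.2 fun v => ⟨fun hv => ?_, fun hv => ?_⟩
        · rwa [hrV v hv, mul_inv_cancel_right]
        · have e : v = r⁻¹ * (r * v * r⁻¹) * r := by group
          rw [e, mul_assoc, ← hrV _ hv, ← mul_assoc, inv_mul_cancel, one_mul]
          exact hv
      have ha : ⁅p, r⁆ ∈ cj g V := by
        refine hEmem _ ?_ ?_
        · rw [commutatorElement_def, mul_assoc, mul_assoc, ← mul_assoc r]
          exact mul_mem hp (Setup.PP_conj hrN (inv_mem hp))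
        · rw [commutatorElement_def]; exact mul_mem (R_conj hpc hr) (inv_mem hr)
      have e1 : ⁅p * x * p⁻¹, r⁆ = ⁅x, r⁆ := by
        have h1 : ⁅p * x * p⁻¹, p * r * p⁻¹⁆ = ⁅x, r⁆ := by
          rw [← comm_conj, hpc _ (h.R_comm hx hr), mul_inv_cancel_right]
        rw [conj_eq_comm_mul p r, (hRmul _ (R_conj hpc hx) _ (h.W_le_R ha) _ hr).2,
          comm_eq_one.2 (R_commute (R_conj hpc hx) ha), one_mul] at h1
        exact h1
      rw [commutatorElement_def p x, (hRmul _ (R_conj hpc hx) _ (inv_mem hx) _ hr).1, e1,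
        ← (hRmul _ hx _ (inv_mem hx) _ hr).1, mul_inv_cancel, commutatorElement_one_left]
    have ha : ⁅p, ⁅p, x⁆⁆ ∈ cj g V := by
      refine hEmem _ ?_ ?_
      · have hN : ⁅p, x⁆ ∈ Nm V := by
          refine mem_normalizer_iff.2 fun v => ⟨fun hv => ?_, fun hv => ?_⟩
          · rwa [huR0 v hv, mul_inv_cancel_right]
          · have e : v = (⁅p, x⁆)⁻¹ * (⁅p, x⁆ * v * (⁅p, x⁆)⁻¹) * ⁅p, x⁆ := by group
            rw [e, mul_assoc, ← huR0 _ hv, ← mul_assoc, inv_mul_cancel, one_mul]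
            exact hv
        rw [commutatorElement_def p ⁅p, x⁆, mul_assoc, mul_assoc, ← mul_assoc ⁅p, x⁆]
        exact mul_mem hp (Setup.PP_conj hN (inv_mem hp))
      · rw [commutatorElement_def p ⁅p, x⁆]
        exact mul_mem (R_conj hpc huR) (inv_mem huR)
    have e2 : ⁅p * p, x⁆ = ⁅p, ⁅p, x⁆⁆ * (⁅p, x⁆ * ⁅p, x⁆) := by
      simp only [commutatorElement_def]
      group
    have hmem : ⁅p * p, x⁆ ∈ cj g V := e2 ▸ mul_mem ha (h.R_sq huR)
    exact hno x hx _ (h.setup.sq_mem hp) hmem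
  have hP0ab : ∀ p ∈ PP V, (∀ w ∈ cj g V, p * w = w * p) → ∀ q ∈ PP V,
      (∀ w ∈ cj g V, q * w = w * q) → p * q = q * p := by
    intro p hp hpc q hq hqc
    have hi : ∀ r ∈ PP V, (∀ w ∈ cj g V, r * w = w * r) → r⁻¹ = r := fun r hr hrc =>
      inv_eq_of_mul_eq_one_right (hexp r hr hrc)
    have := hi (p * q) (mul_mem hp hq) fun w hw => by
      rw [mul_assoc, hqc w hw, ← mul_assoc, hpc w hw, mul_assoc]
    rw [← this, mul_inv_rev, hi q hq hqc, hi p hp hpc]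
  -- `C_R(V) ≤ V^g`
  have hR0 : ∀ f ∈ cj g (PP V), (∀ v ∈ V, f * v = v * f) → f ∈ cj g V := by
    intro f hf hfV
    have hfN : f ∈ Nm V := by
      refine mem_normalizer_iff.2 fun v => ⟨fun hv => ?_, fun hv => ?_⟩
      · rwa [hfV v hv, mul_inv_cancel_right]
      · have e : v = f⁻¹ * (f * v * f⁻¹) * f := by group
        rw [e, mul_assoc, ← hfV _ hv, ← mul_assoc, inv_mul_cancel, one_mul]
        exact hv
    have hc0 : ∀ y ∈ Y, ∀ w ∈ cj g V, ⁅f, y⁆ * w = w * ⁅f, y⁆ := by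
      intro y hy w hw
      have hc : ⁅f, y⁆ ∈ PP V := by
        rw [commutatorElement_def]
        exact mul_mem (Setup.PP_conj hfN (h.Y_le hy)) (inv_mem (h.Y_le hy))
      have h1 : ⁅f * y * f⁻¹, f * w * f⁻¹⁆ = ⁅y, w⁆ := by
        rw [← comm_conj, hfV _ (h.setup.comm_mem (h.Y_le hy) (h.le hw)), mul_inv_cancel_right]
      rw [conj_eq_comm_mul f y, R_commute hf hw, mul_inv_cancel_right,
        h.setup.comm_mul_left hc (h.Y_le hy) (h.le hw)] at h1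
      exact comm_eq_one.1 (mul_eq_right.1 h1)
    have hfp0 : ∀ p ∈ PP V, (∀ w ∈ cj g V, p * w = w * p) → ⁅f, p⁆ = 1 := by
      intro p hp hpc
      have he : ⁅f, p⁆ ∈ PP V ⊓ cj g (PP V) := by
        refine Subgroup.mem_inf.2 ⟨?_, ?_⟩
        · rw [commutatorElement_def]
          exact mul_mem (Setup.PP_conj hfN hp) (inv_mem hp)
        · rw [commutatorElement_def, mul_assoc, mul_assoc, ← mul_assoc p]
          exact mul_mem hf (R_conj hpc (inv_mem hf))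
      have hec : ∀ w ∈ cj g V, ⁅f, p⁆ * w = w * ⁅f, p⁆ := fun w hw => R_commute he.2 hw
      refine hEy _ he (comm_eq_one.1 ?_)
      have hc : ⁅f, y1⁆ ∈ PP V := by
        rw [commutatorElement_def]
        exact mul_mem (Setup.PP_conj hfN (h.Y_le hy1)) (inv_mem (h.Y_le hy1))
      have h1 : ⁅f * p * f⁻¹, f * y1 * f⁻¹⁆ = ⁅p, y1⁆ := by
        rw [← comm_conj, hfV _ (h.setup.comm_mem hp (h.Y_le hy1)), mul_inv_cancel_right]
      rw [conj_eq_comm_mul f p, conj_eq_comm_mul f y1,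
        h.setup.comm_mul_left he.1 hp (mul_mem hc (h.Y_le hy1)),
        h.setup.comm_mul_right he.1 hc (h.Y_le hy1),
        h.setup.comm_mul_right hp hc (h.Y_le hy1),
        comm_eq_one.2 (hP0ab _ he.1 hec _ hc (hc0 y1 hy1)),
        comm_eq_one.2 (hP0ab _ hp hpc _ hc (hc0 y1 hy1)), one_mul, one_mul] at h1
      exact mul_eq_right.1 h1
    have hfy : ∀ y ∈ Y, ⁅f, y⁆ ∈ V := by
      intro y hy
      have hc : ⁅f, y⁆ ∈ PP V := by
        rw [commutatorElement_def]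
        exact mul_mem (Setup.PP_conj hfN (h.Y_le hy)) (inv_mem (h.Y_le hy))
      by_cases hy0 : y = 1
      · rw [hy0, commutatorElement_one_right]; exact one_mem V
      obtain ⟨a, rfl⟩ := h.cj_conj
      have hyy : y * y = 1 := h.setup.cj_sq hy
      have hcy : ⁅f, y⁆ * y = y * ⁅f, y⁆ := by
        have h1 : (⁅f, y⁆ * y) * (⁅f, y⁆ * y) = 1 := by
          rw [← conj_eq_comm_mul]
          calc f * y * f⁻¹ * (f * y * f⁻¹) = f * (y * y) * f⁻¹ := by group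
            _ = 1 := by rw [hyy]; group
        have hcc : (⁅f, y⁆)⁻¹ = ⁅f, y⁆ := inv_eq_of_mul_eq_one_right (hexp _ hc (hc0 y hy))
        calc ⁅f, y⁆ * y = (⁅f, y⁆ * y)⁻¹ := (inv_eq_of_mul_eq_one_right h1).symm
          _ = y * ⁅f, y⁆ := by rw [mul_inv_rev, hcc, inv_eq_of_mul_eq_one_right hyy]
      refine h.setup.center_PP hc fun p hp => ?_
      obtain ⟨y', hy', p0, hp0, hp0', rfl⟩ := h.decomp hp
      rw [← mul_assoc, h.cent_Y hc hy hy0 hcy y' hy', mul_assoc,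
        hP0ab _ hc (hc0 y hy) p0 hp0 hp0', ← mul_assoc]
    refine hEmem f (h.setup.mem_PP_of hfN hfV fun p hp => ?_) hf
    obtain ⟨y, hy, p0, hp0, hp0', rfl⟩ := h.decomp hp
    rw [commutatorElement_mul_right_eq_mul_conj, hfp0 p0 hp0 hp0', mul_one, mul_inv_cancel_right]
    exact hfy y hy
  refine h.ne (eq_of_le_of_card_ge (fun v hv => ?_) (card_cj g V).le).symm
  refine h.R_cent (hVW v hv) fun x hx => comm_eq_one.1 ?_
  exact hno x hx v hv (hR0 _ (hfv v hv x hx).1 (hfv v hv x hx).2)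

end Pair

end CfsgLib.Timm
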