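import Cfsg.Agent.KGroup.TimmEnd
import Cfsg.Agent.KGroup.JordanField
import Cfsg.Agent.RootSubgroups.SL2Pair
import Mathlib.Algebra.Group.Units.Hom
import Mathlib.Algebra.Group.End

/-!
Timmesfeld's TI subgroup: `H / C_H(W)` is `SL_2` over a field with `|V|` elements.
-/

set_option autoImplicit false
set_option linter.style.haveILetI false
set_option linter.unusedSectionVars false

namespace CfsgLib.Timm

open Subgroup CfsgLib.JordanField
open scoped commutatorElement IsMulCommutative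

variable {G : Type*} [Group G] [Finite G] {V : Subgroup G} {g : G} {Y : Subgroup G}

namespace Pair

variable [IsMulCommutative V] (h : Pair V g Y)

/-- The element of `G` underlying a vector of `V`. -/
def val (a : Additive V) : G := (Additive.toMul a : V)

omit [Finite G] in
theorem val_mem (a : Additive V) : val a ∈ V := (Additive.toMul a).2

omit [Finite G] in
theorem val_add (a b : Additive V) : val (a + b) = val a * val b := rfl

omit [Finite G] in
theorem val_zero : val (0 : Additive V) = 1 := rfl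

omit [Finite G] in
theorem val_inj {a b : Additive V} (e : val a = val b) : a = b :=
  Additive.toMul.injective (Subtype.ext e)

/-- A fixed nontrivial element of `Y`. -/
noncomputable def y₁ : G := h.exists_ne_Y.choose

theorem y₁_mem : h.y₁ ∈ Y := h.exists_ne_Y.choose_spec.1

theorem y₁_ne : h.y₁ ≠ 1 := h.exists_ne_Y.choose_spec.2

include h in
theorem W_inj {y w w' : G} (hy : y ∈ Y) (hy1 : y ≠ 1) (hw : w ∈ cj g V) (hw' : w' ∈ cj g V)
    (e : ⁅y, w⁆ = ⁅y, w'⁆) : w = w' := by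
  by_contra hne
  refine hy1 (h.eq_one_of_commute hy (mul_mem hw (inv_mem hw'))
    (fun e' => hne (mul_inv_eq_one.1 e')) (comm_eq_one.1 ?_))
  rw [h.setup.comm_mul_right (h.Y_le hy) (h.le hw) (inv_mem (h.le hw')),
    h.setup.comm_inv_right (h.Y_le hy) (h.le hw'), e,
    h.setup.sq (h.setup.comm_mem (h.Y_le hy) (h.le hw'))]

/-- The identification of `V` with `V^g`. -/
noncomputable def j (a : Additive V) : G :=
  (h.exists_w h.y₁_mem h.y₁_ne (val_mem a)).choose

theorem j_mem (a : Additive V) : h.j a ∈ cj g V :=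
  (h.exists_w h.y₁_mem h.y₁_ne (val_mem a)).choose_spec.1

theorem j_spec (a : Additive V) : ⁅h.y₁, h.j a⁆ = val a :=
  (h.exists_w h.y₁_mem h.y₁_ne (val_mem a)).choose_spec.2

theorem j_add (a b : Additive V) : h.j (a + b) = h.j a * h.j b := by
  refine h.W_inj h.y₁_mem h.y₁_ne (h.j_mem _) (mul_mem (h.j_mem a) (h.j_mem b)) ?_
  rw [h.setup.comm_mul_right (h.Y_le h.y₁_mem) (h.le (h.j_mem a)) (h.le (h.j_mem b)), h.j_spec,
    h.j_spec, h.j_spec, val_add]

theorem j_zero : h.j 0 = 1 := by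
  refine h.W_inj h.y₁_mem h.y₁_ne (h.j_mem _) (one_mem _) ?_
  rw [h.j_spec, commutatorElement_one_right, val_zero]

theorem j_inj {a b : Additive V} (e : h.j a = h.j b) : a = b :=
  val_inj (by rw [← h.j_spec, ← h.j_spec, e])

theorem j_ne {a : Additive V} (ha : a ≠ 0) : h.j a ≠ 1 := fun e =>
  ha (h.j_inj (e.trans h.j_zero.symm))

theorem j_surj {w : G} (hw : w ∈ cj g V) :
    h.j (Additive.ofMul ⟨⁅h.y₁, w⁆, h.setup.comm_mem (h.Y_le h.y₁_mem) (h.le hw)⟩) = w :=
  h.W_inj h.y₁_mem h.y₁_ne (h.j_mem _) hw (by rw [h.j_spec]; rfl)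

/-- The endomorphism of `V` induced by an element of `P`. -/
noncomputable def th (p : PP V) : AddMonoid.End (Additive V) :=
  AddMonoidHom.mk'
    (fun a => Additive.ofMul ⟨⁅(p : G), h.j a⁆, h.setup.comm_mem p.2 (h.le (h.j_mem a))⟩)
    fun a b => val_inj (by
      rw [val_add]
      show ⁅(p : G), h.j (a + b)⁆ = ⁅(p : G), h.j a⁆ * ⁅(p : G), h.j b⁆
      rw [h.j_add, h.setup.comm_mul_right p.2 (h.le (h.j_mem a)) (h.le (h.j_mem b))])

theorem val_th (p : PP V) (a : Additive V) : val (h.th p a) = ⁅(p : G), h.j a⁆ := rfl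

/-- The endomorphism of `V` induced by an element of `P^g`. -/
noncomputable def ps (x : cj g (PP V)) : AddMonoid.End (Additive V) :=
  AddMonoidHom.mk'
    (fun a => Additive.ofMul ⟨⁅h.y₁, ⁅(x : G), val a⁆⁆,
      h.setup.comm_mem (h.Y_le h.y₁_mem) (h.le (h.R_comm x.2 (h.V_le_R (val_mem a))))⟩)
    fun a b => val_inj (by
      show ⁅h.y₁, ⁅(x : G), val a * val b⁆⁆ = ⁅h.y₁, ⁅(x : G), val a⁆⁆ * ⁅h.y₁, ⁅(x : G), val b⁆⁆
      rw [h.R_mul_right x.2 (h.V_le_R (val_mem a)) (h.V_le_R (val_mem b)),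
        h.setup.comm_mul_right (h.Y_le h.y₁_mem) (h.le (h.R_comm x.2 (h.V_le_R (val_mem a))))
          (h.le (h.R_comm x.2 (h.V_le_R (val_mem b))))])

theorem j_ps (x : cj g (PP V)) (a : Additive V) : h.j (h.ps x a) = ⁅(x : G), val a⁆ :=
  h.j_surj (h.R_comm x.2 (h.V_le_R (val_mem a)))

theorem th_mul (p q : PP V) : h.th (p * q) = h.th p + h.th q :=
  AddMonoidHom.ext fun a => val_inj (by
    show ⁅(p : G) * (q : G), h.j a⁆ = ⁅(p : G), h.j a⁆ * ⁅(q : G), h.j a⁆
    exact h.setup.comm_mul_left p.2 q.2 (h.le (h.j_mem a)))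

theorem th_one : h.th 1 = 0 :=
  AddMonoidHom.ext fun a => val_inj (by
    show ⁅(1 : G), h.j a⁆ = 1
    exact commutatorElement_one_left _)

theorem th_inv (p : PP V) : h.th p⁻¹ = -h.th p :=
  eq_neg_of_add_eq_zero_left (by rw [← h.th_mul, inv_mul_cancel, h.th_one])

theorem th_y₁ : h.th ⟨h.y₁, h.Y_le h.y₁_mem⟩ = 1 :=
  AddMonoidHom.ext fun a => val_inj (h.j_spec a)

/-- The additive group of these endomorphisms. -/
noncomputable def K : AddSubgroup (AddMonoid.End (Additive V)) where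
  carrier := Set.range h.th
  zero_mem' := ⟨1, h.th_one⟩
  add_mem' := by rintro _ _ ⟨p, rfl⟩ ⟨q, rfl⟩; exact ⟨p * q, h.th_mul p q⟩
  neg_mem' := by rintro _ ⟨p, rfl⟩; exact ⟨p⁻¹, h.th_inv p⟩

include h in
theorem two : (2 : AddMonoid.End (Additive V)) = 0 := by
  rw [← one_add_one_eq_two]
  exact AddMonoidHom.ext fun a => val_inj (by
    show val a * val a = 1
    exact h.setup.sq (val_mem a))

theorem th_eq_zero_of_apply {p : PP V} {a : Additive V} (ha : a ≠ 0) (e : h.th p a = 0) :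
    h.th p = 0 := by
  have hc : (p : G) * h.j a = h.j a * p := comm_eq_one.1 (congrArg val e)
  exact AddMonoidHom.ext fun b => val_inj
    (comm_eq_one.2 (h.cent_W p.2 (h.j_mem a) (h.j_ne ha) hc _ (h.j_mem b)))

theorem th_isUnit {p : PP V} (hp : h.th p ≠ 0) : IsUnit (h.th p) := by
  have hinj : Function.Injective (h.th p) :=
    (injective_iff_map_eq_zero (h.th p)).2 fun a e => by
      by_contra ha
      exact hp (h.th_eq_zero_of_apply ha e)
  let e := AddEquiv.ofBijective (h.th p) ⟨hinj, Finite.injective_iff_surjective.1 hinj⟩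
  exact ⟨⟨h.th p, e.symm.toAddMonoidHom, AddMonoidHom.ext fun a => e.apply_symm_apply a,
    AddMonoidHom.ext fun a => e.symm_apply_apply a⟩, rfl⟩

theorem conj_val_j_P (p : PP V) (a b : Additive V) :
    (p : G) * (val a * h.j b) * (p : G)⁻¹ = val (a + h.th p b) * h.j b := by
  rw [conj_mul.symm, Setup.commute_PP p.2 (val_mem a), mul_inv_cancel_right, conj_eq_comm_mul,
    val_add, h.val_th, mul_assoc]

theorem conj_val_j_R (x : cj g (PP V)) (a b : Additive V) :
    (x : G) * (val a * h.j b) * (x : G)⁻¹ = val a * h.j (h.ps x a + b) := by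
  rw [conj_mul.symm, R_commute x.2 (h.j_mem b), mul_inv_cancel_right, conj_eq_comm_mul,
    h.j_add, h.j_ps, ← h.commute_VW (val_mem a) (h.R_comm x.2 (h.V_le_R (val_mem a))), mul_assoc]

/-- A conjugate of `V` in `W` other than `V` is the graph of some element of `K`. -/
theorem graph {c : G} {α β : AddMonoid.End (Additive V)}
    (hT : ∀ a, val (α a) * h.j (β a) ∈ cj c V) (hβ : β ≠ 0) : ∃ p, h.th p * β = α := by
  obtain ⟨a0, ha0⟩ : ∃ a0, β a0 ≠ 0 := by
    by_contra hcon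
    push Not at hcon
    exact hβ (AddMonoidHom.ext hcon)
  obtain ⟨y, hy, ey⟩ := h.exists_y (h.j_mem (β a0)) (h.j_ne ha0) (val_mem (α a0))
  have hne : val (α a0) * h.j (β a0) ≠ 1 := fun e => h.j_ne ha0 (h.eq_one_of_mem (h.j_mem _) (by
    rw [eq_inv_of_mul_eq_one_right e]; exact inv_mem (val_mem _)))
  have hmem : val (α a0) * h.j (β a0) ∈ cj y (cj g V) := by
    rw [← ey, ← conj_eq_comm_mul]; exact cj_mem (h.j_mem _)
  rw [cj_cj] at hmem
  have heq := h.setup.eq_of_mem hne (hT a0) hmem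
  refine ⟨⟨y, h.Y_le hy⟩, AddMonoidHom.ext fun a => val_inj ?_⟩
  show ⁅y, h.j (β a)⁆ = val (α a)
  have h1 := hT a
  rw [heq, ← cj_cj, mem_cj] at h1
  have hyi : y⁻¹ ∈ PP V := inv_mem (h.Y_le hy)
  rw [show y⁻¹ * (val (α a) * h.j (β a)) * y = y⁻¹ * val (α a) * y⁻¹⁻¹ * (y⁻¹ * h.j (β a) * y⁻¹⁻¹)
    by group, Setup.commute_PP hyi (val_mem _), mul_inv_cancel_right, conj_eq_comm_mul,
    h.setup.comm_inv_left (h.Y_le hy) (h.le (h.j_mem _)), ← mul_assoc] at h1
  have hc := h.setup.comm_mem (h.Y_le hy) (h.le (h.j_mem (β a)))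
  have h2 : val (α a) * ⁅y, h.j (β a)⁆ ∈ cj g V := by
    have := mul_mem h1 (inv_mem (h.j_mem (β a)))
    simpa using this
  have h3 := h.eq_one_of_mem h2 (mul_mem (val_mem _) hc)
  calc ⁅y, h.j (β a)⁆ = (val (α a))⁻¹ := eq_inv_of_mul_eq_one_right h3
    _ = val (α a) := h.setup.inv_eq (val_mem _)

theorem ps_left {x : cj g (PP V)} (hx : h.ps x ≠ 0) : ∃ p, h.th p * h.ps x = 1 := by
  refine h.graph (c := x) (fun a => ?_) hx
  have := h.conj_val_j_R x a 0
  rw [h.j_zero, mul_one, add_zero] at this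
  show val a * h.j (h.ps x a) ∈ cj (x : G) V
  rw [← this]
  exact cj_mem (val_mem a)

theorem ps_mem (x : cj g (PP V)) (hx : h.ps x ≠ 0) :
    ∃ p, h.th p * h.ps x = 1 ∧ h.ps x * h.th p = 1 := by
  obtain ⟨p, hp⟩ := h.ps_left hx
  have hp0 : h.th p ≠ 0 := fun e => by
    rw [e, zero_mul] at hp
    exact hx (by rw [← mul_one (h.ps x), ← hp, mul_zero])
  refine ⟨p, hp, (h.th_isUnit hp0).mul_left_cancel ?_⟩
  rw [← mul_assoc, hp, one_mul, mul_one]

theorem exists_ps {p : PP V} (hp : h.th p ≠ 0) :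
    ∃ x, h.th p * h.ps x = 1 ∧ h.ps x * h.th p = 1 := by
  obtain ⟨a0, ha0⟩ : ∃ a0, h.th p a0 ≠ 0 := by
    by_contra hcon
    push Not at hcon
    exact hp (AddMonoidHom.ext hcon)
  have ha00 : a0 ≠ 0 := fun e => ha0 (by rw [e, map_zero])
  obtain ⟨x, hx, ex⟩ := h.exists_x (val_mem (h.th p a0)) (fun e => ha0 (val_inj e)) (h.j_mem a0)
  have hps : h.ps ⟨x, hx⟩ (h.th p a0) = a0 := h.j_inj ((h.j_ps _ _).trans ex)
  have hne : h.ps ⟨x, hx⟩ ≠ 0 := fun e => ha00 (by rw [← hps, e]; rfl)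
  obtain ⟨q, hq, hq'⟩ := h.ps_mem _ hne
  have h1 : h.th q a0 = h.th p a0 := by
    conv_lhs => rw [← hps]
    exact DFunLike.congr_fun hq (h.th p a0)
  have h2 : h.th (q * p⁻¹) = 0 := h.th_eq_zero_of_apply ha00 (by
    rw [h.th_mul, h.th_inv]
    show h.th q a0 + -(h.th p a0) = 0
    rw [h1, add_neg_cancel])
  rw [h.th_mul, h.th_inv, add_neg_eq_zero] at h2
  rw [← h2]
  exact ⟨_, hq, hq'⟩

theorem nontrivial_vec (h : Pair V g Y) : Nontrivial (Additive V) := by
  haveI := (nontrivial_iff_ne_bot _).2 (h.setup.ne_bot h.ne)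
  infer_instance

theorem nontrivial_end (h : Pair V g Y) : Nontrivial (AddMonoid.End (Additive V)) := by
  obtain ⟨a, ha⟩ := @exists_ne _ h.nontrivial_vec (0 : Additive V)
  exact ⟨1, 0, fun e => ha (DFunLike.congr_fun e a)⟩

theorem jsub : JSub h.K := by
  haveI := h.nontrivial_end
  have hone : (1 : AddMonoid.End (Additive V)) ∈ h.K := ⟨_, h.th_y₁⟩
  have key : ∀ a ∈ h.K, ∀ c ∈ h.K, ∀ c' : AddMonoid.End (Additive V), a ≠ 0 → c * c' = 1 →
      c' * c = 1 → a * c' * a ∈ h.K := by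
    intro a ha c hc c' ha0 hcc hcc'
    have hself : ∀ z : AddMonoid.End (Additive V), z + z = 0 := fun z => by
      rw [← two_mul, h.two, zero_mul]
    by_cases hb0 : a + c = 0
    · have : a = c := by rw [eq_neg_of_add_eq_zero_left hb0, neg_eq_iff_add_eq_zero, hself]
      rw [this, hcc, one_mul]; exact hc
    obtain ⟨p, rfl⟩ := ha
    obtain ⟨q, hq⟩ := add_mem (show h.th p ∈ h.K from ⟨p, rfl⟩) hc
    obtain ⟨x, hx1, hx2⟩ := h.exists_ps (p := q) (hq ▸ hb0)
    rw [hq] at hx1 hx2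
    have hu : 1 + h.ps x * h.th p = h.ps x * c := by
      rw [← hx2, mul_add, add_comm (h.ps x * h.th p), add_assoc, hself, add_zero]
    have hune : h.ps x * c ≠ 0 := fun e => by
      have : c = 0 := by rw [← one_mul c, ← hx1, mul_assoc, e, mul_zero]
      rw [this, zero_mul] at hcc
      exact zero_ne_one hcc
    obtain ⟨r, hr⟩ := h.graph (c := (x : G) * (p : G) * g) (α := h.th p)
      (β := h.ps x * c) (fun a => by
        rw [← hu, mul_assoc, ← cj_cj, ← cj_cj (p : G)]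
        have e := h.conj_val_j_R x (h.th p a) a
        have e' := h.conj_val_j_P p 0 a
        rw [val_zero, one_mul, zero_add] at e'
        rw [← e'] at e
        show val (h.th p a) * h.j (a + h.ps x (h.th p a)) ∈ _
        rw [add_comm a, ← e]
        exact cj_mem (cj_mem (h.j_mem a))) hune
    have e1 : h.th r * h.ps x = h.th p * c' := by
      calc h.th r * h.ps x = h.th r * (h.ps x * c) * c' := by
            rw [mul_assoc, mul_assoc, hcc, mul_one]
        _ = h.th p * c' := by rw [hr]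
    have e2 : h.th r = h.th p * c' * h.th p + h.th p := by
      calc h.th r = h.th r * h.ps x * (h.th p + c) := by rw [mul_assoc, hx2, mul_one]
        _ = h.th p * c' * h.th p + h.th p := by rw [e1, mul_add, mul_assoc _ c' c, hcc', mul_one]
    have : h.th p * c' * h.th p = h.th r + h.th p := by rw [e2, add_assoc, hself, add_zero]
    rw [this]
    exact add_mem ⟨r, rfl⟩ ⟨p, rfl⟩
  have hinv : ∀ a ∈ h.K, a ≠ 0 → ∃ b ∈ h.K, a * b = 1 ∧ b * a = 1 := by
    rintro _ ⟨p, rfl⟩ hp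
    obtain ⟨x, h1, h2⟩ := h.exists_ps hp
    refine ⟨h.ps x, ?_, h1, h2⟩
    simpa using key 1 hone _ ⟨p, rfl⟩ _ one_ne_zero h1 h2
  refine ⟨hone, h.two, hinv, fun a ha b hb => ?_⟩
  by_cases ha0 : a = 0
  · rw [ha0, zero_mul, zero_mul]; exact zero_mem _
  by_cases hb0 : b = 0
  · rw [hb0, mul_zero, zero_mul]; exact zero_mem _
  obtain ⟨c, hc, h1, h2⟩ := hinv b hb hb0
  exact key a ha c hc b ha0 h2 h1

theorem ps_mem_K (x : cj g (PP V)) : h.ps x ∈ h.K := by
  by_cases hx : h.ps x = 0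
  · rw [hx]; exact zero_mem _
  haveI := h.nontrivial_end
  obtain ⟨p, h1, h2⟩ := h.ps_mem x hx
  obtain ⟨b, hb, h3, -⟩ := h.jsub.inv _ ⟨p, rfl⟩ (fun e => by
    rw [e, zero_mul] at h1; exact zero_ne_one h1)
  rwa [show h.ps x = b by rw [← mul_one (h.ps x), ← h3, ← mul_assoc, h2, one_mul]]

theorem exists_ps_eq {k : AddMonoid.End (Additive V)} (hk : k ∈ h.K) : ∃ x, h.ps x = k := by
  haveI := h.nontrivial_end
  by_cases hk0 : k = 0
  · exact ⟨1, hk0.symm ▸ AddMonoidHom.ext fun a => h.j_inj ((h.j_ps 1 a).trans (by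
      rw [Subgroup.coe_one, commutatorElement_one_left]
      exact h.j_zero.symm))⟩
  obtain ⟨b, ⟨p, rfl⟩, h1, h2⟩ := h.jsub.inv k hk hk0
  obtain ⟨x, -, h3⟩ := h.exists_ps (p := p) (fun e => by
    rw [e, mul_zero] at h1; exact zero_ne_one h1)
  exact ⟨x, by rw [← mul_one (h.ps x), ← h2, ← mul_assoc, h3, one_mul]⟩

theorem card_K : Nat.card h.K = Nat.card V := by
  rw [← h.card_Y]
  refine (Nat.card_congr (Equiv.ofBijective
    (fun y : Y => (⟨h.th ⟨y, h.Y_le y.2⟩, ⟨_, rfl⟩⟩ : h.K)) ⟨?_, ?_⟩)).symm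
  · intro y y' e
    obtain ⟨a, ha⟩ := @exists_ne _ h.nontrivial_vec (0 : Additive V)
    have e' : ⁅(y : G), h.j a⁆ = ⁅(y' : G), h.j a⁆ :=
      congrArg (fun k : h.K => val ((k : AddMonoid.End (Additive V)) a)) e
    refine Subtype.ext (mul_inv_eq_one.1 (h.eq_one_of_commute (mul_mem y.2 (inv_mem y'.2))
      (h.j_mem a) (h.j_ne ha) (comm_eq_one.1 ?_)))
    rw [h.setup.comm_mul_left (h.Y_le y.2) (inv_mem (h.Y_le y'.2)) (h.le (h.j_mem a)),
      h.setup.comm_inv_left (h.Y_le y'.2) (h.le (h.j_mem a)), e',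
      h.setup.sq (h.setup.comm_mem (h.Y_le y'.2) (h.le (h.j_mem a)))]
  · rintro ⟨_, ⟨p, hp⟩, rfl⟩
    obtain ⟨y, hy, p0, hp0, hp0', rfl⟩ := h.decomp hp
    refine ⟨⟨y, hy⟩, Subtype.ext (AddMonoidHom.ext fun a => val_inj ?_)⟩
    show ⁅y, h.j a⁆ = ⁅y * p0, h.j a⁆
    rw [h.setup.comm_mul_left (h.Y_le hy) hp0 (h.le (h.j_mem a)),
      comm_eq_one.2 (hp0' _ (h.j_mem a)), mul_one]

/-- The matrix action on `V × V`. -/
def matFun {F : Type} [CommRing F] (φ : F →+* AddMonoid.End (Additive V))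
    (m : Matrix (Fin 2) (Fin 2) F) (q : Additive V × Additive V) : Additive V × Additive V :=
  (φ (m 0 0) q.1 + φ (m 0 1) q.2, φ (m 1 0) q.1 + φ (m 1 1) q.2)

omit [Finite G] in
theorem matFun_mul {F : Type} [CommRing F] (φ : F →+* AddMonoid.End (Additive V))
    (m n : Matrix (Fin 2) (Fin 2) F) (q : Additive V × Additive V) :
    matFun φ (m * n) q = matFun φ m (matFun φ n q) := by
  have e : ∀ (a b c d : AddMonoid.End (Additive V)) (x : Additive V),
      (a * b + c * d) x = a (b x) + c (d x) := fun a b c d x => rfl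
  simp only [matFun, Matrix.mul_apply, Fin.sum_univ_two, map_add, map_mul, e]
  refine Prod.ext ?_ ?_ <;> abel

omit [Finite G] in
theorem matFun_one {F : Type} [CommRing F] (φ : F →+* AddMonoid.End (Additive V))
    (q : Additive V × Additive V) : matFun φ 1 q = q := by
  simp [matFun]

/-- The matrix action on `V × V`, as a homomorphism. -/
def matAct {F : Type} [CommRing F] (φ : F →+* AddMonoid.End (Additive V)) :
    Matrix.SpecialLinearGroup (Fin 2) F →* Function.End (Additive V × Additive V) where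
  toFun m := matFun φ m.1
  map_one' := funext fun q => matFun_one φ q
  map_mul' m n := funext fun q => matFun_mul φ m.1 n.1 q

include h in
theorem exists_iso (H : Subgroup G) (hH : H = PP V ⊔ cj g (PP V))
    (hN : ((centralizer ((V ⊔ cj g V : Subgroup G) : Set G)).subgroupOf H).Normal) :
    ∃ (F : Type) (_ : Field F) (_ : Fintype F), Fintype.card F = Nat.card V ∧
      Nonempty (↥H ⧸ (centralizer ((V ⊔ cj g V : Subgroup G) : Set G)).subgroupOf H ≃*
        Matrix.SpecialLinearGroup (Fin 2) F) := by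
  haveI := h.nontrivial_end
  haveI : Finite (AddMonoid.End (Additive V)) := DFunLike.finite _
  obtain ⟨F, iF, iFt, φ, hcard, hrange⟩ := CfsgLib.JordanField.exists_field h.jsub
  refine ⟨F, iF, iFt, hcard.trans h.card_K, ?_⟩
  have hPH : PP V ≤ H := hH ▸ le_sup_left
  have hRH : cj g (PP V) ≤ H := hH ▸ le_sup_right
  -- coordinates on `W`
  let emb : Additive V × Additive V → ↥(V ⊔ cj g V) := fun q =>
    ⟨val q.1 * h.j q.2, mul_mem (mem_sup_left (val_mem _)) (mem_sup_right (h.j_mem _))⟩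
  have hemb : Function.Bijective emb := by
    refine ⟨fun q q' e => ?_, fun x => ?_⟩
    · have e' : val q.1 * h.j q.2 = val q'.1 * h.j q'.2 := congrArg Subtype.val e
      have e2 : (val q'.1)⁻¹ * val q.1 = h.j q'.2 * (h.j q.2)⁻¹ := by
        rw [eq_mul_inv_iff_mul_eq, mul_assoc, e', inv_mul_cancel_left]
      have e3 := h.eq_one_of_mem (e2 ▸ mul_mem (h.j_mem q'.2) (inv_mem (h.j_mem q.2)))
        (mul_mem (inv_mem (val_mem q'.1)) (val_mem q.1))
      rw [e3] at e2
      exact Prod.ext (val_inj (inv_mul_eq_one.1 e3).symm) (h.j_inj (mul_inv_eq_one.1 e2.symm).symm)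
    · obtain ⟨v, hv, w, hw, e⟩ := (h.setup.mem_W h.le).1 x.2
      refine ⟨(Additive.ofMul ⟨v, hv⟩,
        Additive.ofMul ⟨⁅h.y₁, w⁆, h.setup.comm_mem (h.Y_le h.y₁_mem) (h.le hw)⟩), Subtype.ext ?_⟩
      show v * h.j _ = _
      rw [h.j_surj hw, e]
  let T := Equiv.ofBijective emb hemb
  have hHW : ∀ (a : H) (x : ↥(V ⊔ cj g V)), (a : G) * x * (a : G)⁻¹ ∈ V ⊔ cj g V := fun a x =>
    (mem_normalizer_iff.1 (h.sup_le_normalizer (hH ▸ a.2)) _).1 x.2
  let μ0 : H →* Function.End (Additive V × Additive V) :=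
    { toFun := fun a q => T.symm ⟨(a : G) * (T q) * (a : G)⁻¹, hHW a (T q)⟩
      map_one' := funext fun q => by
        refine T.symm_apply_eq.2 (Subtype.ext ?_)
        simp [Function.End.one_def]
      map_mul' := fun a b => funext fun q => by
        refine T.symm_apply_eq.2 (Subtype.ext ?_)
        show ((a * b : H) : G) * _ * _ =
          ((T (T.symm ⟨_, hHW a (T (T.symm ⟨_, hHW b (T q)⟩))⟩)) : G)
        simp [mul_assoc] }
  have hμ : ∀ (a : H) q q', (a : G) * (T q : G) * (a : G)⁻¹ = (T q' : G) → μ0 a q = q' :=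
    fun a q q' e => T.symm_apply_eq.2 (Subtype.ext e)
  let μ := μ0.toHomUnits
  let σ := (matAct φ).toHomUnits
  have hφ : ∀ k, k ∈ h.K ↔ ∃ c, φ c = k := fun k => by
    rw [← SetLike.mem_coe, ← hrange]; rfl
  have hup : ∀ (p : PP V) (c : F), φ c = h.th p →
      μ ⟨p, hPH p.2⟩ = σ (CfsgLib.SL2Pair.up c) := by
    intro p c e
    refine Units.ext (funext fun q => hμ _ q _ ?_)
    show (p : G) * (val q.1 * h.j q.2) * (p : G)⁻¹ =
      val (matFun φ (CfsgLib.SL2Pair.up c).1 q).1 * h.j (matFun φ (CfsgLib.SL2Pair.up c).1 q).2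
    rw [h.conj_val_j_P]
    simp [matFun, CfsgLib.SL2Pair.up_coe, e]
  have hlow : ∀ (x : cj g (PP V)) (c : F), φ c = h.ps x →
      μ ⟨x, hRH x.2⟩ = σ (CfsgLib.SL2Pair.low c) := by
    intro x c e
    refine Units.ext (funext fun q => hμ _ q _ ?_)
    show (x : G) * (val q.1 * h.j q.2) * (x : G)⁻¹ =
      val (matFun φ (CfsgLib.SL2Pair.low c).1 q).1 * h.j (matFun φ (CfsgLib.SL2Pair.low c).1 q).2
    rw [h.conj_val_j_R]
    simp [matFun, CfsgLib.SL2Pair.low_coe, e]
  have hsup : (⊤ : Subgroup H) = (PP V).subgroupOf H ⊔ (cj g (PP V)).subgroupOf H := by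
    rw [← subgroupOf_sup hPH hRH, ← hH, subgroupOf_self]
  have hrange' : μ.range = σ.range := by
    refine le_antisymm ?_ ?_
    · rw [MonoidHom.range_eq_map, hsup, Subgroup.map_sup]
      refine sup_le ?_ ?_
      · rintro _ ⟨⟨p, hp⟩, hp', rfl⟩
        obtain ⟨c, hc⟩ := (hφ _).1 ⟨⟨p, mem_subgroupOf.1 hp'⟩, rfl⟩
        exact ⟨_, (hup ⟨p, mem_subgroupOf.1 hp'⟩ c hc).symm⟩
      · rintro _ ⟨⟨x, hx⟩, hx', rfl⟩
        obtain ⟨c, hc⟩ := (hφ _).1 (h.ps_mem_K ⟨x, mem_subgroupOf.1 hx'⟩)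
        exact ⟨_, (hlow ⟨x, mem_subgroupOf.1 hx'⟩ c hc).symm⟩
    · rw [MonoidHom.range_eq_map, ← CfsgLib.SL2Pair.sup_eq_top, Subgroup.map_sup]
      refine sup_le ?_ ?_
      · rintro _ ⟨m, hm, rfl⟩
        obtain ⟨c, rfl⟩ := CfsgLib.SL2Pair.mem_lower.1 hm
        obtain ⟨x, hx⟩ := h.exists_ps_eq ((hφ _).2 ⟨c, rfl⟩)
        exact ⟨_, hlow x c hx.symm⟩
      · rintro _ ⟨m, hm, rfl⟩
        obtain ⟨c, rfl⟩ := CfsgLib.SL2Pair.mem_upper.1 hm
        obtain ⟨p, hp⟩ := (hφ _).2 ⟨c, rfl⟩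
        exact ⟨_, hup p c hp.symm⟩
  have hker : μ.ker = (centralizer ((V ⊔ cj g V : Subgroup G) : Set G)).subgroupOf H := by
    ext a
    rw [MonoidHom.mem_ker, mem_subgroupOf, mem_centralizer_iff]
    constructor
    · intro e x hx
      obtain ⟨q, hq⟩ := T.surjective ⟨x, hx⟩
      have e0 : μ0 a = (1 : Function.End (Additive V × Additive V)) := congrArg Units.val e
      have e1 : μ0 a q = q := congrFun e0 q
      have e2 := congrArg Subtype.val (T.symm_apply_eq.1 e1)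
      simp only [hq] at e2
      exact (mul_inv_eq_iff_eq_mul.1 e2).symm
    · intro e
      refine Units.ext (funext fun q => hμ a q _ ?_)
      show (a : G) * (T q : G) * (a : G)⁻¹ = (T q : G)
      rw [← e _ (T q).2, mul_inv_cancel_right]
  have hinj : Function.Injective σ := by
    intro m n e
    have e0 : matAct φ m = matAct φ n := congrArg Units.val e
    have e' : ∀ q, matFun φ m.1 q = matFun φ n.1 q := fun q => congrFun e0 q
    have h1 : ∀ a, φ (m.1 0 0) a = φ (n.1 0 0) a ∧ φ (m.1 1 0) a = φ (n.1 1 0) a := fun a => by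
      have := e' (a, 0); simpa [matFun] using this
    have h2 : ∀ a, φ (m.1 0 1) a = φ (n.1 0 1) a ∧ φ (m.1 1 1) a = φ (n.1 1 1) a := fun a => by
      have := e' (0, a); simpa [matFun] using this
    refine Subtype.ext (Matrix.ext fun i k => φ.injective (AddMonoidHom.ext fun a => ?_))
    fin_cases i <;> fin_cases k
    exacts [(h1 a).1, (h2 a).1, (h1 a).2, (h2 a).2]
  haveI := hN
  exact ⟨(QuotientGroup.quotientMulEquivOfEq hker.symm).trans
    ((QuotientGroup.quotientKerEquivRange μ).trans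
      ((MulEquiv.subgroupCongr hrange').trans (MonoidHom.ofInjective hinj).symm))⟩

end Pair

end CfsgLib.Timm
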